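import Cfsg.Agent.AltTwelveType.Local

/-!
The outer twist of the model: multiply by the central involution according to the parity of the
permutation of the six pairs.
-/

set_option autoImplicit false
set_option maxRecDepth 100000
set_option maxHeartbeats 1000000

namespace Cfsg.Lib.AltTwelveType

open Equiv

/-- the pair of a point -/
def pairOf (x : Fin 12) : Fin 6 := ⟨x.val / 2, by omega⟩
/-- a point of a pair -/
def ptOf (i : Fin 6) : Fin 12 := ⟨2 * i.val, by omega⟩

theorem pair_facts : (∀ x : Fin 12, x = ptOf (pairOf x) ∨ x = αp (ptOf (pairOf x))) ∧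
    (∀ x : Fin 12, pairOf (αp x) = pairOf x) ∧ (∀ i, pairOf (ptOf i) = i) := by decide +kernel

theorem pair_map (m : Mh) (x : Fin 12) : pairOf (m.1 (ptOf (pairOf x))) = pairOf (m.1 x) := by
  have hc : ∀ y, m.1 (αp y) = αp (m.1 y) := fun y =>
    Equiv.congr_fun (Subgroup.mem_centralizer_singleton_iff.1 m.2.2) y
  rcases pair_facts.1 x with h | h
  · rw [← h]
  · rw [congrArg m.1 h, hc, pair_facts.2.1]

/-- the permutation of the pairs -/
def pairPerm (m : Mh) : Equiv.Perm (Fin 6) where
  toFun i := pairOf (m.1 (ptOf i))
  invFun i := pairOf ((m⁻¹ : Mh).1 (ptOf i))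
  left_inv i := by
    beta_reduce
    rw [pair_map, show (m⁻¹ : Mh).1 (m.1 (ptOf i)) = ptOf i from m.1.symm_apply_apply _, pair_facts.2.2]
  right_inv i := by
    beta_reduce
    rw [pair_map, show m.1 ((m⁻¹ : Mh).1 (ptOf i)) = ptOf i from m.1.apply_symm_apply _, pair_facts.2.2]

/-- the permutation of the pairs, as a homomorphism -/
def pairHom : Mh →* Equiv.Perm (Fin 6) :=
  MonoidHom.mk' pairPerm fun m n => Equiv.ext fun i => (pair_map m (n.1 (ptOf i))).symm

/-- the parity of the permutation of the pairs -/
def chi : Mh →* ℤˣ := Equiv.Perm.sign.comp pairHom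

/-- the twisting element -/
def tws (u : ℤˣ) : Mh := if u = 1 then 1 else αm

theorem tws_mul (u v : ℤˣ) : tws (u * v) = tws u * tws v := by
  have h : αm * αm = 1 := pa_sq 21
  rcases Int.units_eq_one_or u with rfl | rfl <;> rcases Int.units_eq_one_or v with rfl | rfl <;>
    simp [tws, h]

theorem tws_central (u : ℤˣ) (m : Mh) : tws u * m = m * tws u := by
  unfold tws; split
  · rw [one_mul, mul_one]
  · exact αm_central m

/-- the twist -/
def twist : Mh →* Mh :=
  MonoidHom.mk' (fun m => m * tws (chi m)) fun m n => by
    show m * n * tws (chi (m * n)) = m * tws (chi m) * (n * tws (chi n))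
    rw [map_mul, tws_mul]
    calc m * n * (tws (chi m) * tws (chi n)) = m * (n * tws (chi m)) * tws (chi n) := by group
      _ = m * (tws (chi m) * n) * tws (chi n) := by rw [tws_central (chi m) n]
      _ = _ := by group

theorem chi_pa : ∀ a : Fin 64, chi (pa a) = if (twA a = a) then 1 else -1 := by decide +kernel

theorem twist_pa (a : Fin 64) : twist (pa a) = pa (twA a) := by
  show pa a * tws (chi (pa a)) = pa (twA a)
  rw [chi_pa]
  by_cases h : twA a = a
  · simp [tws, h]
  · rw [if_neg h, show tws (-1) = αm from if_neg (by decide)]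
    show pa a * pa 21 = _
    rw [pa_mul]
    congr 1
    revert h a; decide +kernel

theorem chi_αm : chi αm = 1 := (chi_pa 21).trans (if_pos (by decide +kernel))

theorem twist_αm : twist αm = αm := by
  show αm * tws (chi αm) = αm
  rw [chi_αm]; simp [tws]

theorem twist_twist (m : Mh) : twist (twist m) = m := by
  show m * tws (chi m) * tws (chi (m * tws (chi m))) = m
  have h : ∀ u, chi (tws u) = 1 := fun u => by
    unfold tws; split
    · exact map_one chi
    · exact chi_αm
  rw [map_mul, h, mul_one, mul_assoc, ← tws_mul, Int.units_mul_self]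
  simp [tws]

/-- the twist, as an automorphism -/
def twistEquiv : Mh ≃* Mh :=
  { twist with invFun := twist, left_inv := twist_twist, right_inv := twist_twist }

end Cfsg.Lib.AltTwelveType
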