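import Cfsg.Prelude.Def_Transfer
import Cfsg.Agent.AltTwelveType.Twist
import Cfsg.Agent.InvolCalc.Classes

/-!
A finite group with a central involution whose centraliser is the model: the Sylow subgroup, the
weakly closed elementary subgroup of order 64 and the conjugacy of involutions into it.
-/

set_option autoImplicit false
set_option linter.unusedSectionVars false
set_option linter.style.haveILetI false
set_option maxRecDepth 10000

namespace Cfsg.Lib.AltTwelveType

open Subgroup

/-- the standing hypotheses -/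
structure Setting (G : Type*) [Group G] where
  /-- the centraliser -/
  φ : Mh →* G
  inj : Function.Injective φ
  range_eq : φ.range = centralizer {φ αm}
  /-- the Sylow subgroup -/
  syl : Sylow 2 G
  syl_eq : (syl : Subgroup G) = Sm.map φ

variable {G : Type*} [Group G] [Finite G]

/-- A Sylow subgroup of the model. -/
theorem Sm_sylow : ∃ P : Sylow 2 Mh, (P : Subgroup Mh) = Sm := by
  haveI : Fact (Nat.Prime 2) := ⟨Nat.prime_two⟩
  have hS : IsPGroup 2 Sm := IsPGroup.of_card (n := 9) (by rw [card_Sm]; norm_num)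
  have hi : ¬ 2 ∣ Sm.index := by
    have h := Sm.card_mul_index
    rw [card_Sm, card_Mh] at h
    omega
  exact ⟨hS.toSylow hi, rfl⟩

/-- Every involution of the model is conjugate into the elementary subgroup. -/
theorem invol_into_A {m : Mh} (h : m * m = 1) : ∃ c : Mh, ∃ b : Fin 64, c * m * c⁻¹ = pa b := by
  haveI : Fact (Nat.Prime 2) := ⟨Nat.prime_two⟩
  obtain ⟨P, hP⟩ := Sm_sylow
  have hp : IsPGroup 2 (zpowers m) := by
    intro x
    obtain ⟨k, hk⟩ := mem_zpowers_iff.1 x.2
    refine ⟨1, Subtype.ext ?_⟩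
    show (x : Mh) ^ (2 ^ 1) = 1
    rw [pow_one, ← hk, ← zpow_natCast, ← zpow_mul, mul_comm, zpow_mul, zpow_natCast, pow_two, h, one_zpow]
  obtain ⟨a, ha⟩ := Cfsg.Lib.InvolCalc.exists_conj_le P hp
  have hx := ha m (mem_zpowers m)
  rw [hP] at hx
  obtain ⟨c, b, hc⟩ := into_A hx (by
    calc a⁻¹ * m * a * (a⁻¹ * m * a) = a⁻¹ * (m * m) * a := by group
      _ = 1 := by rw [h]; group)
  exact ⟨c * a⁻¹, b, by rw [← hc]; group⟩

/-- An elementary subgroup of order 64 of the Sylow subgroup is the standard one. -/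
theorem elem_eq {B : Subgroup Mh} (hB : B ≤ Sm) (hc : Nat.card B = 64) (hcomm : ∀ x ∈ B, ∀ y ∈ B, x * y = y * x)
    (hsq : ∀ x ∈ B, x * x = 1) : ∀ x ∈ B, ∃ a, x = pa a := by
  classical
  let P : Fin 8 → Bool := fun k => decide (∃ a, pa a * pk (e8 k) ∈ B)
  obtain ⟨hlt, hbit⟩ := maskOf_spec P
  have hel : ∀ a b : Fin 64, ∀ k l : Fin 8, pa a * pk (e8 k) ∈ B → pa b * pk (e8 l) ∈ B →
      pa (axor a (act (e8 k) b)) * pk (kmul (e8 k) (e8 l)) = pa a * pk (e8 k) * (pa b * pk (e8 l)) := by
    intro a b k l _ _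
    rw [← pa_mul, ← pk_mul]
    calc pa a * pa (act (e8 k) b) * (pk (e8 k) * pk (e8 l)) = pa a * (pa (act (e8 k) b) * pk (e8 k)) * pk (e8 l) := by
          group
      _ = _ := by rw [← pk_pa]; group
  have hset : elemSet (maskOf P) = true := by
    have h0 : e8 0 = 0 := rfl
    simp only [elemSet, Bool.and_eq_true, List.all_eq_true, Bool.or_eq_true, Bool.not_eq_true', decide_eq_true_eq]
    refine ⟨?_, fun k _ => ?_⟩
    · rw [show (0 : ℕ) = (0 : Fin 8).val from rfl, hbit]
      exact decide_eq_true ⟨0, by rw [h0, pa_zero, pk_zero, one_mul]; exact B.one_mem⟩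
    cases hk : (maskOf P).testBit k.val
    · exact Or.inl rfl
    rw [hbit] at hk
    obtain ⟨a, ha⟩ := of_decide_eq_true hk
    refine Or.inr ⟨?_, fun l _ => ?_⟩
    · exact (pair_inj ((hel a a k k ha ha).trans ((hsq _ ha).trans
        (show (1 : Mh) = pa 0 * pk 0 by rw [pa_zero, pk_zero, one_mul])))).2
    cases hl : (maskOf P).testBit l.val
    · exact Or.inl rfl
    rw [hbit] at hl
    obtain ⟨b, hb⟩ := of_decide_eq_true hl
    have h1 := hel a b k l ha hb
    refine Or.inr ⟨(pair_inj (h1.trans ((hcomm _ ha _ hb).trans (hel b a l k hb ha).symm))).2, ?_⟩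
    have hm := h1.symm ▸ B.mul_mem ha hb
    have hlt8 : (kmul (e8 k) (e8 l)).val < 8 := by
      have h8 : ∀ k l : Fin 8, (kmul (e8 k) (e8 l)).val < 8 := by decide +kernel
      exact h8 k l
    rw [show (kmul (e8 k) (e8 l)).val = (⟨_, hlt8⟩ : Fin 8).val from rfl, hbit]
    exact decide_eq_true ⟨_, hm⟩
  by_cases hone : maskOf P = 1
  · intro x hx
    obtain ⟨a, k, hk, rfl⟩ := hB hx
    have : P ⟨k.val, hk⟩ = true := decide_eq_true ⟨a, hx⟩
    rw [← hbit, hone] at this
    have hk0 : k = 0 := Fin.ext (Nat.testBit_one_eq_true_iff_self_eq_zero.1 this)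
    exact ⟨a, by rw [hk0, pk_zero, mul_one]⟩
  exfalso
  have hsmall := elem_small ⟨maskOf P, hlt⟩ hset hone
  let I := (List.finRange 8).filter fun k => (maskOf P).testBit k.val
  let F := fixList (maskOf P)
  have hcoord : ∀ x : B, ∃ a : Fin 64, ∃ k : Fin 8, (x : Mh) = pa a * pk (e8 k) := fun x => by
    obtain ⟨a, k, hk, h⟩ := hB x.2
    exact ⟨a, ⟨k.val, hk⟩, h⟩
  choose ca ck hx using hcoord
  let base : Fin 8 → Fin 64 := fun k => if h : ∃ a, pa a * pk (e8 k) ∈ B then h.choose else 0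
  have hbase : ∀ x : B, pa (base (ck x)) * pk (e8 (ck x)) ∈ B := fun x => by
    have h : ∃ a, pa a * pk (e8 (ck x)) ∈ B := ⟨ca x, hx x ▸ x.2⟩
    simp only [base, dif_pos h]; exact h.choose_spec
  have hfix : ∀ x : B, axor (ca x) (base (ck x)) ∈ F := fun x => by
    have hd : pa (axor (ca x) (base (ck x))) ∈ B := by
      have := B.mul_mem (hx x ▸ x.2 : pa (ca x) * pk (e8 (ck x)) ∈ B) (B.inv_mem (hbase x))
      rw [show pa (ca x) * pk (e8 (ck x)) * (pa (base (ck x)) * pk (e8 (ck x)))⁻¹ =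
        pa (ca x) * (pa (base (ck x)))⁻¹ by group, pa_inv, pa_mul] at this
      exact this
    set d := axor (ca x) (base (ck x))
    simp only [F, fixList, List.mem_filter, List.mem_finRange, true_and, List.all_eq_true, Bool.or_eq_true,
      Bool.not_eq_true', decide_eq_true_eq]
    intro k _
    cases hk : (maskOf P).testBit k.val
    · exact Or.inl rfl
    rw [hbit] at hk
    obtain ⟨a, ha⟩ := of_decide_eq_true hk
    refine Or.inr ?_
    have hc2 := hcomm _ ha _ hd
    rw [mul_assoc, pk_pa, ← mul_assoc, pa_mul, ← mul_assoc, pa_mul] at hc2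
    have h2 := (pair_inj hc2).1
    have hx3 : ∀ a d e : Fin 64, axor a e = axor d a → e = d := by decide +kernel
    exact hx3 a d _ h2
  have hI : ∀ x : B, ck x ∈ I := fun x => by
    simp only [I, List.mem_filter, List.mem_finRange, true_and]
    rw [hbit]; exact decide_eq_true ⟨ca x, hx x ▸ x.2⟩
  let f : B → {k // k ∈ I} × {a // a ∈ F} := fun x => (⟨_, hI x⟩, ⟨_, hfix x⟩)
  have hf : Function.Injective f := fun x y e => by
    have e1 : ck x = ck y := congrArg (fun p => p.1.1) e
    have e2 : axor (ca x) (base (ck x)) = axor (ca y) (base (ck x)) :=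
      (congrArg (fun p => p.2.1) e).trans (by rw [e1])
    have hx2 : ∀ a b c : Fin 64, axor a c = axor b c → a = b := fun a b c h => by
      have := congrArg (fun t => pa t) h
      rw [← pa_mul, ← pa_mul] at this
      exact pa_inj (mul_right_cancel this)
    apply Subtype.ext
    rw [hx x, hx y, e1, hx2 _ _ _ e2]
  have := Nat.card_le_card_of_injective f hf
  rw [hc, Nat.card_prod] at this
  have hI' : Nat.card {k // k ∈ I} ≤ I.length := by
    rw [Nat.card_eq_fintype_card, Fintype.card_of_subtype I.toFinset (fun _ => List.mem_toFinset)]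
    exact I.toFinset_card_le
  have hF' : Nat.card {a // a ∈ F} ≤ F.length := by
    rw [Nat.card_eq_fintype_card, Fintype.card_of_subtype F.toFinset (fun _ => List.mem_toFinset)]
    exact F.toFinset_card_le
  exact absurd (this.trans (Nat.mul_le_mul hI' hF')) (by simpa [I, F] using Nat.not_le.2 hsmall)

namespace Setting

variable (S : Setting G)

/-- the central involution -/
def α : G := S.φ αm

theorem mem_cent {x : G} : x * S.α = S.α * x ↔ ∃ m, S.φ m = x := by
  have h : x ∈ S.φ.range ↔ ∃ m, S.φ m = x := Iff.rfl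
  rw [← h, S.range_eq, mem_centralizer_singleton_iff]; rfl

theorem φ_comm (m : Mh) : S.φ m * S.α = S.α * S.φ m := by
  unfold α; rw [← map_mul, ← map_mul, αm_central]

/-- the elementary subgroup -/
def el (v : Fin 64) : G := S.φ (pa v)

theorem el_alpha : S.el 21 = S.α := rfl
theorem el_zero : S.el 0 = 1 := by rw [el, pa_zero, map_one]
theorem el_mul (v w : Fin 64) : S.el v * S.el w = S.el (axor v w) := by rw [el, el, el, ← map_mul, pa_mul]
theorem el_sq (v : Fin 64) : S.el v * S.el v = 1 := by rw [el, ← map_mul, pa_sq, map_one]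
theorem el_inj {v w : Fin 64} (h : S.el v = S.el w) : v = w := pa_inj (S.inj h)
theorem el_comm (v w : Fin 64) : S.el v * S.el w = S.el w * S.el v := by
  have h : ∀ v w : Fin 64, axor v w = axor w v := by decide +kernel
  rw [el_mul, el_mul, h]

/-- the elementary subgroup of order 64 -/
def AG : Subgroup G where
  carrier := Set.range S.el
  one_mem' := ⟨0, S.el_zero⟩
  mul_mem' := by rintro _ _ ⟨v, rfl⟩ ⟨w, rfl⟩; exact ⟨_, (S.el_mul v w).symm⟩
  inv_mem' := by rintro _ ⟨v, rfl⟩; exact ⟨v, (inv_eq_of_mul_eq_one_right (S.el_sq v)).symm⟩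

theorem el_mem (v : Fin 64) : S.el v ∈ S.AG := ⟨v, rfl⟩

theorem AG_le : S.AG ≤ (S.syl : Subgroup G) := by
  rintro _ ⟨v, rfl⟩; rw [S.syl_eq]; exact ⟨pa v, pa_mem_Sm v, rfl⟩

theorem card_AG : Nat.card S.AG = 64 := by
  have e : Fin 64 ≃ S.AG := Equiv.ofBijective (fun v => ⟨S.el v, S.el_mem v⟩)
    ⟨fun v w h => S.el_inj (congrArg Subtype.val h), fun x => by
      obtain ⟨v, hv⟩ := x.2; exact ⟨v, Subtype.ext hv⟩⟩
  rw [← Nat.card_congr e, Nat.card_fin]

theorem unique_in_syl {B : Subgroup G} (hB : B ≤ (S.syl : Subgroup G)) (hc : Nat.card B = 64)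
    (hcomm : ∀ x ∈ B, ∀ y ∈ B, x * y = y * x) (hsq : ∀ x ∈ B, x * x = 1) : B = S.AG := by
  have hle : B ≤ S.φ.range := hB.trans (S.syl_eq ▸ map_le_range _ _)
  have hB' : B.comap S.φ ≤ Sm := fun m hm => by
    have := hB hm
    rw [S.syl_eq] at this
    obtain ⟨n, hn, e⟩ := this
    exact S.inj e ▸ hn
  have hc' : Nat.card (B.comap S.φ) = 64 := by
    rw [← card_map_of_injective S.inj, map_comap_eq, inf_eq_right.2 hle, hc]
  have key := elem_eq hB' hc' (fun x hx y hy => S.inj (by rw [map_mul, map_mul]; exact hcomm _ hx _ hy))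
    fun x hx => S.inj (by rw [map_mul, map_one]; exact hsq _ hx)
  refine eq_of_le_of_card_ge (fun x hx => ?_) (by rw [S.card_AG, hc])
  obtain ⟨m, rfl⟩ := hle hx
  obtain ⟨a, rfl⟩ := key m hx
  exact S.el_mem a

theorem weakly_closed : Cfsg.IsWeaklyClosed S.AG (S.syl : Subgroup G) := by
  refine ⟨S.AG_le, fun g hg => S.unique_in_syl hg ?_ ?_ ?_⟩
  · rw [card_map_of_injective (MulEquiv.injective _), S.card_AG]
  · rintro _ ⟨_, ⟨v, rfl⟩, rfl⟩ _ ⟨_, ⟨w, rfl⟩, rfl⟩
    rw [← map_mul, ← map_mul, S.el_comm]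
  · rintro _ ⟨_, ⟨v, rfl⟩, rfl⟩
    rw [← map_mul, S.el_sq, map_one]

/-- Conjugate elements of the elementary subgroup are conjugate in its normaliser. -/
theorem control {v : Fin 64} {g : G} (h : g * S.el v * g⁻¹ ∈ S.AG) :
    ∃ n ∈ normalizer (S.AG : Set G), n * S.el v * n⁻¹ = g * S.el v * g⁻¹ := by
  haveI : Fact (Nat.Prime 2) := ⟨Nat.prime_two⟩
  have hcent : ∀ a ∈ S.AG, a ∈ centralizer (S.AG : Set G) := by
    rintro _ ⟨v, rfl⟩
    exact mem_centralizer_iff.2 (by rintro _ ⟨w, rfl⟩; exact S.el_comm w v)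
  exact Cfsg.Lib.InvolCalc.weaklyClosed_control S.syl S.weakly_closed (hcent _ (S.el_mem v)) (hcent _ h)

/-- Every involution commuting with the central one is conjugate into the elementary subgroup. -/
theorem cent_into_A {x : G} (hx : x * x = 1) (hc : x * S.α = S.α * x) :
    ∃ c : Mh, ∃ b : Fin 64, S.φ c * x * (S.φ c)⁻¹ = S.el b := by
  obtain ⟨m, rfl⟩ := S.mem_cent.1 hc
  obtain ⟨c, b, h⟩ := invol_into_A (m := m) (S.inj (by rw [map_mul, hx, map_one]))
  exact ⟨c, b, by rw [el, ← h, map_mul, map_mul, map_inv]⟩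

/-- Every involution is conjugate into the elementary subgroup. -/
theorem into_AG {x : G} (hx : orderOf x = 2) : ∃ g : G, ∃ b : Fin 64, g * x * g⁻¹ = S.el b := by
  haveI : Fact (Nat.Prime 2) := ⟨Nat.prime_two⟩
  obtain ⟨a, ha⟩ := Cfsg.Lib.InvolCalc.exists_conj_le S.syl (H := zpowers x)
    (IsPGroup.of_card (n := 1) (by rw [Nat.card_zpowers, hx, pow_one]))
  have hy := ha x (mem_zpowers x)
  rw [S.syl_eq] at hy
  obtain ⟨m, -, hm⟩ := hy
  have h2 : m * m = 1 := S.inj (by
    rw [map_mul, hm, map_one, show a⁻¹ * x * a * (a⁻¹ * x * a) = a⁻¹ * (x * x) * a by group,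
      Cfsg.Lib.InvolCalc.sq_of_order_two hx]
    group)
  obtain ⟨c, b, h⟩ := invol_into_A h2
  exact ⟨S.φ c * a⁻¹, b, by rw [el, ← h, map_mul, map_mul, map_inv, hm]; group⟩

/-- the setting composed with the twist -/
noncomputable def twisted : Setting G where
  φ := S.φ.comp twist
  inj := S.inj.comp twistEquiv.injective
  range_eq := by
    rw [MonoidHom.range_comp, MonoidHom.range_eq_top.2 twistEquiv.surjective, ← MonoidHom.range_eq_map,
      S.range_eq, MonoidHom.comp_apply, twist_αm]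
  syl := S.syl
  syl_eq := by
    rw [S.syl_eq, ← Subgroup.map_map]
    congr 1
    have hle : Sm ≤ Sm.map twist := fun m hm => by
      refine ⟨twist m, ?_, twist_twist m⟩
      show m * tws (chi m) ∈ Sm
      refine Sm.mul_mem hm ?_
      unfold tws; split
      · exact Sm.one_mem
      · exact pa_mem_Sm 21
    refine eq_of_le_of_card_ge hle ?_
    rw [card_map_of_injective twistEquiv.injective]

theorem twisted_el (v : Fin 64) : S.twisted.el v = S.el (twA v) := by
  show S.φ (twist (pa v)) = S.φ (pa (twA v))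
  rw [twist_pa]

theorem twisted_alpha : S.twisted.α = S.α := by
  show S.φ (twist αm) = S.φ αm
  rw [twist_αm]

end Setting

end Cfsg.Lib.AltTwelveType
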