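import Cfsg.Agent.AltTwelveType.Norm

/-!
The alternating case: the three block cycles are induced, and the classes in the elementary subgroup
are given by the weight.
-/

set_option autoImplicit false
set_option linter.unusedSectionVars false
set_option linter.style.haveILetI false
set_option maxRecDepth 100000
set_option maxHeartbeats 1000000

namespace Cfsg.Lib.AltTwelveType

open Subgroup

/-- the linear map with the given images of the unit vectors -/
def linA (t : List (Fin 64)) (v : Fin 64) : Fin 64 :=
  (List.finRange 6).foldl (fun r i => if v.val.testBit i.val then axor r (t.getD i.val 0) else r) 0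

/-- the weight: the number of non-zero blocks -/
def weight (v : Fin 64) : ℕ :=
  ((List.finRange 3).filter fun b => decide ((v.val >>> (2 * b.val)) % 4 ≠ 0)).length

/-- the cycle of a block -/
def blockCycle (b : Fin 3) : Fin 64 → Fin 64 :=
  linA ([[2, 3, 4, 8, 16, 32], [1, 2, 8, 12, 16, 32], [1, 2, 4, 8, 32, 48]].getD b.val [])

/-- the flip of the second block -/
def flipMid : Fin 64 → Fin 64 := linA [1, 2, 4, 12, 16, 32]

/-- the weight one coordinates -/
def w1List : List (Fin 64) := (List.finRange 64).filter fun v => weight v == 1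

theorem w1_c1 : ∀ v : Fin 64, c1 oAlt v = 18 ↔ v ∈ w1List := by decide +kernel

/-- the final test on the images of the unit vectors -/
def finalTest (t : List (Fin 64)) : Bool :=
  ((List.finRange 64).any fun v => !(oAlt (linA t v) == oAlt v)) ||
    ((List.finRange 24).any fun k =>
      ((List.finRange 64).all fun v => decide (linA t (act k v) = blockCycle 0 v)) ||
        ((List.finRange 64).all fun v => decide (linA t (act k v) = blockCycle 0 (flipMid v))))

/-- all admissible images pass the test -/
def thetaTest : Bool :=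
  w1List.all fun x0 => w1List.all fun x1 => !w1List.elem (axor x0 x1) ||
    w1List.all fun x2 => w1List.elem (axor x0 x2) || w1List.all fun x3 => !w1List.elem (axor x2 x3) ||
      w1List.all fun x4 => !decide (axor x0 (axor x2 x4) = 22) ||
        w1List.all fun x5 => !w1List.elem (axor x4 x5) || finalTest [x0, x1, x2, x3, x4, x5]

theorem thetaTest_true : thetaTest = true := by decide +kernel

theorem theta_cases {x0 x1 x2 x3 x4 x5 : Fin 64} (h0 : x0 ∈ w1List) (h1 : x1 ∈ w1List)
    (h01 : axor x0 x1 ∈ w1List) (h2 : x2 ∈ w1List) (h02 : axor x0 x2 ∉ w1List) (h3 : x3 ∈ w1List)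
    (h23 : axor x2 x3 ∈ w1List) (h4 : x4 ∈ w1List) (h22 : axor x0 (axor x2 x4) = 22) (h5 : x5 ∈ w1List)
    (h45 : axor x4 x5 ∈ w1List) (ho : ∀ v, oAlt (linA [x0, x1, x2, x3, x4, x5] v) = oAlt v) :
    ∃ k : Fin 24, (∀ v, linA [x0, x1, x2, x3, x4, x5] (act k v) = blockCycle 0 v) ∨
      (∀ v, linA [x0, x1, x2, x3, x4, x5] (act k v) = blockCycle 0 (flipMid v)) := by
  have h := thetaTest_true
  unfold thetaTest at h
  rw [List.all_eq_true] at h
  have ha := h x0 h0
  rw [List.all_eq_true] at ha
  have hb := ha x1 h1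
  rw [Bool.or_eq_true, List.all_eq_true] at hb
  have hc := (hb.resolve_left (by simp [h01])) x2 h2
  rw [Bool.or_eq_true, List.all_eq_true] at hc
  have hd := (hc.resolve_left (by simpa using h02)) x3 h3
  rw [Bool.or_eq_true, List.all_eq_true] at hd
  have he := (hd.resolve_left (by simp [h23])) x4 h4
  rw [Bool.or_eq_true, List.all_eq_true] at he
  have hf := (he.resolve_left (by simp [h22])) x5 h5
  rw [Bool.or_eq_true] at hf
  have hg := hf.resolve_left (by simp [h45])
  simp only [finalTest, Bool.or_eq_true, List.any_eq_true, List.all_eq_true, decide_eq_true_eq,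
    List.mem_finRange, true_and, forall_const, Bool.not_eq_true', beq_eq_false_iff_ne] at hg
  rcases hg with ⟨v, hv⟩ | hk
  · exact absurd (ho v) hv
  · exact hk

theorem lin_eval (θ : Fin 64 → Fin 64) (hadd : ∀ v w, θ (axor v w) = axor (θ v) (θ w)) :
    ∀ v, θ v = linA [θ 1, θ 2, θ 4, θ 8, θ 16, θ 32] v := by
  have h0 : θ 0 = 0 := by
    have h := hadd 0 0
    have hz : ∀ a : Fin 64, axor a a = 0 := by decide +kernel
    exact h.trans (hz (θ 0))
  have hdec : ∀ v : Fin 64, v = linA [1, 2, 4, 8, 16, 32] v := by decide +kernel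
  have key : ∀ (t : List (Fin 64)) (l : List (Fin 6)) (v r : Fin 64),
      θ (l.foldl (fun r i => if v.val.testBit i.val then axor r (t.getD i.val 0) else r) r) =
        l.foldl (fun r i => if v.val.testBit i.val then axor r ((t.map θ).getD i.val 0) else r) (θ r) := by
    intro t l v
    induction l with
    | nil => intro r; rfl
    | cons i l ih =>
      intro r
      rw [List.foldl_cons, List.foldl_cons, ih]
      congr 1
      have hg : (t.map θ).getD i.val 0 = θ (t.getD i.val 0) := by
        rw [← h0, List.getD_map, h0]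
      split
      · rw [hadd, hg]
      · rfl
  intro v
  conv_lhs => rw [hdec v]
  unfold linA
  rw [key, h0]
  rfl

theorem cycle_word_one : ∀ v, act 4 (blockCycle 0 (act 4 v)) = blockCycle 1 v := by decide +kernel
theorem cycle_word_two : ∀ v, act 12 (blockCycle 0 (act 12 v)) = blockCycle 2 v := by decide +kernel
theorem gamma_flip : ∀ v, (blockCycle 0 ∘ flipMid) ((blockCycle 0 ∘ flipMid) ((blockCycle 0 ∘ flipMid) v)) = flipMid v := by
  decide +kernel
theorem flipMid_not : ∀ k : Fin 24, act k ≠ flipMid := fun k h =>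
  absurd (fun v => congrFun h v : ∀ v, act k v = flipMid v) (by revert k; decide +kernel)
theorem flipMid_alpha : flipMid 21 = 21 := by decide +kernel

/-- iterates of the block cycles -/
def cycPow (i j l : Fin 3) (v : Fin 64) : Fin 64 :=
  (blockCycle 0)^[i.val] ((blockCycle 1)^[j.val] ((blockCycle 2)^[l.val] v))

theorem weight_trans : ∀ v w : Fin 64, weight v = weight w →
    ∃ k : Fin 24, ∃ i j l : Fin 3, act k (cycPow i j l v) = w := by decide +kernel

theorem weight_c1 : ∀ v : Fin 64, v ≠ 0 → (c1 oAlt v = 18 ∧ weight v = 1) ∨ (c1 oAlt v = 12 ∧ weight v = 2) ∨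
    (c1 oAlt v = 8 ∧ weight v = 3) := by decide +kernel

namespace Setting

variable {G : Type*} [Group G] [Finite G] {S : Setting G} (hA : ∀ v, S.o v = oAlt v)

include hA

theorem ind_cycle_zero : S.Ind (blockCycle 0) := by
  obtain ⟨θ, hθ, h21⟩ := S.ind_theta (v := 22) (by rw [hA]; decide +kernel)
  have hfun : S.o = oAlt := funext hA
  have hw : ∀ v, θ v ∈ w1List ↔ v ∈ w1List := fun v => by
    rw [← w1_c1, ← w1_c1, ← hfun, hθ.c1_eq S]
  have hlin := lin_eval θ (hθ.add S)
  have hm : ∀ a b : Fin 64, axor (θ a) (θ b) ∈ w1List ↔ axor a b ∈ w1List := fun a b => by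
    rw [← hθ.add S, hw]
  obtain ⟨k, hk | hk⟩ := theta_cases ((hw 1).2 (by decide +kernel)) ((hw 2).2 (by decide +kernel))
    ((hm 1 2).2 (by decide +kernel)) ((hw 4).2 (by decide +kernel))
    (fun h => absurd ((hm 1 4).1 h) (by decide +kernel)) ((hw 8).2 (by decide +kernel))
    ((hm 4 8).2 (by decide +kernel)) ((hw 16).2 (by decide +kernel))
    (by rw [← hθ.add S, ← hθ.add S, ← h21]; congr 1)
    ((hw 32).2 (by decide +kernel)) ((hm 16 32).2 (by decide +kernel))
    (fun v => by rw [← hlin, ← hA, hθ.o_eq S, hA])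
  · have : θ ∘ act k = blockCycle 0 := funext fun v => (hlin _).trans (hk v)
    rw [← this]
    exact hθ.comp S (S.ind_act k)
  · exfalso
    have e : θ ∘ act k = blockCycle 0 ∘ flipMid := funext fun v => (hlin _).trans (hk v)
    have h := hθ.comp S (S.ind_act k)
    rw [e] at h
    have h3 := h.comp S (h.comp S h)
    have e3 : (blockCycle 0 ∘ flipMid) ∘ (blockCycle 0 ∘ flipMid) ∘ (blockCycle 0 ∘ flipMid) = flipMid :=
      funext gamma_flip
    rw [e3] at h3
    obtain ⟨k', hk'⟩ := h3.stab S flipMid_alpha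
    exact flipMid_not k' hk'.symm

/-- The three block cycles are induced. -/
theorem ind_cycle (b : Fin 3) : S.Ind (blockCycle b) := by
  have h0 := ind_cycle_zero hA
  have h1 : act 4 ∘ blockCycle 0 ∘ act 4 = blockCycle 1 := funext cycle_word_one
  have h2 : act 12 ∘ blockCycle 0 ∘ act 12 = blockCycle 2 := funext cycle_word_two
  fin_cases b
  · exact h0
  · exact h1 ▸ (S.ind_act 4).comp S (h0.comp S (S.ind_act 4))
  · exact h2 ▸ (S.ind_act 12).comp S (h0.comp S (S.ind_act 12))

theorem ind_cycPow (i j l : Fin 3) : S.Ind (cycPow i j l) := by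
  have hit : ∀ (b : Fin 3) (n : ℕ), S.Ind (blockCycle b)^[n] := by
    intro b n
    induction n with
    | zero => exact ⟨1, fun v => by simp⟩
    | succ n ih => rw [Function.iterate_succ]; exact ih.comp S (ind_cycle hA b)
  exact (hit 0 i.val).comp S ((hit 1 j.val).comp S (hit 2 l.val))

/-- Conjugacy in the elementary subgroup is given by the weight. -/
theorem conj_iff_weight {v w : Fin 64} : IsConj (S.el v) (S.el w) ↔ weight v = weight w := by
  constructor
  · intro h
    obtain ⟨g, hg⟩ := isConj_iff.1 h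
    obtain ⟨n, hn, hne⟩ := S.control (v := v) (g := g) (by rw [hg]; exact S.el_mem w)
    rw [hg] at hne
    have hex : ∀ x, ∃ u, S.el u = n * S.el x * n⁻¹ := fun x => (mem_normalizer_iff.1 hn _).1 (S.el_mem x)
    choose θ hθ using hex
    have hi : S.Ind θ := ⟨n, fun x => (hθ x).symm⟩
    have hvw : θ v = w := S.el_inj (by rw [hθ, hne])
    have hc := hi.c1_eq S v
    rw [hvw, show S.o = oAlt from funext hA] at hc
    by_cases hv0 : v = 0
    · have : θ 0 = 0 := S.el_inj (by rw [hθ, S.el_zero]; group)
      rw [← hvw, hv0, this]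
    have hw0 : w ≠ 0 := fun e => hv0 (hi.injective S (hvw.trans (e.trans
      (S.el_inj (by rw [hθ, S.el_zero]; group : S.el (θ 0) = S.el 0)).symm)))
    rcases weight_c1 v hv0 with ⟨a, b⟩ | ⟨a, b⟩ | ⟨a, b⟩ <;>
      rcases weight_c1 w hw0 with ⟨c, d⟩ | ⟨c, d⟩ | ⟨c, d⟩ <;> omega
  · intro h
    obtain ⟨k, i, j, l, e⟩ := weight_trans v w h
    obtain ⟨n, hn⟩ := (S.ind_act k).comp S (ind_cycPow hA i j l)
    exact isConj_iff.2 ⟨n, (hn v).trans (congrArg S.el e)⟩

end Setting

end Cfsg.Lib.AltTwelveType
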