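import Cfsg.Agent.AltTwelveType.Core

/-!
The alternating case: an odd subgroup normalised by the elementary subgroup is trivial.
-/

set_option autoImplicit false
set_option linter.unusedSectionVars false
set_option linter.style.haveILetI false
set_option maxRecDepth 10000

namespace Cfsg.Lib.AltTwelveType

open Subgroup

theorem pure_four : oAlt 21 = true ∧ oAlt 42 = true ∧ oAlt 63 = true ∧ axor 21 42 = 63 := by decide +kernel

namespace Setting

variable {G : Type*} [Group G] [Finite G] {S : Setting G}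

theorem inverts_odd {v : Fin 64} (hv : S.o v = true) {P : Subgroup G} (hodd : Odd (Nat.card P))
    (hn : ∀ w, ∀ p ∈ P, S.el w * p * (S.el w)⁻¹ ∈ P) {p : G} (hp : p ∈ P) :
    S.el v * p * (S.el v)⁻¹ = p⁻¹ := by
  have hbot := S.odd_local hv (P := P ⊓ centralizer ({S.el v} : Set G))
    (hodd.of_dvd_nat (card_dvd_of_le inf_le_left)) (fun q hq => mem_centralizer_singleton_iff.1 hq.2)
    (fun w q hq => by
      refine ⟨hn w q hq.1, mem_centralizer_singleton_iff.2 ?_⟩
      calc S.el w * q * (S.el w)⁻¹ * S.el v = S.el w * q * ((S.el w)⁻¹ * S.el v * S.el w) * (S.el w)⁻¹ := by group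
        _ = S.el w * (q * S.el v) * (S.el w)⁻¹ := by rw [mul_assoc (S.el w)⁻¹, S.el_comm v w]; group
        _ = S.el w * S.el v * q * (S.el w)⁻¹ := by rw [mem_centralizer_singleton_iff.1 hq.2]; group
        _ = S.el v * (S.el w * q * (S.el w)⁻¹) := by rw [S.el_comm w v]; group)
  let f : P →* P := MonoidHom.mk' (fun q => ⟨S.el v * q * (S.el v)⁻¹, hn v q q.2⟩) fun a b => Subtype.ext (by
    show S.el v * ((a : G) * b) * (S.el v)⁻¹ = S.el v * a * (S.el v)⁻¹ * (S.el v * b * (S.el v)⁻¹)
    group)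
  have hfree : MonoidHom.FixedPointFree f := fun q hq => Subtype.ext (by
    have h1 : S.el v * q * (S.el v)⁻¹ = q := congrArg Subtype.val hq
    exact (eq_bot_iff.1 hbot) ⟨q.2, mem_centralizer_singleton_iff.2 (by
      calc (q : G) * S.el v = S.el v * q * (S.el v)⁻¹ * S.el v := by rw [h1]
        _ = S.el v * q := by group)⟩)
  have hi : Function.Involutive f := fun q => Subtype.ext (by
    show S.el v * (S.el v * q * (S.el v)⁻¹) * (S.el v)⁻¹ = (q : G)
    calc S.el v * (S.el v * (q : G) * (S.el v)⁻¹) * (S.el v)⁻¹ = S.el v * S.el v * q * (S.el v * S.el v)⁻¹ := by group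
      _ = q := by rw [S.el_sq]; group)
  exact congrArg Subtype.val (congrFun (hfree.coe_eq_inv_of_involutive hi) ⟨p, hp⟩)

theorem odd_normalised_alt (hS : ∀ v, S.o v = oAlt v) {P : Subgroup G} (hodd : Odd (Nat.card P))
    (hn : ∀ w, ∀ p ∈ P, S.el w * p * (S.el w)⁻¹ ∈ P) : P = ⊥ := by
  obtain ⟨h1, h2, h3, h4⟩ := pure_four
  rw [eq_bot_iff]
  intro p hp
  rw [mem_bot]
  refine Cfsg.Lib.AltEightType.eq_one_of_odd_two hodd hp ?_
  have e := inverts_odd (S := S) (v := 63) (by rw [hS]; exact h3) hodd hn hp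
  have e1 := inverts_odd (S := S) (v := 21) (by rw [hS]; exact h1) hodd hn (P.inv_mem hp)
  have e2 := inverts_odd (S := S) (v := 42) (by rw [hS]; exact h2) hodd hn hp
  have : p⁻¹ = p := by
    rw [← e]
    calc S.el 63 * p * (S.el 63)⁻¹ = S.el 21 * S.el 42 * p * (S.el 21 * S.el 42)⁻¹ := by rw [S.el_mul, h4]
      _ = S.el 21 * (S.el 42 * p * (S.el 42)⁻¹) * (S.el 21)⁻¹ := by group
      _ = p := by rw [e2, e1, inv_inv]
  calc p * p = p⁻¹ * p := by rw [this]
    _ = 1 := inv_mul_cancel p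

end Setting

end Cfsg.Lib.AltTwelveType
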