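import Cfsg.Agent.AltTwelveType.Core
import Mathlib.GroupTheory.SchurZassenhaus

/-!
An element isolated modulo a central involution of a centraliser, when no odd subgroup is normalised by
the elementary subgroup.
-/

set_option autoImplicit false
set_option linter.unusedSectionVars false
set_option linter.style.haveILetI false
set_option maxRecDepth 10000
set_option maxHeartbeats 1000000

namespace Cfsg.Lib.AltTwelveType

open Subgroup

namespace Setting

variable {G : Type*} [Group G] [Finite G] {S : Setting G}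

theorem el_order' {v : Fin 64} (hv : v ≠ 0) : orderOf (S.el v) = 2 :=
  Cfsg.Lib.InvolCalc.order_two_of_mul_self (S.el_sq v) fun h => hv (S.el_inj (h.trans S.el_zero.symm))

/-- Isolation modulo a coordinate involution gives an invariant pair. -/
theorem mod_isolated {r s : Fin 64} (hr : r ≠ 0) (hs : s ≠ 0) (hrs : s ≠ r)
    (hodd : ∀ P : Subgroup G, Odd (Nat.card P) → (∀ w, ∀ p ∈ P, S.el w * p * (S.el w)⁻¹ ∈ P) → P = ⊥)
    (hiso : ∀ g : G, g * S.el r = S.el r * g →
      (g * S.el s * g⁻¹ * S.el s = S.el s * (g * S.el s * g⁻¹) ∨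
        g * S.el s * g⁻¹ * S.el s = S.el s * (g * S.el s * g⁻¹) * S.el r) →
      g * S.el s * g⁻¹ = S.el s ∨ g * S.el s * g⁻¹ = S.el (axor s r))
    {g : G} (hg : g * S.el r = S.el r * g) :
    g * S.el s * g⁻¹ = S.el s ∨ g * S.el s * g⁻¹ = S.el (axor s r) := by
  classical
  set X := centralizer ({S.el r} : Set G) with hX
  have hxX : S.el r ∈ X := mem_centralizer_singleton_iff.2 rfl
  have haX : S.el s ∈ X := mem_centralizer_singleton_iff.2 (S.el_comm s r)
  let x : X := ⟨S.el r, hxX⟩
  let a : X := ⟨S.el s, haX⟩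
  have hxc : ∀ y : X, y * x = x * y := fun y => Subtype.ext (mem_centralizer_singleton_iff.1 y.2)
  set N := zpowers x with hN
  haveI : N.Normal := ⟨fun n hn y => by
    obtain ⟨i, rfl⟩ := mem_zpowers_iff.1 hn
    rw [((show Commute y x from hxc y).zpow_right i).eq, mul_inv_cancel_right]
    exact zpow_mem (mem_zpowers x) i⟩
  have hx2 : x * x = 1 := Subtype.ext (S.el_sq r)
  have hx1 : x ≠ 1 := fun h => hr (S.el_inj ((congrArg Subtype.val h).trans S.el_zero.symm))
  have hNmem : ∀ {y : X}, y ∈ N → y = 1 ∨ y = x := by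
    intro y hy
    obtain ⟨i, rfl⟩ := mem_zpowers_iff.1 hy
    rcases Int.even_or_odd i with ⟨j, rfl⟩ | ⟨j, rfl⟩
    · left; rw [← two_mul, zpow_mul, show x ^ (2 : ℤ) = 1 by rw [zpow_two, hx2], one_zpow]
    · right; rw [zpow_add, zpow_mul, show x ^ (2 : ℤ) = 1 by rw [zpow_two, hx2], one_zpow, one_mul, zpow_one]
  let π := QuotientGroup.mk' N
  have hπ : ∀ {p q : X}, π p = π q → q = p ∨ q = p * x := by
    intro p q h
    have h1 : p⁻¹ * q ∈ N := QuotientGroup.eq.1 h
    rcases hNmem h1 with e | e
    · exact Or.inl (by calc q = p * (p⁻¹ * q) := by group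
        _ = p := by rw [e, mul_one])
    · exact Or.inr (by calc q = p * (p⁻¹ * q) := by group
        _ = p * x := by rw [e])
  have haxA : ((a * x : X) : G) = S.el (axor s r) := S.el_mul s r
  have ha2 : a * a = 1 := Subtype.ext (S.el_sq s)
  have hā : orderOf (π a) = 2 := by
    refine Cfsg.Lib.InvolCalc.order_two_of_mul_self (by rw [← map_mul, ha2, map_one]) fun h => ?_
    rcases hNmem ((QuotientGroup.eq_one_iff a).1 h) with e | e
    · exact hs (S.el_inj ((congrArg Subtype.val e).trans S.el_zero.symm))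
    · exact hrs (S.el_inj (congrArg Subtype.val e))
  have hiso' : Cfsg.IsIsolatedInvolution (π a) := by
    refine ⟨hā, fun q hq => ?_⟩
    obtain ⟨y, rfl⟩ := QuotientGroup.mk'_surjective N q
    set b : X := y * a * y⁻¹ with hb
    have eb : π y * π a * (π y)⁻¹ = π b := by rw [hb, map_mul, map_mul, map_inv]
    rw [eb] at hq ⊢
    have hcases : ((b : G) * S.el s = S.el s * b ∨ (b : G) * S.el s = S.el s * b * S.el r) := by
      rcases hπ (show π (a * b) = π (b * a) by rw [map_mul, map_mul]; exact hq) with h | h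
      · exact Or.inl (congrArg Subtype.val h)
      · exact Or.inr (congrArg Subtype.val h)
    rcases hiso y (mem_centralizer_singleton_iff.1 y.2) hcases with e | e
    · rw [show b = a from Subtype.ext e]
    · rw [show b = a * x from Subtype.ext (e.trans haxA.symm), map_mul,
        show π x = 1 from (QuotientGroup.eq_one_iff x).2 (mem_zpowers x), mul_one]
  have hcore : Cfsg.oddCore (X ⧸ N) = ⊥ := by
    set P := (Cfsg.oddCore (X ⧸ N)).comap π with hP
    have hxP : N ≤ P := fun y hy => by
      show π y ∈ Cfsg.oddCore (X ⧸ N)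
      rw [show π y = 1 from (QuotientGroup.eq_one_iff y).2 hy]; exact one_mem _
    let ρ : P →* Cfsg.oddCore (X ⧸ N) := π.subgroupComap _
    have hρs : Function.Surjective ρ := fun q => by
      obtain ⟨y, hy⟩ := QuotientGroup.mk'_surjective N q.1
      exact ⟨⟨y, show π y ∈ _ by rw [show π y = q.1 from hy]; exact q.2⟩, Subtype.ext hy⟩
    have hker : ρ.ker = N.subgroupOf P := by
      ext y
      rw [MonoidHom.mem_ker, mem_subgroupOf]
      exact ⟨fun h => (QuotientGroup.eq_one_iff _).1 (congrArg Subtype.val h),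
        fun h => Subtype.ext ((QuotientGroup.eq_one_iff _).2 h)⟩
    haveI : (N.subgroupOf P).Normal := hker ▸ MonoidHom.normal_ker ρ
    have hidx : (N.subgroupOf P).index = Nat.card (Cfsg.oddCore (X ⧸ N)) := by
      rw [← hker, index_ker, MonoidHom.range_eq_top.2 hρs, card_top]
    have hNc : Nat.card (N.subgroupOf P) = 2 := by
      rw [Nat.card_congr (subgroupOfEquivOfLe hxP).toEquiv, hN, Nat.card_zpowers]
      exact Cfsg.Lib.InvolCalc.order_two_of_mul_self hx2 hx1
    have hO := Cfsg.Lib.AltEightType.odd_oddCore (X ⧸ N)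
    obtain ⟨K, hK⟩ := exists_right_complement'_of_coprime (N := N.subgroupOf P) (by
      rw [hidx, hNc]; exact Nat.coprime_two_left.2 hO)
    have hKodd : Odd (Nat.card K) := by rw [← hK.symm.index_eq_card, hidx]; exact hO
    set m := Nat.card K with hm
    have hKmem : ∀ p : P, p ^ m = 1 → p ∈ K := by
      intro p hp
      obtain ⟨⟨n, k⟩, hnk⟩ := hK.2 p
      have hnk' : (n : P) * k = p := hnk
      rcases hNmem (show ((n : P) : X) ∈ N from n.2) with e | e
      · rw [← hnk', show (n : P) = 1 from Subtype.ext e, one_mul]; exact k.2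
      · exfalso
        have hcn : Commute (n : P) (k : P) := Subtype.ext (by
          show ((n : P) : X) * ((k : P) : X) = ((k : P) : X) * ((n : P) : X)
          rw [e, hxc])
        have hkm : (k : P) ^ m = 1 := congrArg Subtype.val (pow_card_eq_one' (x := k))
        rw [← hnk', hcn.mul_pow, hkm, mul_one] at hp
        obtain ⟨j, hj⟩ := hKodd
        rw [hj, pow_succ, pow_mul, pow_two, show (n : P) * n = 1 from Subtype.ext (by
          show ((n : P) : X) * ((n : P) : X) = 1
          rw [e, hx2]), one_pow, one_mul] at hp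
        exact hx1 (e.symm.trans (congrArg Subtype.val hp))
    let O : Subgroup G := (K.map P.subtype).map X.subtype
    have hOodd : Odd (Nat.card O) := by
      rw [card_map_of_injective X.subtype_injective, card_map_of_injective P.subtype_injective]; exact hKodd
    have hOn : ∀ w, ∀ p ∈ O, S.el w * p * (S.el w)⁻¹ ∈ O := by
      rintro w _ ⟨_, ⟨k, hk, rfl⟩, rfl⟩
      let y : X := ⟨S.el w, mem_centralizer_singleton_iff.2 (S.el_comm w r)⟩
      have hy : y * (k : X) * y⁻¹ ∈ P :=
        (Normal.comap (inferInstance : (Cfsg.oddCore (X ⧸ N)).Normal) π).conj_mem _ k.2 y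
      refine ⟨y * (k : X) * y⁻¹, ⟨⟨_, hy⟩, hKmem _ (Subtype.ext ?_), rfl⟩, rfl⟩
      show (y * (k : X) * y⁻¹) ^ m = 1
      have hkm : (k : P) ^ m = 1 := congrArg Subtype.val (pow_card_eq_one' (x := (⟨k, hk⟩ : K)))
      rw [conj_pow, show (k : X) ^ m = 1 from congrArg Subtype.val hkm]
      group
    have hK1 : Nat.card K = 1 := by
      rw [← card_map_of_injective P.subtype_injective, ← card_map_of_injective X.subtype_injective]
      show Nat.card O = 1
      rw [hodd O hOodd hOn, card_bot]
    exact Subgroup.eq_bot_of_card_eq _ (by rw [← hidx, hK.symm.index_eq_card]; exact hK1)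
  have hgX : g ∈ X := mem_centralizer_singleton_iff.2 hg
  obtain ⟨k, hk, hkg⟩ := Cfsg.Lib.AltEightType.isolated_of_commuting (C := ⊤) (mem_top _) hiso'.1
    (fun q _ => hiso'.2 q) (mem_top (π ⟨g, hgX⟩))
  have hk1 : k = 1 := by
    haveI : (Cfsg.Lib.AltEightType.core (⊤ : Subgroup (X ⧸ N))).Normal :=
      ⟨fun y hy z => (mem_normalizer_iff.1 (Cfsg.Lib.AltEightType.core_normalized (mem_top z)) y).1 hy⟩
    have h := Cfsg.Lib.AltEightType.le_oddCore (Cfsg.Lib.AltEightType.odd_core (⊤ : Subgroup (X ⧸ N))) hk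
    rw [hcore] at h
    exact h
  rw [hk1, inv_one, one_mul, mem_centralizer_singleton_iff] at hkg
  have h' : π (⟨g, hgX⟩ * a * ⟨g, hgX⟩⁻¹) = π a := by
    rw [map_mul, map_mul, map_inv, hkg]; group
  rcases hπ h'.symm with e | e
  · exact Or.inl (congrArg Subtype.val e)
  · exact Or.inr ((congrArg Subtype.val e).trans haxA)

end Setting

end Cfsg.Lib.AltTwelveType
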