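import Cfsg.Agent.AltTwelveType.AltOrbit
import Cfsg.Agent.AltTwelveType.AltOdd
import Cfsg.Agent.AltTwelveType.ModIso

/-!
The alternating case: the centraliser of an involution of weight one normalises its four group.
-/

set_option autoImplicit false
set_option linter.unusedSectionVars false
set_option linter.style.haveILetI false
set_option maxRecDepth 100000
set_option maxHeartbeats 1000000

namespace Cfsg.Lib.AltTwelveType

open Subgroup

theorem centred_conj : ∀ i j : Fin 6, i.val < 4 → j.val < 4 →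
    (∀ z, swapPair i j (aFun 16 z) = aFun 16 (swapPair i j z)) ∧
    (∀ z, swapPair i j (aFun 32 z) = aFun 32 (swapPair i j z)) := by decide +kernel

/-- conjugators inside the centraliser of the last block -/
def conjsTwo : List (Fin 6 × Fin 6) := [(1, 2), (1, 3), (0, 2), (0, 3)]

theorem conjsTwo_lt : ∀ c ∈ conjsTwo, c.1.val < 4 ∧ c.2.val < 4 := by decide +kernel

theorem table_two : ∀ a : Fin 64, ∀ k : Fin 8, act (e8 k) 32 = 32 → k ≠ 0 →
    (∀ x, aFun a (kFun (e8 k) (aFun a (kFun (e8 k) x))) = x) →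
    conjsTwo.any (fun c => decide (∀ x, conjFun c a (e8 k) x = aFun (code (conjFun c a (e8 k))) x)) = true := by
  decide +kernel

theorem weight_one_iff : ∀ v : Fin 64, weight v = 1 ↔ wtOne v = true := by decide +kernel

theorem same_support : ∀ a b : Fin 64, wtOne a = true → wtOne b = true → wtOne (axor a b) = true →
    ∀ z, (aFun a z = z ↔ aFun b z = z) := by decide +kernel

theorem last_pairs : ∀ b : Fin 64, wtOne b = true → wtOne (axor b 16) = true → b = 32 ∨ b = 48 := by decide +kernel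

theorem block_two : (∀ z : Fin 12, aFun 16 z = z ↔ z.val < 8) ∧ (∀ z : Fin 12, z.val < 8 → aFun 32 z = z) := by
  decide +kernel

/-- flipping the high bit -/
def x2 (i : Fin 4) : Fin 4 := ⟨(i.val ^^^ 2) % 4, Nat.mod_lt _ (by omega)⟩

theorem block_perm : ∀ f : Fin 4 → Fin 4, (∀ i, f (f i) = i) → (∀ i, f i ≠ i) → ∀ i : Fin 4,
    f (x2 i) = x2 (f i) := by decide +kernel

/-- the last block -/
def blk (i : Fin 4) : Fin 12 := ⟨8 + i.val, by omega⟩

theorem aFun_32 : ∀ i : Fin 4, aFun 32 (blk i) = blk (x2 i) := by decide +kernel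

/-- An involution with the support of the last block commutes with its four group. -/
theorem comm_of_support {m : Mh} (h2 : ∀ z, m.1 (m.1 z) = z) (hs : ∀ z, (m.1 z = z ↔ z.val < 8)) (z : Fin 12) :
    m.1 (aFun 32 z) = aFun 32 (m.1 z) := by
  by_cases hz : z.val < 8
  · rw [block_two.2 z hz, (hs z).2 hz, block_two.2 z hz]
  have himg : ∀ i : Fin 4, 8 ≤ (m.1 (blk i)).val := fun i => by
    by_contra h
    have h1 := (hs _).2 (Nat.lt_of_not_le h)
    rw [h2] at h1
    exact h (by rw [← h1]; simp [blk])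
  let f : Fin 4 → Fin 4 := fun i => ⟨(m.1 (blk i)).val - 8, by omega⟩
  have hfe : ∀ i : Fin 4, m.1 (blk i) = blk (f i) := fun i =>
    Fin.ext (by simp only [f, blk]; have := himg i; simp only [blk] at this; omega)
  have hblk : ∀ i j, blk i = blk j → i = j := by decide +kernel
  have hff : ∀ i, f (f i) = i := fun i => by
    have h1 := h2 (blk i)
    rw [hfe i, hfe (f i)] at h1
    exact hblk _ _ h1
  have hfn : ∀ i, f i ≠ i := fun i h => by
    have h1 := (hs (blk i)).1 (by rw [hfe i, h])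
    simp [blk] at h1
  obtain ⟨i, hi⟩ : ∃ i : Fin 4, blk i = z := ⟨⟨z.val - 8, by omega⟩, Fin.ext (by simp [blk]; omega)⟩
  rw [← hi, hfe i, aFun_32 (f i), aFun_32 i, hfe (x2 i), block_perm f hff hfn i]

theorem mem_normalizer_maps {G : Type*} [Group G] [Finite G] {A : Subgroup G} {g : G}
    (h : ∀ a ∈ A, g * a * g⁻¹ ∈ A) : g ∈ normalizer (A : Set G) := by
  have h1 : A.map (MulAut.conj g).toMonoidHom = A :=
    Subgroup.eq_of_le_of_card_ge (by rintro _ ⟨a, ha, rfl⟩; exact h a ha)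
      (Subgroup.card_map_of_injective (MulAut.conj g).injective).ge
  rw [mem_normalizer_iff]
  refine fun y => ⟨h y, fun hy => ?_⟩
  rw [← h1] at hy
  obtain ⟨a, ha, hay⟩ := hy
  rwa [← (MulAut.conj g).injective hay]

namespace Setting

variable {G : Type*} [Group G] [Finite G] {S : Setting G}

theorem el_16_32 : S.el 32 * S.el 16 = S.el 48 := by rw [S.el_mul]; congr 1

/-- An element of the centraliser of the first exchanging the second with the product. -/
theorem flipper : ∃ r ∈ (S.syl : Subgroup G), r * S.el 16 = S.el 16 * r ∧ r * S.el 32 * r⁻¹ = S.el 48 := by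
  refine ⟨S.φ (pk 2), by rw [S.syl_eq]; exact ⟨_, pk_mem_Sm (by decide), rfl⟩, ?_, ?_⟩
  · have h : act 2 16 = 16 := by decide +kernel
    have := S.φ_el 2 16
    rw [h] at this
    exact mul_inv_eq_iff_eq_mul.1 this
  · rw [S.φ_el]; congr 1

theorem syl_cent {s : G} (hs : s ∈ (S.syl : Subgroup G)) :
    s * S.el 16 = S.el 16 * s ∧ (s * S.el 32 * s⁻¹ = S.el 32 ∨ s * S.el 32 * s⁻¹ = S.el 48) := by
  rw [S.syl_eq] at hs
  obtain ⟨_, ⟨a, k, hk, rfl⟩, rfl⟩ := hs
  have key : ∀ k : Fin 8, act (e8 k) 16 = 16 ∧ (act (e8 k) 32 = 32 ∨ act (e8 k) 32 = 48) := by decide +kernel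
  have he : e8 ⟨k.val, hk⟩ = k := rfl
  have hk' := key ⟨k.val, hk⟩
  rw [he] at hk'
  have hconj : ∀ v, S.φ (pa a * pk k) * S.el v * (S.φ (pa a * pk k))⁻¹ = S.el (act k v) := fun v => by
    rw [el, el, ← map_inv, ← map_mul, ← map_mul, pa_conj]
  refine ⟨mul_inv_eq_iff_eq_mul.1 ((hconj 16).trans (congrArg S.el hk'.1)), ?_⟩
  rw [hconj]
  rcases hk'.2 with e | e <;> rw [e] <;> simp

/-- An involution centralising the last four group is conjugate there into the elementary subgroup. -/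
theorem cent_last_into {t : G} (ht : orderOf t = 2) (h16 : t * S.el 16 = S.el 16 * t)
    (h32 : t * S.el 32 = S.el 32 * t) :
    ∃ c : G, c * S.el 16 = S.el 16 * c ∧ c * S.el 32 = S.el 32 * c ∧ ∃ b, c * t * c⁻¹ = S.el b := by
  haveI : Fact (Nat.Prime 2) := ⟨Nat.prime_two⟩
  set Y := centralizer ({S.el 16} : Set G) ⊓ normalizer ((zpowers (S.el 16) ⊔ zpowers (S.el 32) : Subgroup G) : Set G) with hY
  have hmemY : ∀ {g : G}, g * S.el 16 = S.el 16 * g → (g * S.el 32 * g⁻¹ = S.el 32 ∨ g * S.el 32 * g⁻¹ = S.el 48) →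
      g ∈ Y := by
    intro g hg hg'
    refine ⟨mem_centralizer_singleton_iff.2 hg, mem_normalizer_maps fun y hy => ?_⟩
    have hle : zpowers (S.el 16) ⊔ zpowers (S.el 32) ≤
        (zpowers (S.el 16) ⊔ zpowers (S.el 32)).comap (MulAut.conj g).toMonoidHom := by
      rw [sup_le_iff, zpowers_le, zpowers_le, mem_comap, mem_comap]
      have h1 : (MulAut.conj g).toMonoidHom (S.el 16) = S.el 16 := by
        simp [hg]
      refine ⟨by rw [h1]; exact mem_sup_left (mem_zpowers _), ?_⟩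
      rcases hg' with e | e
      · rw [show (MulAut.conj g).toMonoidHom (S.el 32) = S.el 32 from e]; exact mem_sup_right (mem_zpowers _)
      · rw [show (MulAut.conj g).toMonoidHom (S.el 32) = S.el 48 from e, ← el_16_32]
        exact mul_mem (mem_sup_right (mem_zpowers _)) (mem_sup_left (mem_zpowers _))
    exact hle hy
  have hSY : (S.syl : Subgroup G) ≤ Y := fun s hs => hmemY (syl_cent hs).1 (syl_cent hs).2
  have htY : t ∈ Y := hmemY h16 (Or.inl (by rw [h32, mul_inv_cancel_right]))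
  obtain ⟨c, hc⟩ := Cfsg.Lib.InvolCalc.exists_conj_le (S.syl.subtype hSY) (H := zpowers (⟨t, htY⟩ : Y))
    (IsPGroup.of_card (n := 1) (by rw [Nat.card_zpowers, Subgroup.orderOf_mk, ht, pow_one]))
  have hy : (c : G)⁻¹ * t * c ∈ (S.syl : Subgroup G) := hc _ (mem_zpowers _)
  -- adjust the conjugator to centralise the four group
  have hcinv16 : (c : G)⁻¹ * S.el 16 = S.el 16 * (c : G)⁻¹ :=
    (show Commute (c : G) (S.el 16) from mem_centralizer_singleton_iff.1 c.2.1).inv_left
  obtain ⟨r, hr, hrc, hrr⟩ : ∃ r ∈ (S.syl : Subgroup G), r * S.el 16 = S.el 16 * r ∧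
      r * ((c : G)⁻¹ * S.el 32 * c) * r⁻¹ = S.el 32 := by
    have hV : (c : G)⁻¹ * S.el 32 * c ∈ zpowers (S.el 16) ⊔ zpowers (S.el 32) := by
      have h := (mem_normalizer_iff.1 (inv_mem c.2.2) (S.el 32)).1 (mem_sup_right (mem_zpowers _))
      simpa using h
    have hsub : zpowers (S.el 16) ⊔ zpowers (S.el 32) ≤ S.AG :=
      sup_le (zpowers_le.2 (S.el_mem _)) (zpowers_le.2 (S.el_mem _))
    have hfour : ∀ y ∈ zpowers (S.el 16) ⊔ zpowers (S.el 32), y = 1 ∨ y = S.el 16 ∨ y = S.el 32 ∨ y = S.el 48 := by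
      let V : Subgroup G :=
        { carrier := {y | ∃ v : Fin 64, v.val % 16 = 0 ∧ y = S.el v}
          one_mem' := ⟨0, rfl, S.el_zero.symm⟩
          mul_mem' := by
            rintro _ _ ⟨v, hv, rfl⟩ ⟨w, hw, rfl⟩
            have h : ∀ v w : Fin 64, v.val % 16 = 0 → w.val % 16 = 0 → (axor v w).val % 16 = 0 := by decide +kernel
            exact ⟨_, h v w hv hw, S.el_mul v w⟩
          inv_mem' := by
            rintro _ ⟨v, hv, rfl⟩
            exact ⟨v, hv, inv_eq_of_mul_eq_one_right (S.el_sq v)⟩ }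
      have hle : zpowers (S.el 16) ⊔ zpowers (S.el 32) ≤ V :=
        sup_le (zpowers_le.2 ⟨16, rfl, rfl⟩) (zpowers_le.2 ⟨32, rfl, rfl⟩)
      intro y hy
      obtain ⟨v, hv, rfl⟩ := hle hy
      have h : ∀ v : Fin 64, v.val % 16 = 0 → v = 0 ∨ v = 16 ∨ v = 32 ∨ v = 48 := by decide +kernel
      rcases h v hv with rfl | rfl | rfl | rfl
      · exact Or.inl S.el_zero
      · exact Or.inr (Or.inl rfl)
      · exact Or.inr (Or.inr (Or.inl rfl))
      · exact Or.inr (Or.inr (Or.inr rfl))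
    rcases hfour _ hV with e | e | e | e
    · exfalso
      have h1 : S.el 32 = S.el 0 := by
        rw [S.el_zero]
        calc S.el 32 = (c : G) * ((c : G)⁻¹ * S.el 32 * c) * (c : G)⁻¹ := by group
          _ = 1 := by rw [e]; group
      exact absurd (S.el_inj h1) (by decide)
    · exfalso
      have h1 : S.el 32 = S.el 16 := by
        calc S.el 32 = (c : G) * ((c : G)⁻¹ * S.el 32 * c) * (c : G)⁻¹ := by group
          _ = S.el 16 := by rw [e, mem_centralizer_singleton_iff.1 c.2.1, mul_inv_cancel_right]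
      exact absurd (S.el_inj h1) (by decide)
    · exact ⟨1, one_mem _, by rw [one_mul, mul_one], by rw [e]; group⟩
    · obtain ⟨r, hr, hr16, hr32⟩ := flipper (S := S)
      refine ⟨r⁻¹, inv_mem hr, (show Commute r (S.el 16) from hr16).inv_left, ?_⟩
      rw [e, ← hr32]; group
  set d := r * (c : G)⁻¹ with hd
  have hd16 : d * S.el 16 = S.el 16 * d := ((show Commute r (S.el 16) from hrc).mul_left hcinv16).eq
  have hd32 : d * S.el 32 = S.el 32 * d := mul_inv_eq_iff_eq_mul.1 (by
    calc d * S.el 32 * d⁻¹ = r * ((c : G)⁻¹ * S.el 32 * c) * r⁻¹ := by rw [hd]; group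
      _ = S.el 32 := hrr)
  have hdt : d * t * d⁻¹ ∈ (S.syl : Subgroup G) := by
    rw [hd, show r * (c : G)⁻¹ * t * (r * (c : G)⁻¹)⁻¹ = r * ((c : G)⁻¹ * t * c) * r⁻¹ by group]
    exact mul_mem (mul_mem hr hy) (inv_mem hr)
  rw [S.syl_eq] at hdt
  obtain ⟨_, ⟨a, k, hk, rfl⟩, hm⟩ := hdt
  have hg2 : pa a * pk k * (pa a * pk k) = 1 := S.inj (by
    rw [map_mul, hm, map_one, show d * t * d⁻¹ * (d * t * d⁻¹) = d * (t * t) * d⁻¹ by group,
      Cfsg.Lib.InvolCalc.sq_of_order_two ht]
    group)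
  have he : e8 ⟨k.val, hk⟩ = k := rfl
  have hfix : act k 32 = 32 := S.el_inj (by
    rw [el, el, ← pa_conj a k 32, map_mul, map_mul, map_inv, hm]
    show d * t * d⁻¹ * S.el 32 * (d * t * d⁻¹)⁻¹ = S.el 32
    exact mul_inv_eq_iff_eq_mul.2 (((show Commute d (S.el 32) from hd32).mul_left (show Commute t (S.el 32) from h32)
      |>.mul_left (show Commute d (S.el 32) from hd32).inv_left)).eq)
  by_cases hk0 : k = 0
  · refine ⟨d, hd16, hd32, a, ?_⟩
    rw [← hm, hk0, pk_zero, mul_one]; rfl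
  obtain ⟨p, hp, hdec⟩ := List.any_eq_true.1 (table_two a ⟨k.val, hk⟩ hfix
    (fun h => hk0 (Fin.ext (by simpa using congrArg Fin.val h)))
    (fun z => Equiv.congr_fun (congrArg Subtype.val hg2) z))
  have hc' := of_decide_eq_true hdec
  have hs : (sw p.1 p.2)⁻¹ = sw p.1 p.2 :=
    inv_eq_of_mul_eq_one_right (Subtype.ext (Equiv.ext (swapPair_invol p.1 p.2)))
  obtain ⟨l1, l2⟩ := conjsTwo_lt p hp
  have hs16 : S.φ (sw p.1 p.2) * S.el 16 = S.el 16 * S.φ (sw p.1 p.2) := by
    rw [el, ← map_mul, ← map_mul]; congr 1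
    exact Subtype.ext (Equiv.ext (centred_conj p.1 p.2 l1 l2).1)
  have hs32 : S.φ (sw p.1 p.2) * S.el 32 = S.el 32 * S.φ (sw p.1 p.2) := by
    rw [el, ← map_mul, ← map_mul]; congr 1
    exact Subtype.ext (Equiv.ext (centred_conj p.1 p.2 l1 l2).2)
  refine ⟨S.φ (sw p.1 p.2) * d, ((show Commute _ (S.el 16) from hs16).mul_left hd16).eq,
    ((show Commute _ (S.el 32) from hs32).mul_left hd32).eq, code (conjFun p a (e8 ⟨k.val, hk⟩)), ?_⟩
  rw [show S.φ (sw p.1 p.2) * d * t * (S.φ (sw p.1 p.2) * d)⁻¹ =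
    S.φ (sw p.1 p.2) * (d * t * d⁻¹) * (S.φ (sw p.1 p.2))⁻¹ by group, ← hm, ← map_inv, ← map_mul, ← map_mul, hs, el]
  congr 1
  exact Subtype.ext (Equiv.ext hc')

variable (hA : ∀ v, S.o v = oAlt v)

include hA

theorem weight_of_conj {v w : Fin 64} (h : IsConj (S.el v) (S.el w)) (hv : weight v = 1) : wtOne w = true := by
  rw [← weight_one_iff, ← (conj_iff_weight hA).1 h]; exact hv

theorem iso_last (g : G) (hg : g * S.el 16 = S.el 16 * g)
    (h : g * S.el 32 * g⁻¹ * S.el 32 = S.el 32 * (g * S.el 32 * g⁻¹) ∨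
      g * S.el 32 * g⁻¹ * S.el 32 = S.el 32 * (g * S.el 32 * g⁻¹) * S.el 16) :
    g * S.el 32 * g⁻¹ = S.el 32 ∨ g * S.el 32 * g⁻¹ = S.el (axor 32 16) := by
  haveI : Fact (Nat.Prime 2) := ⟨Nat.prime_two⟩
  set β := g * S.el 32 * g⁻¹ with hβ
  have hβ2 : orderOf β = 2 := (MulEquiv.orderOf_eq (MulAut.conj g) (S.el 32)).trans (S.el_order' (by decide))
  have hβ16 : β * S.el 16 = S.el 16 * β :=
    (((show Commute g (S.el 16) from hg).mul_left (S.el_comm 32 16)).mul_left
      (show Commute g (S.el 16) from hg).inv_left).eq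
  have hprod : β * S.el 16 = g * S.el 48 * g⁻¹ := by
    rw [hβ, ← el_16_32 (S := S), mul_assoc (g * S.el 32), (show Commute g (S.el 16) from hg).inv_left.eq]; group
  rcases h with hc | hsw
  · obtain ⟨c, hc16, hc32, b, hb⟩ := cent_last_into hβ2 hβ16 hc
    have h1 : wtOne b = true := weight_of_conj hA (v := 32) (isConj_iff.2 ⟨c * g, by rw [← hb, hβ]; group⟩)
      (by decide +kernel)
    have h2 : wtOne (axor b 16) = true := weight_of_conj hA (v := 48) (isConj_iff.2 ⟨c * g, by
      rw [← S.el_mul, ← hb]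
      calc c * g * S.el 48 * (c * g)⁻¹ = c * (g * S.el 48 * g⁻¹) * c⁻¹ := by group
        _ = c * (β * S.el 16) * c⁻¹ := by rw [hprod]
        _ = c * β * c⁻¹ * (c * S.el 16 * c⁻¹) := by group
        _ = _ := by rw [hc16, mul_inv_cancel_right]⟩) (by decide +kernel)
    have hback : β = c⁻¹ * S.el b * c := by rw [← hb]; group
    rcases last_pairs b h1 h2 with rfl | rfl
    · left; rw [hback, mul_assoc, ← hc32]; group
    · right
      rw [hback, ← S.el_mul, ← el_16_32]
      rw [mul_assoc, show S.el 32 * S.el 16 * c = c * (S.el 32 * S.el 16) from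
        (((show Commute c (S.el 32) from hc32).mul_right (show Commute c (S.el 16) from hc16))).eq.symm]
      group
  · exfalso
    have hβV : β * S.el 32 * β⁻¹ = S.el 48 := by
      rw [hsw, ← el_16_32, mul_assoc (S.el 32), hβ16]; group
    -- move into the Sylow subgroup
    set Y := centralizer ({S.el 16} : Set G) ⊓ normalizer ({S.el 32, S.el 48} : Set G) with hY
    have hmemY : ∀ {y : G}, y * S.el 16 = S.el 16 * y → (y * S.el 32 * y⁻¹ = S.el 32 ∨ y * S.el 32 * y⁻¹ = S.el 48) →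
        y ∈ Y := by
      intro y hy hy'
      refine ⟨mem_centralizer_singleton_iff.2 hy, ?_⟩
      have h48 : y * S.el 48 * y⁻¹ = y * S.el 32 * y⁻¹ * S.el 16 := by
        rw [← el_16_32 (S := S), mul_assoc (y * S.el 32), (show Commute y (S.el 16) from hy).inv_left.eq]; group
      have himg : ∀ z ∈ ({S.el 32, S.el 48} : Set G), y * z * y⁻¹ ∈ ({S.el 32, S.el 48} : Set G) := by
        intro z hz
        rcases hz with rfl | rfl
        · rcases hy' with e | e <;> simp [e]
        · rw [h48]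
          rcases hy' with e | e
          · rw [e, el_16_32]; simp
          · rw [e, show S.el 48 * S.el 16 = S.el 32 by rw [S.el_mul]; congr 1]; simp
      refine mem_set_normalizer_iff.2 fun z => ⟨himg z, fun hz => ?_⟩
      have hinj : Function.Injective fun t => y * t * y⁻¹ := fun a b e => mul_left_cancel (mul_right_cancel e)
      have h1 := himg (S.el 32) (by simp)
      have h2 := himg (S.el 48) (by simp)
      have hne : S.el 32 ≠ S.el 48 := fun e => absurd (S.el_inj e) (by decide)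
      simp only [Set.mem_insert_iff, Set.mem_singleton_iff] at h1 h2 hz ⊢
      rcases h1 with e1 | e1 <;> rcases h2 with e2 | e2
      · exact absurd (hinj (e1.trans e2.symm)) hne
      · rcases hz with e | e
        · exact Or.inl (hinj (e.trans e1.symm))
        · exact Or.inr (hinj (e.trans e2.symm))
      · rcases hz with e | e
        · exact Or.inr (hinj (e.trans e2.symm))
        · exact Or.inl (hinj (e.trans e1.symm))
      · exact absurd (hinj (e1.trans e2.symm)) hne
    have hSY : (S.syl : Subgroup G) ≤ Y := fun s hs => hmemY (syl_cent hs).1 (syl_cent hs).2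
    have hβY : β ∈ Y := hmemY hβ16 (Or.inr hβV)
    obtain ⟨d, hd⟩ := Cfsg.Lib.InvolCalc.exists_conj_le (S.syl.subtype hSY) (H := zpowers (⟨β, hβY⟩ : Y))
      (IsPGroup.of_card (n := 1) (by rw [Nat.card_zpowers, Subgroup.orderOf_mk, hβ2, pow_one]))
    have hy : (d : G)⁻¹ * β * d ∈ (S.syl : Subgroup G) := hd _ (mem_zpowers _)
    have hd16 : (d : G) * S.el 16 = S.el 16 * d := mem_centralizer_singleton_iff.1 d.2.1
    rw [S.syl_eq] at hy
    obtain ⟨m, -, hm⟩ := hy
    -- the transported central involution centralises the four group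
    set g' := (d : G)⁻¹ * g with hg'
    have hg16 : g' * S.el 16 = S.el 16 * g' :=
      ((show Commute (d : G) (S.el 16) from hd16).inv_left.mul_left hg).eq
    have hg32 : g' * S.el 32 * g'⁻¹ = S.φ m := by rw [hm, hg', hβ]; group
    set t := g'⁻¹ * S.α * g' with ht
    have hto : orderOf t = 2 := by
      rw [ht, show g'⁻¹ * S.α * g' = MulAut.conj g'⁻¹ S.α by simp, MulEquiv.orderOf_eq, ← S.el_alpha]
      exact S.el_order' (by decide)
    have ht16 : t * S.el 16 = S.el 16 * t := by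
      have h1 : Commute g'⁻¹ (S.el 16) := (show Commute g' (S.el 16) from hg16).inv_left
      have h2 : Commute S.α (S.el 16) := S.el_comm 21 16
      exact ((h1.mul_left h2).mul_left (show Commute g' (S.el 16) from hg16)).eq
    have ht32 : t * S.el 32 = S.el 32 * t := by
      have h1 := S.φ_comm m
      rw [← hg32] at h1
      rw [ht]
      calc g'⁻¹ * S.α * g' * S.el 32 = g'⁻¹ * (S.α * (g' * S.el 32 * g'⁻¹)) * g' := by group
        _ = g'⁻¹ * (g' * S.el 32 * g'⁻¹ * S.α) * g' := by rw [h1]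
        _ = _ := by group
    obtain ⟨c, hc16, hc32, w, hw⟩ := cent_last_into hto ht16 ht32
    -- an elementary subgroup of the centraliser containing both
    set e := g' * c⁻¹ with he
    have heα : S.α = e * S.el w * e⁻¹ := by rw [he, ← hw, ht]; group
    have he16 : e * S.el 16 * e⁻¹ = S.el 16 := mul_inv_eq_iff_eq_mul.2
      ((show Commute g' (S.el 16) from hg16).mul_left (show Commute c (S.el 16) from hc16).inv_left).eq
    have he32 : e * S.el 32 * e⁻¹ = S.φ m := by
      rw [← hg32, he, show g' * c⁻¹ * S.el 32 * (g' * c⁻¹)⁻¹ = g' * (c⁻¹ * S.el 32 * c) * g'⁻¹ by group,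
        mul_assoc c⁻¹, ← hc32]
      group
    have hex : ∀ v, ∃ n, S.φ n = e * S.el v * e⁻¹ := fun v => S.mem_cent.1 (by
      rw [heα]
      calc e * S.el v * e⁻¹ * (e * S.el w * e⁻¹) = e * (S.el v * S.el w) * e⁻¹ := by group
        _ = e * (S.el w * S.el v) * e⁻¹ := by rw [S.el_comm]
        _ = _ := by group)
    choose n hn using hex
    have hnmul : ∀ v v', n v * n v' = n (axor v v') := fun v v' => S.inj (by
      rw [map_mul, hn, hn, hn, ← S.el_mul]; group)
    have hninj : Function.Injective n := fun v v' h => by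
      have := congrArg S.φ h
      rw [hn, hn] at this
      exact S.el_inj (mul_left_cancel (mul_right_cancel this))
    have hn0 : n 0 = 1 := S.inj (by rw [hn, map_one, S.el_zero]; group)
    let A1 : Subgroup Mh :=
      { carrier := Set.range n
        one_mem' := ⟨0, hn0⟩
        mul_mem' := by rintro _ _ ⟨v, rfl⟩ ⟨v', rfl⟩; exact ⟨_, (hnmul v v').symm⟩
        inv_mem' := by
          rintro _ ⟨v, rfl⟩
          refine ⟨v, (inv_eq_of_mul_eq_one_right ?_).symm⟩
          rw [hnmul, show axor v v = 0 from (by decide +kernel : ∀ v : Fin 64, axor v v = 0) v, hn0] }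
    have hA1 : IsPGroup 2 A1 := by
      intro y
      obtain ⟨v, hv⟩ := y.2
      refine ⟨1, Subtype.ext ?_⟩
      show (y : Mh) ^ (2 ^ 1) = 1
      rw [pow_one, pow_two, ← hv, hnmul, show axor v v = 0 from (by decide +kernel : ∀ v : Fin 64, axor v v = 0) v, hn0]
    obtain ⟨P, hP⟩ := Sm_sylow
    obtain ⟨q, hq⟩ := Cfsg.Lib.InvolCalc.exists_conj_le P hA1
    let B : Subgroup Mh := A1.map (MulAut.conj q⁻¹).toMonoidHom
    have hBc : Nat.card B = 64 := by
      rw [card_map_of_injective (MulEquiv.injective _),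
        ← Nat.card_congr (Equiv.ofBijective (fun v => (⟨n v, v, rfl⟩ : A1)) ⟨fun v v' h => hninj (congrArg Subtype.val h),
          fun y => by obtain ⟨v, hv⟩ := y.2; exact ⟨v, Subtype.ext hv⟩⟩), Nat.card_fin]
    have hBS : B ≤ Sm := by
      rintro _ ⟨y, hy, rfl⟩
      rw [← hP]; simpa using hq y hy
    have key := elem_eq hBS hBc (by
      rintro _ ⟨_, ⟨v, rfl⟩, rfl⟩ _ ⟨_, ⟨v', rfl⟩, rfl⟩
      rw [← map_mul, ← map_mul, hnmul, hnmul, axor_comm]) (by
      rintro _ ⟨_, ⟨v, rfl⟩, rfl⟩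
      rw [← map_mul, hnmul, show axor v v = 0 from (by decide +kernel : ∀ v : Fin 64, axor v v = 0) v, hn0, map_one])
    obtain ⟨b0, hb0⟩ := key _ ⟨_, ⟨16, rfl⟩, rfl⟩
    obtain ⟨b1, hb1⟩ := key _ ⟨_, ⟨32, rfl⟩, rfl⟩
    have hb : ∀ {v b}, (MulAut.conj q⁻¹).toMonoidHom (n v) = pa b →
        (S.φ q)⁻¹ * (e * S.el v * e⁻¹) * S.φ q = S.el b := fun {v b} h => by
      rw [show S.el b = S.φ (pa b) from rfl, ← h, ← hn v, ← map_inv, ← map_mul, ← map_mul]; simp
    have hb48 : (MulAut.conj q⁻¹).toMonoidHom (n 48) = pa (axor b1 b0) := by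
      rw [← pa_mul, ← hb1, ← hb0, ← map_mul, hnmul]; congr 2
    have hwt : ∀ {v b}, (MulAut.conj q⁻¹).toMonoidHom (n v) = pa b → weight v = 1 → wtOne b = true := fun {v b} h hv =>
      weight_of_conj hA (isConj_iff.2 ⟨(S.φ q)⁻¹ * e, by rw [← hb h]; group⟩) hv
    have hsup := same_support b1 b0 (hwt hb1 (by decide +kernel)) (hwt hb0 (by decide +kernel))
      (hwt hb48 (by decide +kernel))
    have hn16 : n 16 = pa 16 := S.inj (by rw [hn, he16]; rfl)
    have hn32 : n 32 = m := S.inj (by rw [hn, he32])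
    rw [hn32] at hb1
    rw [hn16] at hb0
    have hfix : ∀ {y : Mh} {b}, (MulAut.conj q⁻¹).toMonoidHom y = pa b → ∀ z, y.1 z = z ↔ aFun b (q.1.symm z) = q.1.symm z := by
      intro y b h z
      have h1 : q.1.symm (y.1 z) = aFun b (q.1.symm z) := by
        have := Equiv.congr_fun (congrArg Subtype.val h) (q.1.symm z)
        simp at this
        exact this
      rw [← h1]
      exact ⟨fun h => by rw [h], fun h => q.1.symm.injective h⟩
    have hsupm : ∀ z, m.1 z = z ↔ z.val < 8 := fun z => by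
      rw [hfix hb1 z, hsup, ← hfix hb0 z]; exact block_two.1 z
    have hm2 : m * m = 1 := S.inj (by
      rw [map_mul, ← hg32, map_one, show g' * S.el 32 * g'⁻¹ * (g' * S.el 32 * g'⁻¹) = g' * (S.el 32 * S.el 32) * g'⁻¹ by
        group, S.el_sq]
      group)
    have hcm : m * pa 32 = pa 32 * m := Subtype.ext (Equiv.ext
      (comm_of_support (fun z => Equiv.congr_fun (congrArg Subtype.val hm2) z) hsupm))
    have hG : S.φ m * S.el 32 = S.el 32 * S.φ m := by rw [el, ← map_mul, ← map_mul, hcm]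
    -- but it exchanges
    have hfix' : S.φ m * S.el 32 * (S.φ m)⁻¹ = S.el 32 := mul_inv_eq_iff_eq_mul.2 hG
    rw [hm] at hfix'
    have hd32 : (d : G) * S.el 32 * (d : G)⁻¹ = S.el 32 ∨ (d : G) * S.el 32 * (d : G)⁻¹ = S.el 48 :=
      (mem_set_normalizer_iff.1 d.2.2 (S.el 32)).1 (Or.inl rfl)
    have hfin : β * ((d : G) * S.el 32 * (d : G)⁻¹) * β⁻¹ = (d : G) * S.el 32 * (d : G)⁻¹ := by
      calc β * ((d : G) * S.el 32 * (d : G)⁻¹) * β⁻¹
          = (d : G) * ((d : G)⁻¹ * β * d * S.el 32 * ((d : G)⁻¹ * β * d)⁻¹) * (d : G)⁻¹ := by group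
        _ = _ := by rw [hfix']
    have hne : S.el 48 ≠ S.el 32 := fun h => absurd (S.el_inj h) (by decide)
    rcases hd32 with e' | e' <;> rw [e'] at hfin
    · exact hne (hβV.symm.trans hfin)
    · have h48 : β * S.el 48 * β⁻¹ = S.el 32 := by
        rw [← el_16_32, show β * (S.el 32 * S.el 16) * β⁻¹ = β * S.el 32 * β⁻¹ * (β * S.el 16 * β⁻¹) by group, hβV,
          hβ16, mul_inv_cancel_right, S.el_mul]
        congr 1
      exact hne (hfin.symm.trans h48)

/-- The centraliser of a weight one involution normalises its four group. -/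
theorem cent_one : ∀ x, x * S.el 1 = S.el 1 * x →
    ∀ v : Fin 64, v.val < 4 → ∃ w : Fin 64, w.val < 4 ∧ x * S.el v * x⁻¹ = S.el w := by
  intro x hx v hv
  have hT : ∀ a, S.φ (pk 12) * S.el a * (S.φ (pk 12))⁻¹ = S.el (act 12 a) := S.φ_el 12
  have h1 : act 12 1 = 16 ∧ act 12 16 = 1 ∧ act 12 2 = 32 ∧ act 12 32 = 2 ∧ act 12 48 = 3 := by decide +kernel
  set y := S.φ (pk 12) * x * (S.φ (pk 12))⁻¹ with hy
  have hy16 : y * S.el 16 = S.el 16 * y := by
    rw [← h1.1, ← hT, hy]
    calc S.φ (pk 12) * x * (S.φ (pk 12))⁻¹ * (S.φ (pk 12) * S.el 1 * (S.φ (pk 12))⁻¹)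
        = S.φ (pk 12) * (x * S.el 1) * (S.φ (pk 12))⁻¹ := by group
      _ = S.φ (pk 12) * (S.el 1 * x) * (S.φ (pk 12))⁻¹ := by rw [hx]
      _ = _ := by group
  have h32 := mod_isolated (S := S) (r := 16) (s := 32) (by decide) (by decide) (by decide)
    (fun P hP hn => odd_normalised_alt hA hP hn) (iso_last hA) hy16
  have hx2 : x * S.el 2 * x⁻¹ = S.el 2 ∨ x * S.el 2 * x⁻¹ = S.el 3 := by
    have hback : ∀ {a}, y * S.el 32 * y⁻¹ = S.el (act 12 a) → x * S.el 2 * x⁻¹ = S.el a := fun {a} e => by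
      rw [← h1.2.2.1, ← hT, ← hT a, hy] at e
      have := congrArg (fun z => (S.φ (pk 12))⁻¹ * z * S.φ (pk 12)) e
      simpa [mul_assoc] using this
    rcases h32 with e | e
    · exact Or.inl (hback (e.trans (congrArg S.el h1.2.2.1.symm)))
    · exact Or.inr (hback (e.trans (congrArg S.el (by decide +kernel))))
  have hx1 : x * S.el 1 * x⁻¹ = S.el 1 := by rw [hx, mul_inv_cancel_right]
  have hcases : ∀ v : Fin 64, v.val < 4 → v = 0 ∨ v = 1 ∨ v = 2 ∨ v = 3 := by decide +kernel
  rcases hcases v hv with rfl | rfl | rfl | rfl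
  · exact ⟨0, hv, by rw [S.el_zero]; group⟩
  · exact ⟨1, hv, hx1⟩
  · rcases hx2 with e | e
    · exact ⟨2, hv, e⟩
    · exact ⟨3, by decide, e⟩
  · have e3 : S.el 3 = S.el 1 * S.el 2 := by rw [S.el_mul]; congr 1
    have hc : x * S.el 3 * x⁻¹ = S.el 1 * (x * S.el 2 * x⁻¹) := by
      rw [e3, show x * (S.el 1 * S.el 2) * x⁻¹ = x * S.el 1 * x⁻¹ * (x * S.el 2 * x⁻¹) by group, hx1]
    rcases hx2 with e | e
    · exact ⟨3, hv, by rw [hc, e, S.el_mul]; congr 1⟩
    · exact ⟨2, by decide, by rw [hc, e, S.el_mul]; congr 1⟩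

end Setting

end Cfsg.Lib.AltTwelveType
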