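import Cfsg.Agent.AltTwelveType.Core

/-!
The normaliser of the elementary subgroup in the model, and the maps it induces in the group.
-/

set_option autoImplicit false
set_option linter.unusedSectionVars false
set_option linter.style.haveILetI false
set_option maxRecDepth 100000
set_option maxHeartbeats 1000000

namespace Cfsg.Lib.AltTwelveType

open Subgroup

/-- the odd exchange of the last pair -/
def tSwap : Equiv.Perm (Fin 12) := Equiv.swap 10 11

/-- the coordinates with one non-zero block -/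
def wtOne (a : Fin 64) : Bool := decide (a ≠ 0) &&
  (decide (a.val < 4) || decide (a.val % 4 = 0 ∧ a.val < 16) || decide (a.val % 16 = 0))

theorem supp_wt : ∀ a : Fin 64, (wtOne a = true ↔ ((List.finRange 12).filter fun x => decide (aFun a x ≠ x)).length = 4) := by
  decide +kernel

theorem same_block : ∀ x y : Fin 12, blockOf x = blockOf y → x ≠ y →
    ∃ a, wtOne a = true ∧ aFun a x = y := by decide +kernel

theorem block_same : ∀ a, wtOne a = true → ∀ x : Fin 12, blockOf (aFun a x) = blockOf x := by decide +kernel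

/-- a map of the points determined by three bits and an order of the blocks -/
def shapeFun (p : Fin 6) (e : Fin 8) (x : Fin 12) : Fin 12 :=
  ⟨(4 * (piTab.getD p.val []).getD (x.val / 4) 0 +
    if e.val.testBit (x.val / 4) && decide (2 ≤ x.val % 4) then 5 - x.val % 4 else x.val % 4) % 12,
    Nat.mod_lt _ (by norm_num)⟩

theorem shape_cases : ∀ p : Fin 6, ∀ e : Fin 8, ∃ k : Fin 24,
    (∀ x, shapeFun p e x = kFun k x) ∨ (∀ x, shapeFun p e x = kFun k (tSwap x)) := by decide +kernel

theorem point_cases : ∀ x : Fin 12, x = ⟨4 * (x.val / 4) % 12, Nat.mod_lt _ (by norm_num)⟩ ∨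
    x = αp ⟨4 * (x.val / 4) % 12, Nat.mod_lt _ (by norm_num)⟩ ∨
    x = ⟨(4 * (x.val / 4) + 2) % 12, Nat.mod_lt _ (by norm_num)⟩ ∨
    x = αp ⟨(4 * (x.val / 4) + 2) % 12, Nat.mod_lt _ (by norm_num)⟩ := by decide +kernel

/-- the point `4b+j` -/
def pt (b : Fin 3) (j : Fin 4) : Fin 12 := ⟨4 * b.val + j.val, by omega⟩

theorem pt_all : ∀ x : Fin 12, ∃ b j, x = pt b j := by decide +kernel

theorem perm_three : ∀ f : Fin 3 → Fin 3, (∀ a b, f a = f b → a = b) →
    ∃ p : Fin 6, ∀ b : Fin 3, (piTab.getD p.val []).getD b.val 0 = (f b).val := by decide +kernel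

theorem code_three : ∀ f : Fin 3 → Fin 3, (∀ a b, f a = f b → a = b) → ∀ j : Fin 3 → Fin 4,
    ∃ c : Fin 64, ∀ b : Fin 3, aFun c (pt (f b) (j b)) = pt (f b) 0 := by decide +kernel

/-- An element normalising the elementary subgroup lies in the standard group of order 1536. -/
theorem norm_form {m : Mh} (h : ∀ a, ∃ b, m * pa a * m⁻¹ = pa b) : ∃ c : Fin 64, ∃ k : Fin 24, m = pa c * pk k := by
  classical
  have hwt : ∀ a b : Fin 64, m * pa a * m⁻¹ = pa b → wtOne a = true → wtOne b = true := by
    intro a b e ha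
    rw [supp_wt] at ha ⊢
    have hfun : ∀ x, aFun b (m.1 x) = m.1 (aFun a x) := fun x => by
      have e' : pa b * m = m * pa a := by rw [← e]; group
      exact Equiv.congr_fun (congrArg Subtype.val e') x
    have hperm : ((List.finRange 12).map m.1).Perm (List.finRange 12) :=
      (List.perm_ext_iff_of_nodup ((List.nodup_finRange _).map m.1.injective) (List.nodup_finRange _)).2 fun x =>
        ⟨fun _ => List.mem_finRange x, fun _ => List.mem_map.2 ⟨m.1.symm x, List.mem_finRange _, m.1.apply_symm_apply x⟩⟩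
    rw [← (hperm.filter _).length_eq, List.filter_map, List.length_map, ← ha]
    congr 2
    funext x
    simp only [Function.comp_apply, hfun, ne_eq, m.1.injective.eq_iff]
  have hblock : ∀ x y, blockOf x = blockOf y → blockOf (m.1 x) = blockOf (m.1 y) := by
    intro x y hxy
    by_cases he : x = y
    · rw [he]
    obtain ⟨a, ha, hay⟩ := same_block x y hxy he
    obtain ⟨b, hb⟩ := h a
    have e' : pa b * m = m * pa a := by rw [← hb]; group
    have := Equiv.congr_fun (congrArg Subtype.val e') x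
    rw [← hay, show m.1 (aFun a x) = aFun b (m.1 x) from this.symm, block_same b (hwt a b hb ha)]
  have hlt : ∀ x : Fin 12, blockOf x < 3 := by decide +kernel
  let f : Fin 3 → Fin 3 := fun b => ⟨blockOf (m.1 (pt b 0)), hlt _⟩
  have hblk : ∀ b j, blockOf (pt b j) = b.val := by decide +kernel
  have hf : ∀ a b, f a = f b → a = b := by
    intro a b e
    by_contra hne
    have e1 : blockOf (m.1 (pt a 0)) = blockOf (m.1 (pt b 0)) := congrArg Fin.val e
    have hinv : ∀ a, ∃ b, m⁻¹ * pa a * m⁻¹⁻¹ = pa b := fun a => by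
      have hfin : Function.Injective fun a => (h a).choose := fun a a' ee => by
        have h1 := (h a).choose_spec
        have h2 := (h a').choose_spec
        simp only at ee
        rw [ee, ← h2] at h1
        exact pa_inj (mul_left_cancel (mul_right_cancel h1))
      obtain ⟨a', ha'⟩ := (Finite.injective_iff_surjective.1 hfin) a
      have h1 := (h a').choose_spec
      simp only at ha'
      exact ⟨a', by rw [← ha', ← h1]; group⟩
    -- two points of one block come from one block
    by_cases he : m.1 (pt a 0) = m.1 (pt b 0)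
    · exact hne (Fin.ext (by rw [← hblk a 0, ← hblk b 0, m.1.injective he]))
    obtain ⟨c, hc, hcy⟩ := same_block _ _ e1 he
    obtain ⟨d, hd⟩ := hinv c
    have hd' : m * pa d * m⁻¹ = pa c := by rw [← hd]; group
    have hdw : wtOne d = true := by
      by_contra hd1
      have hcnt := (supp_wt c).1 hc
      have hfun : ∀ x, aFun c (m.1 x) = m.1 (aFun d x) := fun x => by
        have e' : pa c * m = m * pa d := by rw [← hd']; group
        exact Equiv.congr_fun (congrArg Subtype.val e') x
      have hperm : ((List.finRange 12).map m.1).Perm (List.finRange 12) :=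
        (List.perm_ext_iff_of_nodup ((List.nodup_finRange _).map m.1.injective) (List.nodup_finRange _)).2 fun x =>
          ⟨fun _ => List.mem_finRange x, fun _ => List.mem_map.2 ⟨m.1.symm x, List.mem_finRange _, m.1.apply_symm_apply x⟩⟩
      rw [← (hperm.filter _).length_eq, List.filter_map, List.length_map] at hcnt
      refine hd1 ((supp_wt d).2 ?_)
      rw [← hcnt]
      congr 2
      funext x
      simp only [Function.comp_apply, hfun, ne_eq, m.1.injective.eq_iff]
    have e' : pa c * m = m * pa d := by rw [← hd']; group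
    have := Equiv.congr_fun (congrArg Subtype.val e') (pt a 0)
    have h4 : m.1 (aFun d (pt a 0)) = m.1 (pt b 0) := this.symm.trans hcy
    have := block_same d hdw (pt a 0)
    rw [m.1.injective h4, hblk, hblk] at this
    exact hne (Fin.ext this.symm)
  obtain ⟨p, hp⟩ := perm_three f hf
  have hexj : ∀ b, ∃ j, m.1 (pt b 0) = pt (f b) j := fun b => by
    obtain ⟨b', j, hj⟩ := pt_all (m.1 (pt b 0))
    refine ⟨j, ?_⟩
    have : f b = b' := Fin.ext (by show blockOf (m.1 (pt b 0)) = b'.val; rw [hj, hblk])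
    rw [this]; exact hj
  choose j hj using hexj
  obtain ⟨c, hc⟩ := code_three f hf j
  let n : Mh := pa c * m
  have hcb : ∀ y, blockOf (aFun c y) = blockOf y := by
    have : ∀ c : Fin 64, ∀ y, blockOf (aFun c y) = blockOf y := by decide +kernel
    exact this c
  have hn0 : ∀ b, n.1 (pt b 0) = pt (f b) 0 := fun b => by
    show aFun c (m.1 (pt b 0)) = _
    rw [hj]; exact hc b
  have hcm : ∀ y, n.1 (αp y) = αp (n.1 y) := fun y =>
    Equiv.congr_fun (Subgroup.mem_centralizer_singleton_iff.1 n.2.2) y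
  have h01 : ∀ b : Fin 3, αp (pt b 0) = pt b 1 ∧ αp (pt b 2) = pt b 3 ∧ αp (pt b 3) = pt b 2 := by decide +kernel
  have hn2 : ∀ b, n.1 (pt b 2) = pt (f b) 2 ∨ n.1 (pt b 2) = pt (f b) 3 := fun b => by
    have hb : blockOf (n.1 (pt b 2)) = (f b).val := by
      show blockOf (aFun c (m.1 (pt b 2))) = _
      rw [hcb, hblock (pt b 2) (pt b 0) (by rw [hblk, hblk])]
    obtain ⟨b', i, hi⟩ := pt_all (n.1 (pt b 2))
    rw [hi, hblk] at hb
    have hb' : b' = f b := Fin.ext hb
    rw [hi, hb']
    have hj0 : i ≠ 0 := fun e => by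
      rw [e, hb', ← hn0] at hi
      exact absurd (n.1.injective hi) ((by decide +kernel : ∀ b : Fin 3, pt b 2 ≠ pt b 0) b)
    have hj1 : i ≠ 1 := fun e => by
      rw [e, hb', ← (h01 (f b)).1, ← hn0, ← hcm, (h01 b).1] at hi
      exact absurd (n.1.injective hi) ((by decide +kernel : ∀ b : Fin 3, pt b 2 ≠ pt b 1) b)
    revert hj0 hj1; revert i; intro i _
    fin_cases i <;> simp
  let e : Fin 8 := ⟨((List.finRange 3).map fun b => if n.1 (pt b 2) = pt (f b) 3 then 2 ^ b.val else 0).sum % 8,
    Nat.mod_lt _ (by norm_num)⟩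
  have hbit : ∀ P : Fin 3 → Bool, ∀ b : Fin 3,
      ((((List.finRange 3).map fun b => if P b then 2 ^ b.val else 0).sum) % 8).testBit b.val = P b := by decide +kernel
  have heb : ∀ b : Fin 3, e.val.testBit b.val = decide (n.1 (pt b 2) = pt (f b) 3) := fun b => by
    rw [← hbit (fun b => decide (n.1 (pt b 2) = pt (f b) 3)) b]
    simp [e]
  have hshape : ∀ x, n.1 x = shapeFun p e x := by
    intro x
    obtain ⟨b, i, rfl⟩ := pt_all x
    have key : ∀ b g : Fin 3, ∀ i : Fin 4, ∀ t : Bool,
        (⟨(4 * g.val + if t && decide (2 ≤ (pt b i).val % 4) then 5 - (pt b i).val % 4 else (pt b i).val % 4) % 12,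
          Nat.mod_lt _ (by norm_num)⟩ : Fin 12) = (if t then [pt g 0, pt g 1, pt g 3, pt g 2].getD i.val 0
            else pt g i) ∧ (pt b i).val / 4 = b.val := by decide +kernel
    have hne23 : ∀ g : Fin 3, pt g 2 ≠ pt g 3 := by decide +kernel
    have hd := (key b (f b) i (e.val.testBit b.val))
    refine Eq.trans ?_ (Eq.trans hd.1.symm ?_)
    · rw [heb]
      fin_cases i
      · simpa using hn0 b
      · rw [show (pt b ⟨1, by decide⟩) = αp (pt b 0) from (h01 b).1.symm, hcm, hn0, (h01 (f b)).1]; simp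
      · rcases hn2 b with h' | h' <;> simp [h', hne23]
      · rw [show (pt b ⟨3, by decide⟩) = αp (pt b 2) from (h01 b).2.1.symm, hcm]
        rcases hn2 b with h' | h' <;> simp [h', hne23, (h01 (f b)).2.1, (h01 (f b)).2.2]
    · apply Fin.ext
      simp only [shapeFun, hd.2, hp]
  obtain ⟨k, hk | hk⟩ := shape_cases p e
  · refine ⟨c, k, ?_⟩
    have hnk : n = pk k := Subtype.ext (Equiv.ext fun x => (hshape x).trans (hk x))
    rw [← hnk, ← mul_assoc, pa_sq, one_mul]
  · exfalso
    have hv : (n : Equiv.Perm (Fin 12)) = kPerm k * tSwap := Equiv.ext fun x => (hshape x).trans (hk x)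
    have hs := Equiv.Perm.mem_alternatingGroup.1 n.2.1
    rw [hv, map_mul, kPerm_sign, one_mul, show Equiv.Perm.sign tSwap = -1 from Equiv.Perm.sign_swap (by decide)] at hs
    exact absurd hs (by decide)

theorem cent_key : ∀ k : Fin 24, (∀ a : Fin 64, act k a = a) → k = 0 := by decide +kernel

theorem pa_conj (c : Fin 64) (k : Fin 24) (a : Fin 64) : pa c * pk k * pa a * (pa c * pk k)⁻¹ = pa (act k a) := by
  rw [mul_assoc (pa c), pk_pa, ← mul_assoc, pa_mul, axor_comm, ← pa_mul]; group

namespace Setting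

variable {G : Type*} [Group G] [Finite G] (S : Setting G)

/-- a map of the coordinates induced by conjugation -/
def Ind (θ : Fin 64 → Fin 64) : Prop := ∃ n : G, ∀ v, n * S.el v * n⁻¹ = S.el (θ v)

theorem Ind.comp {θ η : Fin 64 → Fin 64} (h : S.Ind θ) (h' : S.Ind η) : S.Ind (θ ∘ η) := by
  obtain ⟨n, hn⟩ := h
  obtain ⟨m, hm⟩ := h'
  refine ⟨n * m, fun v => ?_⟩
  rw [show n * m * S.el v * (n * m)⁻¹ = n * (m * S.el v * m⁻¹) * n⁻¹ by group, hm, hn]; rfl

theorem ind_act (k : Fin 24) : S.Ind (act k) := ⟨S.φ (pk k), S.φ_el k⟩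

theorem ind_theta {v : Fin 64} (hv : S.o v = true) : ∃ θ : Fin 64 → Fin 64, S.Ind θ ∧ θ 21 = v := by
  obtain ⟨g, hg⟩ := isConj_iff.1 (S.o_iff.1 hv)
  obtain ⟨n, hn, hne⟩ := S.control (v := 21) (g := g) (by rw [S.el_alpha, hg]; exact S.el_mem v)
  rw [S.el_alpha, hg] at hne
  have h : ∀ w, ∃ u, S.el u = n * S.el w * n⁻¹ := fun w => (mem_normalizer_iff.1 hn _).1 (S.el_mem w)
  choose θ hθ using h
  exact ⟨θ, ⟨n, fun w => (hθ w).symm⟩, S.el_inj (by rw [hθ, S.el_alpha, hne])⟩

theorem Ind.add {θ : Fin 64 → Fin 64} (h : S.Ind θ) (v w : Fin 64) : θ (axor v w) = axor (θ v) (θ w) := by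
  obtain ⟨n, hn⟩ := h
  apply S.el_inj
  rw [← hn, ← S.el_mul, ← S.el_mul, ← hn v, ← hn w]; group

theorem Ind.injective {θ : Fin 64 → Fin 64} (h : S.Ind θ) : Function.Injective θ := by
  obtain ⟨n, hn⟩ := h
  intro v w e
  have := congrArg S.el e
  rw [← hn, ← hn] at this
  exact S.el_inj (mul_left_cancel (mul_right_cancel this))

theorem Ind.o_eq {θ : Fin 64 → Fin 64} (h : S.Ind θ) (v : Fin 64) : S.o (θ v) = S.o v := by
  obtain ⟨n, hn⟩ := h
  have hc : IsConj (S.el v) (S.el (θ v)) := isConj_iff.2 ⟨n, hn v⟩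
  rw [Bool.eq_iff_iff, S.o_iff, S.o_iff]
  exact ⟨fun e => e.trans hc.symm, fun e => e.trans hc⟩

theorem Ind.c1_eq {θ : Fin 64 → Fin 64} (h : S.Ind θ) (v : Fin 64) : c1 S.o (θ v) = c1 S.o v :=
  c1_map (Equiv.ofBijective θ (Finite.injective_iff_bijective.1 h.injective)) (fun x y => h.add S x y) _
    (fun x => h.o_eq S x) v

/-- An induced map fixing the central involution comes from the complement. -/
theorem Ind.stab {θ : Fin 64 → Fin 64} (h : S.Ind θ) (h21 : θ 21 = 21) : ∃ k, θ = act k := by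
  obtain ⟨n, hn⟩ := h
  obtain ⟨m, rfl⟩ : ∃ m, S.φ m = n := by
    refine S.mem_cent.1 ?_
    have := hn 21
    rw [h21, S.el_alpha] at this
    calc n * S.α = n * S.α * n⁻¹ * n := by group
      _ = S.α * n := by rw [this]
  have hm : ∀ a, m * pa a * m⁻¹ = pa (θ a) := fun a => S.inj (by
    rw [map_mul, map_mul, map_inv]; exact hn a)
  obtain ⟨c, k, rfl⟩ := norm_form fun a => ⟨_, hm a⟩
  exact ⟨k, funext fun a => pa_inj ((hm a).symm.trans (pa_conj c k a))⟩

/-- The elementary subgroup is its own centraliser. -/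
theorem cent_AG {g : G} (h : ∀ v, g * S.el v = S.el v * g) : g ∈ S.AG := by
  obtain ⟨m, rfl⟩ := S.mem_cent.1 (h 21)
  have hm : ∀ a, m * pa a * m⁻¹ = pa a := fun a => S.inj (by
    rw [map_mul, map_mul, map_inv, show S.φ (pa a) = S.el a from rfl, h]; group)
  obtain ⟨c, k, rfl⟩ := norm_form fun a => ⟨_, hm a⟩
  rw [cent_key k fun a => pa_inj ((pa_conj c k a).symm.trans (hm a)), pk_zero, mul_one]
  exact S.el_mem c

end Setting

end Cfsg.Lib.AltTwelveType
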