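import Cfsg.Agent.AltTwelveType.Embed
import Cfsg.Agent.AltTwelveType.Norm
import Cfsg.Agent.BenderSE.Criterion2.Criterion

/-!
A simple subgroup containing the centraliser of the central involution and those of its products
with commuting conjugates is the whole group.
-/

set_option autoImplicit false
set_option linter.unusedSectionVars false
set_option linter.style.haveILetI false
set_option maxRecDepth 10000

namespace Cfsg.Lib.AltTwelveType

open Subgroup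

theorem central_fix : ∀ a : Fin 64, (∀ k : Fin 8, act (e8 k) a = a) → a = 0 ∨ a = 5 ∨ a = 16 ∨ a = 21 := by
  decide +kernel

/-- The central elements of the Sylow subgroup. -/
theorem Sm_center {m : Mh} (hm : m ∈ Sm) (h : ∀ s ∈ Sm, m * s = s * m) :
    ∃ a : Fin 64, m = pa a ∧ (a = 0 ∨ a = 5 ∨ a = 16 ∨ a = 21) := by
  obtain ⟨a, k, hk, rfl⟩ := hm
  have hk0 : k = 0 := cent_key k fun b => pa_inj (by
    rw [← pa_conj a k b, h _ (pa_mem_Sm b)]; group)
  subst hk0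
  refine ⟨a, by rw [pk_zero, mul_one], central_fix a fun l => ?_⟩
  have hl := h _ (pk_mem_Sm (k := e8 l) l.isLt)
  rw [pk_zero, mul_one, pk_pa] at hl
  exact (pa_inj (mul_right_cancel hl)).symm

namespace Setting

universe u

variable {G : Type u} [Group G] [Finite G] (S : Setting G)

/-- An involution of an overgroup of the centraliser is conjugate in it into the elementary subgroup. -/
theorem into_AG_in {H : Subgroup G} (hα : S.φ.range ≤ H) {t : G} (ht : t ∈ H) (h2 : orderOf t = 2) :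
    ∃ h ∈ H, ∃ v, v ≠ 0 ∧ h * t * h⁻¹ = S.el v := by
  haveI : Fact (Nat.Prime 2) := ⟨Nat.prime_two⟩
  have hSH : (S.syl : Subgroup G) ≤ H := by rw [S.syl_eq]; exact (map_le_range _ _).trans hα
  obtain ⟨a, ha⟩ := Cfsg.Lib.InvolCalc.exists_conj_le (S.syl.subtype hSH) (H := zpowers (⟨t, ht⟩ : H))
    (IsPGroup.of_card (n := 1) (by rw [Nat.card_zpowers, Subgroup.orderOf_mk, h2, pow_one]))
  have hy : (a : G)⁻¹ * t * a ∈ (S.syl : Subgroup G) := ha _ (mem_zpowers _)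
  rw [S.syl_eq] at hy
  obtain ⟨m, -, hm⟩ := hy
  have hm2 : m * m = 1 := S.inj (by
    rw [map_mul, hm, map_one, show (a : G)⁻¹ * t * a * ((a : G)⁻¹ * t * a) = (a : G)⁻¹ * (t * t) * a by group,
      Cfsg.Lib.InvolCalc.sq_of_order_two h2]
    group)
  obtain ⟨c, b, hb⟩ := invol_into_A hm2
  have e : S.φ c * (a : G)⁻¹ * t * (S.φ c * (a : G)⁻¹)⁻¹ = S.el b := by
    rw [el, ← hb, map_mul, map_mul, map_inv, hm]; group
  refine ⟨_, mul_mem (hα ⟨c, rfl⟩) (inv_mem a.2), b, ?_, e⟩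
  rintro rfl
  rw [S.el_zero] at e
  exact Cfsg.Lib.InvolCalc.ne_one_of_order_two h2 (conj_eq_one_iff.1 e)

theorem α_order : orderOf S.α = 2 := S.el_order (v := 21) (by decide)

/-- A conjugate of the central involution in the overgroup is conjugate to it there. -/
theorem back_in {H : Subgroup G} (hα : S.φ.range ≤ H)
    (hconj : ∀ v, S.o v = true → ∃ h ∈ H, h * S.α * h⁻¹ = S.el v) {g : G} (hg : g * S.α * g⁻¹ ∈ H) : g ∈ H := by
  have h2 : orderOf (g * S.α * g⁻¹) = 2 := (MulEquiv.orderOf_eq (MulAut.conj g) S.α).trans S.α_order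
  obtain ⟨h, hh, v, -, hv⟩ := S.into_AG_in hα hg h2
  obtain ⟨k, hk, hkv⟩ := hconj v (S.o_iff.2 (isConj_iff.2 ⟨h * g, by rw [← hv]; group⟩))
  obtain ⟨m, hm⟩ : ∃ m, S.φ m = k⁻¹ * h * g := by
    refine S.mem_cent.1 ?_
    calc k⁻¹ * h * g * S.α = k⁻¹ * (h * (g * S.α * g⁻¹) * h⁻¹) * h * g := by group
      _ = k⁻¹ * (k * S.α * k⁻¹) * h * g := by rw [hv, hkv]
      _ = S.α * (k⁻¹ * h * g) := by group
  have : g = h⁻¹ * k * S.φ m := by rw [hm]; group
  rw [this]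
  exact mul_mem (mul_mem (inv_mem hh) hk) (hα ⟨m, rfl⟩)

/-- The centraliser of a product with a commuting conjugate, reduced to the elementary subgroup. -/
theorem pair_cent {H : Subgroup G} (hα : S.φ.range ≤ H)
    (hpair : ∀ w, S.o w = true → w ≠ 21 → centralizer ({S.el (axor 21 w)} : Set G) ≤ H) {g : G}
    (hc : Commute S.α (g * S.α * g⁻¹)) (hne : g * S.α * g⁻¹ ≠ S.α) :
    centralizer ({S.α * (g * S.α * g⁻¹)} : Set G) ≤ H := by
  set β := g * S.α * g⁻¹ with hβ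
  have hβ2 : β * β = 1 := by
    rw [hβ, show g * S.α * g⁻¹ * (g * S.α * g⁻¹) = g * (S.α * S.α) * g⁻¹ by group,
      Cfsg.Lib.InvolCalc.sq_of_order_two S.α_order]; group
  obtain ⟨c, b, hb⟩ := S.cent_into_A hβ2 hc.eq.symm
  have ho : S.o b = true := S.o_iff.2 (isConj_iff.2 ⟨S.φ c * g, by rw [← hb, hβ]; group⟩)
  have hb21 : b ≠ 21 := fun e => hne (by
    rw [e, S.el_alpha] at hb
    calc β = (S.φ c)⁻¹ * (S.φ c * β * (S.φ c)⁻¹) * S.φ c := by group
      _ = S.α := by rw [hb, mul_assoc, ← S.φ_comm]; group)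
  have e : S.el (axor 21 b) = S.φ c * (S.α * β) * (S.φ c)⁻¹ := by
    rw [← S.el_mul, S.el_alpha, ← hb]
    calc S.α * (S.φ c * β * (S.φ c)⁻¹) = S.α * S.φ c * β * (S.φ c)⁻¹ := by group
      _ = S.φ c * S.α * β * (S.φ c)⁻¹ := by rw [S.φ_comm]
      _ = _ := by group
  intro x hx
  have hx' : S.φ c * x * (S.φ c)⁻¹ ∈ H := hpair b ho hb21 (mem_centralizer_singleton_iff.2 (by
    rw [e, show S.φ c * x * (S.φ c)⁻¹ * (S.φ c * (S.α * β) * (S.φ c)⁻¹) = S.φ c * (x * (S.α * β)) * (S.φ c)⁻¹ by group,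
      mem_centralizer_singleton_iff.1 hx]
    group))
  have hcH : S.φ c ∈ H := hα ⟨c, rfl⟩
  have := mul_mem (mul_mem (inv_mem hcH) hx') hcH
  rwa [show (S.φ c)⁻¹ * (S.φ c * x * (S.φ c)⁻¹) * S.φ c = x by group] at this

theorem normalizer_syl_le {n : G} (hn : n ∈ normalizer ((S.syl : Subgroup G) : Set G)) : n * S.α * n⁻¹ = S.α := by
  have hαS : S.α ∈ (S.syl : Subgroup G) := by rw [S.syl_eq]; exact ⟨αm, pa_mem_Sm 21, rfl⟩
  have hmem := (mem_normalizer_iff.1 hn S.α).1 hαS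
  have hinv : ∀ {y : G}, y ∈ (S.syl : Subgroup G) → n⁻¹ * y * n ∈ (S.syl : Subgroup G) := fun {y} hy => by
    refine (mem_normalizer_iff.1 hn _).2 ?_
    rwa [show n * (n⁻¹ * y * n) * n⁻¹ = y by group]
  rw [S.syl_eq] at hmem
  obtain ⟨m, hm, hme⟩ := hmem
  obtain ⟨a, rfl, ha⟩ := Sm_center hm fun s hs => S.inj (by
    have hy : S.φ s ∈ (S.syl : Subgroup G) := by rw [S.syl_eq]; exact ⟨s, hs, rfl⟩
    have h1 := hinv hy
    rw [S.syl_eq] at h1
    obtain ⟨t, -, ht⟩ := h1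
    have h2 := S.φ_comm t
    rw [ht] at h2
    rw [map_mul, map_mul, hme]
    calc n * S.α * n⁻¹ * S.φ s = n * (S.α * (n⁻¹ * S.φ s * n)) * n⁻¹ := by group
      _ = n * (n⁻¹ * S.φ s * n * S.α) * n⁻¹ := by rw [h2]
      _ = S.φ s * (n * S.α * n⁻¹) := by group)
  have hsq : ∀ r : Mh, r ∈ Sm → r * r = pa a → False := fun r hr he => by
    have hy : S.φ r ∈ (S.syl : Subgroup G) := by rw [S.syl_eq]; exact ⟨r, hr, rfl⟩
    have h1 := hinv hy
    rw [S.syl_eq] at h1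
    obtain ⟨t, ht, hte⟩ := h1
    refine αm_not_square ht (S.inj ?_)
    rw [map_mul, hte, show n⁻¹ * S.φ r * n * (n⁻¹ * S.φ r * n) = n⁻¹ * (S.φ r * S.φ r) * n by group, ← map_mul, he,
      hme]
    show _ = S.α
    group
  rcases ha with rfl | rfl | rfl | rfl
  · exfalso
    rw [pa_zero, map_one] at hme
    exact S.α_ne (conj_eq_one_iff.1 hme.symm)
  · exact (hsq _ (Sm.mul_mem (pa_mem_Sm 1) (pk_mem_Sm (by decide))) roots.1).elim
  · exact (hsq _ (Sm.mul_mem (pa_mem_Sm 32) (pk_mem_Sm (by decide))) roots.2).elim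
  · exact hme.symm

theorem group_simple {H : Subgroup G} (hH : IsSimpleGroup H) (hα : S.φ.range ≤ H)
    (hodd : ∀ N : Subgroup G, N.Normal → Odd (Nat.card N) → N = ⊥) : IsSimpleGroup G := by
  haveI : Fact (Nat.Prime 2) := ⟨Nat.prime_two⟩
  haveI : Nontrivial G := ⟨⟨S.α, 1, S.α_ne⟩⟩
  refine ⟨fun N hN => ?_⟩
  haveI := hN
  by_cases he : Odd (Nat.card N)
  · exact Or.inl (hodd N hN he)
  refine Or.inr ?_
  obtain ⟨t, ht, h2⟩ := Cfsg.Lib.StrongEmb.exists_involution_of_even (Nat.not_odd_iff_even.1 he)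
  obtain ⟨g, b, hb⟩ := S.into_AG h2
  have hbN : S.el b ∈ N := hb ▸ hN.conj_mem t ht g
  have hbH : S.el b ∈ H := hα ⟨pa b, rfl⟩
  have hb1 : S.el b ≠ 1 := fun e => Cfsg.Lib.InvolCalc.ne_one_of_order_two h2 (conj_eq_one_iff.1 (hb.trans e))
  haveI := hH
  have hnorm : (N.subgroupOf H).Normal := hN.subgroupOf H
  rcases hnorm.eq_bot_or_eq_top with h | h
  · exfalso
    have : (⟨S.el b, hbH⟩ : H) ∈ N.subgroupOf H := hbN
    rw [h, mem_bot] at this
    exact hb1 (congrArg Subtype.val this)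
  have hHN : H ≤ N := subgroupOf_eq_top.1 h
  have hSN : (S.syl : Subgroup G) ≤ N := by rw [S.syl_eq]; exact ((map_le_range _ _).trans hα).trans hHN
  have hfr := Sylow.normalizer_sup_eq_top' S.syl hSN
  rw [eq_top_iff, ← hfr, sup_le_iff]
  refine ⟨fun n hn => ?_, le_rfl⟩
  obtain ⟨m, hm⟩ := S.mem_cent.1 (show n * S.α = S.α * n from mul_inv_eq_iff_eq_mul.1 (S.normalizer_syl_le hn))
  exact hHN (hα ⟨m, hm⟩)

/-- The final criterion. -/
theorem top_of_criterion {H : Subgroup G} (hH : IsSimpleGroup H) (hα : S.φ.range ≤ H)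
    (hconj : ∀ v, S.o v = true → ∃ h ∈ H, h * S.α * h⁻¹ = S.el v)
    (hodd : ∀ N : Subgroup G, N.Normal → Odd (Nat.card N) → N = ⊥)
    (hpair : ∀ w, S.o w = true → w ≠ 21 → centralizer ({S.el (axor 21 w)} : Set G) ≤ H) : H = ⊤ := by
  by_contra htop
  haveI := S.group_simple hH hα hodd
  have hαH : S.α ∈ H := hα ⟨αm, rfl⟩
  obtain ⟨K, hK⟩ := Cfsg.Lib.BenderSE.Crit2.criterionProp G H htop S.α S.α_order hαH
    ⟨S.syl, show S.α ∈ (S.syl : Subgroup G) by rw [S.syl_eq]; exact ⟨αm, pa_mem_Sm 21, rfl⟩,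
      fun s hs => by
        have hs' : s ∈ (S.syl : Subgroup G) := hs
        rw [S.syl_eq] at hs'
        obtain ⟨m, -, rfl⟩ := hs'
        exact S.φ_comm m⟩
    (fun g hg => S.back_in hα hconj hg) fun g hc hne => S.pair_cent hα hpair hc hne
  have hc := Cfsg.Lib.StrongEmb.all_conj hK S.α_order (S.el_order (v := 5) (by decide))
  have h5 : S.o 5 = false := by
    have : act 0 5 = 5 := by decide +kernel
    rw [← this]; exact S.o_five 0
  rw [S.o_iff.2 hc] at h5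
  cases h5

end Setting

end Cfsg.Lib.AltTwelveType
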