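import Cfsg.Agent.AltTwelveType.SpMain

/-!
The setting from the hypotheses, and the reduction of the recognition to the alternating case.
-/

set_option autoImplicit false
set_option linter.unusedSectionVars false
set_option linter.style.haveILetI false
set_option maxRecDepth 100000

namespace Cfsg.Lib.AltTwelveType

open Subgroup

universe u

theorem center_model {m : Mh} (h : ∀ n, m * n = n * m) (hm : m * m = 1) (hne : m ≠ 1) : m = αm := by
  obtain ⟨c, b, hb⟩ := invol_into_A hm
  have hmb : m = pa b := by rw [← hb, ← h c]; group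
  subst hmb
  have key : ∀ b : Fin 64, (∀ k : Fin 8, act (e8 k) b = b) → b = 0 ∨ b = 5 ∨ b = 16 ∨ b = 21 :=
    central_fix
  have hfix : ∀ k : Fin 24, act k b = b := fun k => (pa_inj (mul_right_cancel ((h (pk k)).trans (pk_pa k b)))).symm
  rcases key b (fun k => hfix (e8 k)) with rfl | rfl | rfl | rfl
  · exact absurd pa_zero hne
  · exact absurd (hfix 8) (by decide +kernel)
  · exact absurd (hfix 8) (by decide +kernel)
  · rfl

variable {G : Type u} [Group G] [Finite G]

theorem exists_setting (α : G) (hα : orderOf α = 2) (P : Sylow 2 G)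
    (hαP : α ∈ (P : Subgroup G) ⊓ centralizer ((P : Subgroup G) : Set G))
    (e : ↥(centralizer ({α} : Set G)) ≃* Mh) : ∃ S : Setting G, S.α = α := by
  haveI : Fact (Nat.Prime 2) := ⟨Nat.prime_two⟩
  let φ : Mh →* G := (centralizer ({α} : Set G)).subtype.comp e.symm.toMonoidHom
  have hinj : Function.Injective φ := fun a b h => e.symm.injective (Subtype.ext h)
  have hrange : φ.range = centralizer ({α} : Set G) := by
    refine le_antisymm ?_ fun x hx => ?_
    · rintro _ ⟨m, rfl⟩; exact (e.symm m).2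
    · exact ⟨e ⟨x, hx⟩, congrArg Subtype.val (e.symm_apply_apply ⟨x, hx⟩)⟩
  have hαC : α ∈ centralizer ({α} : Set G) := mem_centralizer_singleton_iff.2 rfl
  have hφα : φ (e ⟨α, hαC⟩) = α := congrArg Subtype.val (e.symm_apply_apply ⟨α, hαC⟩)
  have hαm : φ αm = α := by
    have h2 : e ⟨α, hαC⟩ = αm := by
      refine center_model (fun n => hinj ?_) (hinj ?_) fun h => ?_
      · rw [map_mul, map_mul, hφα]
        exact (mem_centralizer_singleton_iff.1 (e.symm n).2).symm
      · rw [map_mul, hφα, map_one, Cfsg.Lib.InvolCalc.sq_of_order_two hα]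
      · rw [h, map_one] at hφα
        exact Cfsg.Lib.InvolCalc.ne_one_of_order_two hα hφα.symm
    rw [← h2, hφα]
  have hS : IsPGroup 2 (Sm.map φ) := (IsPGroup.of_card (n := 9) (by rw [card_Sm]; norm_num)).map φ
  obtain ⟨Q, hQ⟩ := hS.exists_le_sylow
  have hcard : Nat.card Q ≤ 512 := by
    have hPc : (P : Subgroup G) ≤ centralizer ({α} : Set G) := fun s hs =>
      mem_centralizer_singleton_iff.2 (mem_centralizer_iff.1 hαP.2 s hs)
    have hd := card_dvd_of_le hPc
    rw [Nat.card_congr e.toEquiv, card_Mh] at hd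
    obtain ⟨k, hk⟩ := IsPGroup.iff_card.1 P.isPGroup'
    rw [Nat.card_congr (Q.equiv P).toEquiv, hk]
    rw [hk] at hd
    by_contra hlt
    have h10 : 10 ≤ k := by
      by_contra h
      have : 2 ^ k ≤ 2 ^ 9 := Nat.pow_le_pow_right (by norm_num) (by omega)
      norm_num at this
      omega
    have := (pow_dvd_pow 2 h10).trans hd
    norm_num at this
  refine ⟨⟨φ, hinj, by rw [hαm, hrange], Q, (eq_of_le_of_card_ge hQ ?_).symm⟩, hαm⟩
  rw [card_map_of_injective hinj, card_Sm]; exact hcard

/-- The recognition, reduced to the alternating case. -/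
theorem recognition_of_alt
    (hAlt : ∀ S : Setting G, (∀ v, S.o v = oAlt v) →
      Nonempty (G ≃* ↥(alternatingGroup (Fin 12))) ∨ Nonempty (G ≃* ↥(alternatingGroup (Fin 13))))
    (α : G) (hα : orderOf α = 2) (P : Sylow 2 G)
    (hαP : α ∈ (P : Subgroup G) ⊓ centralizer ((P : Subgroup G) : Set G))
    (hC : Nonempty (↥(centralizer ({α} : Set G)) ≃* Mh)) :
    Nonempty (G ≃* ↥(alternatingGroup (Fin 12))) ∨ Nonempty (G ≃* ↥(alternatingGroup (Fin 13))) ∨
      (∃ (F : Type) (_ : Field F) (_ : Fintype F), Fintype.card F = 2 ∧ Nonempty (G ≃* Cfsg.PSp 3 F)) ∨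
      (Cfsg.oddCore G ⊔ Subgroup.centralizer ({α} : Set G) = ⊤ ∧ IsMulCommutative ↥(Cfsg.oddCore G)) := by
  obtain ⟨e⟩ := hC
  obtain ⟨S, hS⟩ := exists_setting α hα P hαP e
  rcases S.trichotomy with h | ⟨S', -, h⟩ | ⟨S', -, h⟩
  · exact Or.inr (Or.inr (Or.inr (hS ▸ S.isolated_conclusion h)))
  · exact Or.inr (Or.inr (Or.inl (Setting.symplectic_case h)))
  · rcases hAlt S' h with h | h
    · exact Or.inl h
    · exact Or.inr (Or.inl h)

end Cfsg.Lib.AltTwelveType
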