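import Cfsg.Agent.AltTwelveType.Fusion
import Cfsg.Agent.AltEightType.Core

/-!
No odd subgroup of the centraliser of a conjugate of the central involution is normalised by the
elementary subgroup; the case of an isolated involution.
-/

set_option autoImplicit false
set_option linter.unusedSectionVars false
set_option linter.style.haveILetI false
set_option maxRecDepth 10000

namespace Cfsg.Lib.AltTwelveType

open Subgroup

/-- the block of a point -/
def blockOf (x : Fin 12) : ℕ := x.val / 4

/-- the three even flips used for the blocks -/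
def vFlip : List (Fin 64) := [1, 4, 16]

theorem block_key : ∀ x y : Fin 12, (∀ a ∈ vFlip, (aFun a x = x ↔ aFun a y = y)) → blockOf y = blockOf x := by
  decide +kernel

theorem pair_block : ∀ x y z : Fin 12, blockOf x = blockOf y → blockOf y = blockOf z → pairOf x ≠ pairOf y →
    pairOf y ≠ pairOf z → pairOf x = pairOf z := by decide +kernel

theorem flip_invol : ∀ a ∈ vFlip, ∀ x : Fin 12, aFun a x = x ∨ aFun a x = αp x := by decide +kernel

theorem ker_flip : ∀ a ∈ vFlip, pairHom (pa a) = 1 := by decide +kernel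

/-- An element of the pair kernel moves every point inside its pair. -/
theorem ker_pair {m : Mh} (h : pairHom m = 1) (x : Fin 12) : m.1 x = x ∨ m.1 x = αp x := by
  have h1 : pairOf (m.1 x) = pairOf x := by
    rw [← pair_map]
    exact Equiv.congr_fun h (pairOf x)
  have key : ∀ x y : Fin 12, pairOf y = pairOf x → y = x ∨ y = αp x := by decide +kernel
  exact key x _ h1

theorem ker_comm {m n : Mh} (hm : pairHom m = 1) (hn : pairHom n = 1) : m * n = n * m := by
  refine Subtype.ext (Equiv.ext fun x => ?_)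
  show m.1 (n.1 x) = n.1 (m.1 x)
  have hc : ∀ (g : Mh) y, g.1 (αp y) = αp (g.1 y) := fun g y =>
    Equiv.congr_fun (Subgroup.mem_centralizer_singleton_iff.1 g.2.2) y
  rcases ker_pair hn x with h | h <;> rcases ker_pair hm x with h' | h' <;> simp only [h, h', hc]

theorem ker_sq {m : Mh} (hm : pairHom m = 1) : m * m = 1 := by
  refine Subtype.ext (Equiv.ext fun x => ?_)
  show m.1 (m.1 x) = x
  have hc : ∀ y, m.1 (αp y) = αp (m.1 y) := fun y =>
    Equiv.congr_fun (Subgroup.mem_centralizer_singleton_iff.1 m.2.2) y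
  have hi : ∀ y : Fin 12, αp (αp y) = y := by decide +kernel
  rcases ker_pair hm x with h | h
  · rw [h, h]
  · rw [h, hc, h, hi]

/-- An element commuting with the three flips has order dividing four. -/
theorem flip_cent {m : Mh} (h : ∀ a ∈ vFlip, m * pa a = pa a * m) : m * m * (m * m) = 1 := by
  have hb : ∀ x, blockOf (m.1 x) = blockOf x := fun x => by
    refine block_key x (m.1 x) fun a ha => ?_
    have e : m.1 (aFun a x) = aFun a (m.1 x) := Equiv.congr_fun (congrArg Subtype.val (h a ha)) x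
    constructor
    · intro hx; rw [← e, hx]
    · intro hx; exact m.1.injective (e.trans hx)
  have hc : ∀ y, m.1 (αp y) = αp (m.1 y) := fun y =>
    Equiv.congr_fun (Subgroup.mem_centralizer_singleton_iff.1 m.2.2) y
  have key : ∀ x y : Fin 12, pairOf x = pairOf y → y = x ∨ y = αp x := by decide +kernel
  have hp : ∀ x, pairOf (m.1 (m.1 x)) = pairOf x := fun x => by
    by_cases h1 : pairOf x = pairOf (m.1 x)
    · rw [← pair_map, ← h1, pair_map]; exact h1.symm
    · refine (pair_block x (m.1 x) (m.1 (m.1 x)) (hb x).symm (hb _).symm h1 fun h2 => h1 ?_).symm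
      rcases key _ _ h2 with e | e
      · rw [m.1.injective e]
      · rw [← hc] at e
        rw [m.1.injective e, pair_facts.2.1]
  exact ker_sq (Equiv.ext fun i => (hp (ptOf i)).trans (pair_facts.2.2 i))

/-- No odd subgroup of the model is normalised by the elementary subgroup. -/
theorem odd_eq_bot {P : Subgroup Mh} (hodd : Odd (Nat.card P)) (hn : ∀ a ∈ vFlip, ∀ p ∈ P, pa a * p * (pa a)⁻¹ ∈ P)
    {p : Mh} (hp : p ∈ P) : p = 1 := by
  have hcomm : ∀ a ∈ vFlip, p * pa a = pa a * p := fun a ha => by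
    set d := pa a * (p * pa a * p⁻¹) with hd
    have hdP : d ∈ P := by
      rw [hd, show pa a * (p * pa a * p⁻¹) = pa a * p * (pa a)⁻¹ * p⁻¹ by rw [pa_inv]; group]
      exact P.mul_mem (hn a ha p hp) (P.inv_mem hp)
    have hk : pairHom d = 1 := by rw [hd, map_mul, map_mul, map_mul, map_inv, ker_flip a ha]; group
    have hd1 := Cfsg.Lib.AltEightType.eq_one_of_odd_two hodd hdP (ker_sq hk)
    have h2 : pa a = p * pa a * p⁻¹ := by
      have := eq_inv_of_mul_eq_one_left (a := pa a) (b := p * pa a * p⁻¹) hd1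
      exact this.trans (by rw [mul_inv_rev, mul_inv_rev, inv_inv, pa_inv, mul_assoc])
    calc p * pa a = p * pa a * p⁻¹ * p := by group
      _ = pa a * p := by rw [← h2]
  have h4 := flip_cent hcomm
  have h2 := Cfsg.Lib.AltEightType.eq_one_of_odd_two hodd (P.mul_mem hp hp) h4
  exact Cfsg.Lib.AltEightType.eq_one_of_odd_two hodd hp h2

namespace Setting

variable {G : Type*} [Group G] [Finite G] (S : Setting G)

/-- No odd subgroup of the centraliser of a conjugate in the elementary subgroup is normalised by it. -/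
theorem odd_local {v : Fin 64} (hv : S.o v = true) {P : Subgroup G} (hodd : Odd (Nat.card P))
    (hc : ∀ p ∈ P, p * S.el v = S.el v * p) (hn : ∀ w, ∀ p ∈ P, S.el w * p * (S.el w)⁻¹ ∈ P) : P = ⊥ := by
  obtain ⟨g, hg⟩ := isConj_iff.1 (S.o_iff.1 hv)
  obtain ⟨n, hn', hne⟩ := S.control (v := 21) (g := g) (by rw [S.el_alpha, hg]; exact S.el_mem v)
  rw [S.el_alpha, hg] at hne
  let Q : Subgroup Mh := (P.map (MulAut.conj n⁻¹).toMonoidHom).comap S.φ
  have hQ : Odd (Nat.card Q) := by
    have h1 : Nat.card Q ∣ Nat.card (P.map (MulAut.conj n⁻¹).toMonoidHom) :=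
      card_comap_dvd_of_injective _ _ S.inj
    rw [card_map_of_injective (MulEquiv.injective _)] at h1
    exact hodd.of_dvd_nat h1
  rw [eq_bot_iff]
  intro p hp
  rw [mem_bot]
  obtain ⟨m, hm⟩ : ∃ m, S.φ m = n⁻¹ * p * n := by
    refine S.mem_cent.1 ?_
    have : S.α = n⁻¹ * S.el v * n := by rw [← hne]; group
    rw [this, show n⁻¹ * p * n * (n⁻¹ * S.el v * n) = n⁻¹ * (p * S.el v) * n by group, hc p hp]
    group
  have hm1 : m = 1 := by
    refine odd_eq_bot hQ (fun a _ q hq => ?_) (p := m) ⟨p, hp, by rw [hm]; simp⟩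
    obtain ⟨r, hr, hre⟩ := hq
    obtain ⟨w, hw⟩ := (mem_normalizer_iff.1 hn' (S.el a)).1 (S.el_mem a)
    refine ⟨S.el w * r * (S.el w)⁻¹, hn w r hr, ?_⟩
    show n⁻¹ * (S.el w * r * (S.el w)⁻¹) * n⁻¹⁻¹ = S.φ (pa a * q * (pa a)⁻¹)
    rw [map_mul, map_mul, map_inv, ← hre, hw]
    show _ = S.el a * (n⁻¹ * r * n⁻¹⁻¹) * (S.el a)⁻¹
    group
  rw [hm1, map_one] at hm
  calc p = n * (n⁻¹ * p * n) * n⁻¹ := by group
    _ = 1 := by rw [← hm]; group

theorem isolated_case (h : ∀ v, S.o v = true → v = 21) : Cfsg.IsIsolatedInvolution S.α := by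
  refine ⟨Cfsg.Lib.InvolCalc.order_two_of_mul_self (by rw [← S.el_alpha, S.el_sq]) S.α_ne, fun g hc => ?_⟩
  have hx : g * S.α * g⁻¹ * (g * S.α * g⁻¹) = 1 := by
    rw [show g * S.α * g⁻¹ * (g * S.α * g⁻¹) = g * (S.α * S.α) * g⁻¹ by group, ← S.el_alpha, S.el_sq]; group
  obtain ⟨c, b, hb⟩ := S.cent_into_A hx hc.eq.symm
  have hb21 : b = 21 := h b (S.o_iff.2 (isConj_iff.2 ⟨S.φ c * g, by rw [← hb]; group⟩))
  rw [hb21, S.el_alpha] at hb
  calc g * S.α * g⁻¹ = (S.φ c)⁻¹ * S.α * S.φ c := by
        conv_rhs => rw [← hb]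
        group
    _ = S.α := by rw [mul_assoc, ← S.φ_comm]; group

/-- The fourth alternative. -/
theorem isolated_conclusion (h : ∀ v, S.o v = true → v = 21) :
    Cfsg.oddCore G ⊔ centralizer ({S.α} : Set G) = ⊤ ∧ IsMulCommutative ↥(Cfsg.oddCore G) := by
  have hiso := S.isolated_case h
  have hO : Odd (Nat.card (Cfsg.oddCore G)) := Cfsg.Lib.AltEightType.odd_oddCore G
  constructor
  · rw [eq_top_iff]
    intro g _
    obtain ⟨k, hk, hkg⟩ := Cfsg.Lib.AltEightType.isolated_of_commuting (C := ⊤) (mem_top _) hiso.1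
      (fun g _ => hiso.2 g) (mem_top g)
    have hkO : k ∈ Cfsg.oddCore G := by
      haveI : (Cfsg.Lib.AltEightType.core (⊤ : Subgroup G)).Normal :=
        ⟨fun x hx g => (mem_normalizer_iff.1 (Cfsg.Lib.AltEightType.core_normalized (mem_top g)) x).1 hx⟩
      exact Cfsg.Lib.AltEightType.le_oddCore (Cfsg.Lib.AltEightType.odd_core _) hk
    rw [show g = k * (k⁻¹ * g) by group]
    exact mul_mem (mem_sup_left hkO) (mem_sup_right hkg)
  · -- the involution inverts the odd core
    set O := Cfsg.oddCore G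
    have hfix : ∀ p ∈ O, p * S.α = S.α * p → p = 1 := fun p hp hc => by
      have hbot := S.odd_local (v := 21) S.o_alpha (P := O ⊓ centralizer ({S.α} : Set G))
        (hO.of_dvd_nat (card_dvd_of_le inf_le_left))
        (fun q hq => by rw [S.el_alpha]; exact mem_centralizer_singleton_iff.1 hq.2)
        (fun w q hq => by
          refine ⟨Normal.conj_mem inferInstance q hq.1 _, mem_centralizer_singleton_iff.2 ?_⟩
          have hq2 := mem_centralizer_singleton_iff.1 hq.2
          rw [← S.el_alpha] at hq2 ⊢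
          calc S.el w * q * (S.el w)⁻¹ * S.el 21 = S.el w * q * ((S.el w)⁻¹ * S.el 21 * S.el w) * (S.el w)⁻¹ := by group
            _ = S.el w * (q * S.el 21) * (S.el w)⁻¹ := by rw [mul_assoc (S.el w)⁻¹, S.el_comm 21 w]; group
            _ = S.el w * S.el 21 * q * (S.el w)⁻¹ := by rw [hq2]; group
            _ = S.el 21 * (S.el w * q * (S.el w)⁻¹) := by rw [S.el_comm w 21]; group)
      exact (eq_bot_iff.1 hbot) ⟨hp, mem_centralizer_singleton_iff.2 hc⟩
    let f : O →* O := (MulAut.conjNormal S.α : MulAut O).toMonoidHom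
    have hval : ∀ x : O, (f x : G) = S.α * x * S.α⁻¹ := fun x => MulAut.conjNormal_apply _ _
    have hfree : MonoidHom.FixedPointFree f := fun x hx => Subtype.ext (hfix x x.2 (by
      have h1 := congrArg Subtype.val hx
      rw [hval] at h1
      calc (x : G) * S.α = S.α * x * S.α⁻¹ * S.α := by rw [h1]
        _ = S.α * x := by group))
    have hinv : Function.Involutive f := fun x => Subtype.ext (by
      rw [hval, hval]
      have h2 : S.α * S.α = 1 := by rw [← S.el_alpha, S.el_sq]
      calc S.α * (S.α * x * S.α⁻¹) * S.α⁻¹ = S.α * S.α * x * (S.α * S.α)⁻¹ := by group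
        _ = x := by rw [h2]; group)
    exact ⟨⟨fun a b => hfree.commute_all_of_involutive hinv a b⟩⟩

end Setting

end Cfsg.Lib.AltTwelveType
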