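import Cfsg.Agent.AltTwelveType.Fusion
import Cfsg.Agent.InvolCalc.StronglyEmbedded

/-!
A subgroup containing the normaliser of the elementary subgroup and the centralisers of all its
involutions is the whole group.
-/

set_option autoImplicit false
set_option linter.unusedSectionVars false
set_option linter.style.haveILetI false
set_option maxRecDepth 10000

namespace Cfsg.Lib.AltTwelveType

open Subgroup

namespace Setting

variable {G : Type*} [Group G] [Finite G] (S : Setting G)

theorem el_order {v : Fin 64} (hv : v ≠ 0) : orderOf (S.el v) = 2 :=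
  Cfsg.Lib.InvolCalc.order_two_of_mul_self (S.el_sq v) fun h => hv (S.el_inj (h.trans S.el_zero.symm))

theorem eq_top_of_local {H : Subgroup G} (hN : normalizer (S.AG : Set G) ≤ H)
    (hC : ∀ v : Fin 64, v ≠ 0 → centralizer ({S.el v} : Set G) ≤ H) : H = ⊤ := by
  by_contra hH
  haveI : Fact (Nat.Prime 2) := ⟨Nat.prime_two⟩
  have hα : S.φ.range ≤ H := by rw [S.range_eq]; exact hC 21 (by decide)
  have hSH : (S.syl : Subgroup G) ≤ H := by rw [S.syl_eq]; exact (map_le_range _ _).trans hα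
  -- conjugation into the elementary subgroup inside `H`
  have hinto : ∀ t ∈ H, orderOf t = 2 → ∃ h ∈ H, ∃ v, v ≠ 0 ∧ h * t * h⁻¹ = S.el v := by
    intro t ht h2
    let SH : Sylow 2 H := S.syl.subtype hSH
    obtain ⟨a, ha⟩ := Cfsg.Lib.InvolCalc.exists_conj_le SH (H := zpowers (⟨t, ht⟩ : H))
      (IsPGroup.of_card (n := 1) (by rw [Nat.card_zpowers, Subgroup.orderOf_mk, h2, pow_one]))
    have hy : (a : G)⁻¹ * t * a ∈ (S.syl : Subgroup G) := ha _ (mem_zpowers _)
    rw [S.syl_eq] at hy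
    obtain ⟨m, -, hm⟩ := hy
    have hm2 : m * m = 1 := S.inj (by
      rw [map_mul, hm, map_one, show (a : G)⁻¹ * t * a * ((a : G)⁻¹ * t * a) = (a : G)⁻¹ * (t * t) * a by group,
        Cfsg.Lib.InvolCalc.sq_of_order_two h2]
      group)
    obtain ⟨c, b, hb⟩ := invol_into_A hm2
    have e : S.φ c * (a : G)⁻¹ * t * (S.φ c * (a : G)⁻¹)⁻¹ = S.el b := by
      rw [el, ← hb, map_mul, map_mul, map_inv, hm]; group
    refine ⟨_, mul_mem (hα ⟨c, rfl⟩) (inv_mem a.2), b, ?_, e⟩
    rintro rfl
    rw [S.el_zero] at e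
    exact Cfsg.Lib.InvolCalc.ne_one_of_order_two h2 (conj_eq_one_iff.1 e)
  have heven : Even (Nat.card H) := by
    rw [even_iff_two_dvd, ← S.el_order (v := 21) (by decide)]
    exact Subgroup.orderOf_dvd_natCard _ (hα ⟨αm, rfl⟩)
  have hSE : Cfsg.IsStronglyEmbedded H := by
    refine Cfsg.Lib.StrongEmb.of_conditions hH heven (fun t ht h2 => ?_) fun t ht s hs h2 h2' hts => ?_
    · obtain ⟨h, hh, v, hv, e⟩ := hinto t ht h2
      intro x hx
      have hx' : h * x * h⁻¹ ∈ H := hC v hv (mem_centralizer_singleton_iff.2 (by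
        rw [← e, show h * x * h⁻¹ * (h * t * h⁻¹) = h * (x * t) * h⁻¹ by group,
          mem_centralizer_singleton_iff.1 hx]
        group))
      have := mul_mem (mul_mem (inv_mem hh) hx') hh
      rwa [show h⁻¹ * (h * x * h⁻¹) * h = x by group] at this
    · obtain ⟨h, hh, v, -, e⟩ := hinto t ht h2
      obtain ⟨k, hk, w, -, e'⟩ := hinto s hs h2'
      obtain ⟨g, hg⟩ := isConj_iff.1 hts
      have hgv : k * g * h⁻¹ * S.el v * (k * g * h⁻¹)⁻¹ = S.el w := by rw [← e, ← e', ← hg]; group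
      obtain ⟨n, hn, hne⟩ := S.control (v := v) (g := k * g * h⁻¹) (by rw [hgv]; exact S.el_mem w)
      rw [hgv] at hne
      refine ⟨k⁻¹ * n * h, mul_mem (mul_mem (inv_mem hk) (hN hn)) hh, ?_⟩
      calc k⁻¹ * n * h * t * (k⁻¹ * n * h)⁻¹ = k⁻¹ * (n * (h * t * h⁻¹) * n⁻¹) * k := by group
        _ = k⁻¹ * (k * s * k⁻¹) * k := by rw [e, hne, e']
        _ = s := by group
  have hconj := Cfsg.Lib.StrongEmb.all_conj hSE (S.el_order (v := 21) (by decide)) (S.el_order (v := 5) (by decide))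
  have h5 : S.o 5 = false := by
    have : act 0 5 = 5 := by decide +kernel
    rw [← this]; exact S.o_five 0
  rw [S.el_alpha] at hconj
  rw [S.o_iff.2 hconj] at h5
  cases h5

end Setting

end Cfsg.Lib.AltTwelveType
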