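import Cfsg.Agent.AltTwelveType.Norm

/-!
The second outer automorphism of the model: conjugation by the exchange of the last pair.
-/

set_option autoImplicit false
set_option linter.unusedSectionVars false
set_option linter.style.haveILetI false
set_option maxRecDepth 100000
set_option maxHeartbeats 1000000

namespace Cfsg.Lib.AltTwelveType

open Subgroup

theorem tSwap_facts : (∀ x : Fin 12, tSwap (tSwap x) = x) ∧ (∀ x : Fin 12, tSwap (αp x) = αp (tSwap x)) := by
  decide +kernel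

theorem flip_mem (m : Mh) : tSwap * m.1 * tSwap⁻¹ ∈
    alternatingGroup (Fin 12) ⊓ Subgroup.centralizer ({αp} : Set (Equiv.Perm (Fin 12))) := by
  have ht : tSwap⁻¹ = tSwap := inv_eq_of_mul_eq_one_right (Equiv.ext tSwap_facts.1)
  refine mem_of ?_ fun x => ?_
  · rw [map_mul, map_mul, map_inv, Equiv.Perm.mem_alternatingGroup.1 m.2.1, mul_one, mul_inv_cancel]
  · rw [ht]
    simp only [Equiv.Perm.mul_apply]
    rw [tSwap_facts.2, show m.1 (αp (tSwap x)) = αp (m.1 (tSwap x)) from
      Equiv.congr_fun (Subgroup.mem_centralizer_singleton_iff.1 m.2.2) (tSwap x), tSwap_facts.2]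

/-- conjugation by the exchange -/
def flipHom : Mh →* Mh :=
  MonoidHom.mk' (fun m => ⟨tSwap * m.1 * tSwap⁻¹, flip_mem m⟩) fun m n => Subtype.ext (by
    show tSwap * (m.1 * n.1) * tSwap⁻¹ = tSwap * m.1 * tSwap⁻¹ * (tSwap * n.1 * tSwap⁻¹)
    group)

theorem flip_flip (m : Mh) : flipHom (flipHom m) = m := Subtype.ext (by
  show tSwap * (tSwap * m.1 * tSwap⁻¹) * tSwap⁻¹ = m.1
  have h : tSwap * tSwap = 1 := Equiv.ext tSwap_facts.1
  calc tSwap * (tSwap * m.1 * tSwap⁻¹) * tSwap⁻¹ = tSwap * tSwap * m.1 * (tSwap * tSwap)⁻¹ := by group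
    _ = m.1 := by rw [h]; group)

/-- the exchange on coordinates -/
def fA (v : Fin 64) : Fin 64 :=
  if v.val.testBit 5 then axor v 16 else v

theorem flip_pa_table : ∀ a : Fin 64, ∀ x : Fin 12, tSwap (aFun a (tSwap x)) = aFun (fA a) x := by decide +kernel

theorem flip_pa (a : Fin 64) : flipHom (pa a) = pa (fA a) := by
  have ht : tSwap⁻¹ = tSwap := inv_eq_of_mul_eq_one_right (Equiv.ext tSwap_facts.1)
  refine Subtype.ext (Equiv.ext fun x => ?_)
  show tSwap (aFun a (tSwap⁻¹ x)) = aFun (fA a) x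
  rw [ht, flip_pa_table]

theorem fA_facts : (∀ v, fA (fA v) = v) ∧ fA 21 = 21 ∧ (∀ v, oSp (fA v) = oSp v) := by decide +kernel

theorem flip_sm_table : ∀ a : Fin 64, ∀ k : Fin 8, ∃ l : Fin 8, ∀ x : Fin 12,
    tSwap (aFun a (kFun (e8 k) (tSwap x))) =
      aFun (code fun y => tSwap (aFun a (kFun (e8 k) (tSwap (kFun (kinv (e8 l)) y))))) (kFun (e8 l) x) := by
  decide +kernel

theorem flip_Sm {m : Mh} (h : m ∈ Sm) : flipHom m ∈ Sm := by
  obtain ⟨a, k, hk, rfl⟩ := h
  obtain ⟨l, hl⟩ := flip_sm_table a ⟨k.val, hk⟩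
  refine ⟨code fun y => tSwap (aFun a (kFun (e8 ⟨k.val, hk⟩) (tSwap (kFun (kinv (e8 l)) y)))), e8 l, l.isLt,
    Subtype.ext (Equiv.ext fun x => ?_)⟩
  have ht : tSwap⁻¹ = tSwap := inv_eq_of_mul_eq_one_right (Equiv.ext tSwap_facts.1)
  show tSwap (aFun a (kFun k (tSwap⁻¹ x))) = _
  rw [ht]
  exact hl x

namespace Setting

variable {G : Type*} [Group G] [Finite G] (S : Setting G)

/-- the setting composed with the exchange -/
noncomputable def flipped : Setting G where
  φ := S.φ.comp flipHom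
  inj := S.inj.comp fun a b h => by rw [← flip_flip a, ← flip_flip b, h]
  range_eq := by
    have hs : Function.Surjective flipHom := fun m => ⟨flipHom m, flip_flip m⟩
    rw [MonoidHom.range_comp, MonoidHom.range_eq_top.2 hs, ← MonoidHom.range_eq_map, S.range_eq,
      MonoidHom.comp_apply]
    show centralizer {S.φ αm} = centralizer {S.φ (flipHom (pa 21))}
    rw [flip_pa, fA_facts.2.1]; rfl
  syl := S.syl
  syl_eq := by
    rw [S.syl_eq, ← Subgroup.map_map]
    congr 1
    refine eq_of_le_of_card_ge (fun m hm => ⟨flipHom m, flip_Sm hm, flip_flip m⟩) ?_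
    rw [card_map_of_injective (fun a b h => by rw [← flip_flip a, ← flip_flip b, h])]

theorem flipped_el (v : Fin 64) : S.flipped.el v = S.el (fA v) := by
  show S.φ (flipHom (pa v)) = S.φ (pa (fA v))
  rw [flip_pa]

theorem flipped_alpha : S.flipped.α = S.α := by
  show S.flipped.el 21 = S.el 21
  rw [S.flipped_el, fA_facts.2.1]

theorem flipped_o (v : Fin 64) : S.flipped.o v = S.o (fA v) := by
  rw [Bool.eq_iff_iff, o_iff, o_iff, S.flipped_el, S.flipped_alpha]

theorem flipped_ind {θ : Fin 64 → Fin 64} (h : S.Ind θ) : S.flipped.Ind (fA ∘ θ ∘ fA) := by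
  obtain ⟨n, hn⟩ := h
  refine ⟨n, fun v => ?_⟩
  rw [S.flipped_el, S.flipped_el, hn]
  simp only [Function.comp_apply, fA_facts.1]

end Setting

end Cfsg.Lib.AltTwelveType
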