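import Cfsg.Agent.AltTwelveType.Setting
import Cfsg.Agent.AltEightType.Core
import Cfsg.Agent.Transfer.Fusion

/-!
The orbit of the central involution on the elementary subgroup: either it is alone, or it consists of
seven points, or of twenty-seven points, up to the twist.
-/

set_option autoImplicit false
set_option linter.unusedSectionVars false
set_option linter.style.haveILetI false
set_option maxRecDepth 10000

namespace Cfsg.Lib.AltTwelveType

open Subgroup

variable {G : Type*} [Group G] [Finite G]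

theorem axor_comm : ∀ a w : Fin 64, axor a w = axor w a := by decide +kernel

theorem twA_twA : ∀ v : Fin 64, twA (twA v) = v := by decide +kernel

theorem maskO_zero : ∀ v : Fin 64, maskO 0 v = true → v = 21 := by decide +kernel

theorem perm_finRange (θ : Equiv.Perm (Fin 64)) : ((List.finRange 64).map θ).Perm (List.finRange 64) :=
  (List.perm_ext_iff_of_nodup ((List.nodup_finRange _).map θ.injective) (List.nodup_finRange _)).2 fun x =>
    ⟨fun _ => List.mem_finRange x, fun _ => List.mem_map.2 ⟨θ.symm x, List.mem_finRange _, θ.apply_symm_apply x⟩⟩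

theorem c1_map (θ : Equiv.Perm (Fin 64)) (hadd : ∀ v w, θ (axor v w) = axor (θ v) (θ w)) (o : Fin 64 → Bool)
    (ho : ∀ v, o (θ v) = o v) (v : Fin 64) : c1 o (θ v) = c1 o v := by
  unfold c1
  rw [← (((perm_finRange θ).filter _).length_eq), List.filter_map, List.length_map]
  congr 2
  funext w
  simp only [Function.comp_apply]
  rw [← hadd, ho, ho]

theorem c3_map (θ : Equiv.Perm (Fin 64)) (hadd : ∀ v w, θ (axor v w) = axor (θ v) (θ w)) (o : Fin 64 → Bool)
    (ho : ∀ v, o (θ v) = o v) (v : Fin 64) : c3 o (θ v) = c3 o v := by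
  unfold c3
  rw [← (((perm_finRange θ).filter o).map _).sum_eq, List.filter_map, List.map_map]
  congr 1
  rw [show (o ∘ θ) = o from funext ho]
  refine List.map_congr_left fun u _ => ?_
  simp only [Function.comp_apply]
  rw [← hadd, c1_map θ hadd o ho]

namespace Setting

variable (S : Setting G)

/-- the conjugates of the central involution among the coordinates -/
noncomputable def o (v : Fin 64) : Bool := by
  classical exact decide (IsConj S.α (S.el v))

theorem o_iff {v : Fin 64} : S.o v = true ↔ IsConj S.α (S.el v) := by simp [o]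

theorem α_ne : S.α ≠ 1 := fun h => αm_ne (S.inj (h.trans (map_one _).symm))

theorem o_alpha : S.o 21 = true := S.o_iff.2 (IsConj.refl _)

theorem o_zero : S.o 0 = false := by
  rw [Bool.eq_false_iff]
  intro h
  rw [S.o_iff, S.el_zero] at h
  exact S.α_ne (isConj_one_left.1 h)

theorem φ_el (k : Fin 24) (v : Fin 64) : S.φ (pk k) * S.el v * (S.φ (pk k))⁻¹ = S.el (act k v) := by
  rw [el, el, ← map_inv, ← map_mul, ← map_mul]
  congr 1
  rw [pk_pa, mul_inv_cancel_right]

theorem o_act (k : Fin 24) (v : Fin 64) : S.o (act k v) = S.o v := by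
  have h : IsConj (S.el v) (S.el (act k v)) := isConj_iff.2 ⟨S.φ (pk k), S.φ_el k v⟩
  rw [Bool.eq_iff_iff, S.o_iff, S.o_iff]
  exact ⟨fun e => e.trans h.symm, fun e => e.trans h⟩

theorem o_square {v : Fin 64} (hc : ∀ k : Fin 8, act (e8 k) v = v) {g : Mh} (hg : g ∈ Sm) (hsq : g * g = pa v) :
    S.o v = false := by
  haveI : Fact (Nat.Prime 2) := ⟨Nat.prime_two⟩
  rw [Bool.eq_false_iff]
  intro h
  rw [S.o_iff] at h
  obtain ⟨c, hc'⟩ := isConj_iff.1 h
  have hcen : ∀ w : Fin 64, (∀ k : Fin 8, act (e8 k) w = w) →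
      (S.syl : Subgroup G) ≤ normalizer ({S.el w} : Set G) := by
    intro w hw s hs
    rw [S.syl_eq] at hs
    obtain ⟨m, ⟨a, k, hk, rfl⟩, rfl⟩ := hs
    have hfix : pa a * pk k * pa w * (pa a * pk k)⁻¹ = pa w := by
      have he : e8 ⟨k.val, hk⟩ = k := rfl
      have := hw ⟨k.val, hk⟩
      rw [he] at this
      rw [mul_assoc (pa a), pk_pa, this, ← mul_assoc, pa_mul, axor_comm a w, ← pa_mul]
      group
    have e : S.φ (pa a * pk k) * S.el w * (S.φ (pa a * pk k))⁻¹ = S.el w := by
      rw [el, ← map_inv, ← map_mul, ← map_mul, hfix]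
    rw [mem_set_normalizer_iff]
    intro x
    rw [Set.mem_singleton_iff, Set.mem_singleton_iff]
    constructor
    · intro hx; rw [hx, e]
    · intro hx; exact mul_left_cancel (mul_right_cancel (hx.trans e.symm))
  obtain ⟨n, hn, hne⟩ := Cfsg.Lib.Transfer.burnside_fusion_set S.syl {S.el 21} {S.el v}
    (hcen 21 fun k => (central_five k).2.2) (hcen v hc) c (by rw [Set.image_singleton, S.el_alpha, hc'])
  rw [Set.image_singleton, Set.singleton_eq_singleton_iff] at hne
  have hs : S.φ g ∈ (S.syl : Subgroup G) := by rw [S.syl_eq]; exact ⟨g, hg, rfl⟩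
  have ht : n⁻¹ * S.φ g * n ∈ (S.syl : Subgroup G) := by
    have h1 : n * (n⁻¹ * S.φ g * n) * n⁻¹ = S.φ g := by group
    exact (mem_normalizer_iff.1 hn _).2 (h1.symm ▸ hs)
  rw [S.syl_eq] at ht
  obtain ⟨t, htm, hte⟩ := ht
  refine αm_not_square htm (S.inj ?_)
  rw [map_mul, hte, show n⁻¹ * S.φ g * n * (n⁻¹ * S.φ g * n) = n⁻¹ * (S.φ g * S.φ g) * n by group,
    ← map_mul, hsq]
  show n⁻¹ * S.el v * n = S.α
  rw [← hne, S.el_alpha]; group

theorem o_five (k : Fin 24) : S.o (act k 5) = false := by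
  rw [S.o_act]
  exact S.o_square (fun k => (central_five k).1) ((Sm.mul_mem (pa_mem_Sm 1) (pk_mem_Sm (by decide)))) roots.1

theorem o_sixteen (k : Fin 24) : S.o (act k 16) = false := by
  rw [S.o_act]
  exact S.o_square (fun k => (central_five k).2.1) ((Sm.mul_mem (pa_mem_Sm 32) (pk_mem_Sm (by decide)))) roots.2

/-- A conjugate in the elementary subgroup comes from a linear map preserving the conjugates. -/
theorem exists_theta {v : Fin 64} (hv : S.o v = true) : ∃ θ : Equiv.Perm (Fin 64),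
    (∀ x y, θ (axor x y) = axor (θ x) (θ y)) ∧ (∀ w, S.o (θ w) = S.o w) ∧ θ 21 = v := by
  obtain ⟨g, hg⟩ := isConj_iff.1 (S.o_iff.1 hv)
  obtain ⟨n, hn, hne⟩ := S.control (v := 21) (g := g) (by rw [S.el_alpha, hg]; exact S.el_mem v)
  rw [S.el_alpha, hg] at hne
  have h : ∀ w, ∃ u, S.el u = n * S.el w * n⁻¹ := fun w => (mem_normalizer_iff.1 hn _).1 (S.el_mem w)
  choose θ hθ using h
  have hinj : Function.Injective θ := fun x y e => S.el_inj (by
    have := congrArg S.el e
    rw [hθ, hθ] at this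
    exact mul_left_cancel (mul_right_cancel this))
  refine ⟨Equiv.ofBijective θ (Finite.injective_iff_bijective.1 hinj), fun x y => ?_, fun w => ?_, ?_⟩
  · apply S.el_inj
    show S.el (θ (axor x y)) = S.el (axor (θ x) (θ y))
    rw [hθ, ← S.el_mul, ← S.el_mul, hθ, hθ]; group
  · show S.o (θ w) = S.o w
    have hc : IsConj (S.el w) (S.el (θ w)) := isConj_iff.2 ⟨n, (hθ w).symm⟩
    rw [Bool.eq_iff_iff, S.o_iff, S.o_iff]
    exact ⟨fun e => e.trans hc.symm, fun e => e.trans hc⟩
  · apply S.el_inj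
    show S.el (θ 21) = S.el v
    rw [hθ, S.el_alpha, hne]

theorem c1_const {v : Fin 64} (hv : S.o v = true) : c1 S.o v = c1 S.o 21 ∧ c3 S.o v = c3 S.o 21 := by
  obtain ⟨θ, h1, h2, rfl⟩ := S.exists_theta hv
  exact ⟨c1_map θ h1 _ h2 21, c3_map θ h1 _ h2 21⟩

theorem o_cases : ∃ m : Fin 128, (m.val = 0 ∨ m.val = 1 ∨ m.val = 8 ∨ m.val = 113 ∨ m.val = 120) ∧
    ∀ v, S.o v = maskO m.val v := by
  classical
  let P : Fin 7 → Bool := fun i => S.o (repTab i)
  let m : ℕ := ((List.finRange 7).map fun i => if P i then 2 ^ i.val else 0).sum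
  have key : ∀ P : Fin 7 → Bool, ((List.finRange 7).map fun i => if P i then 2 ^ i.val else 0).sum < 128 ∧
      ∀ i : Fin 7, (((List.finRange 7).map fun i => if P i then 2 ^ i.val else 0).sum).testBit i.val = P i := by
    decide +kernel
  obtain ⟨hlt, hbit⟩ := key P
  have hdis : ∀ i j : Fin 7, ∀ k l : Fin 24, act k (repTab i) = act l (repTab j) → i = j := by decide +kernel
  have hno : ∀ i : Fin 7, ∀ k l : Fin 24, act k (repTab i) ≠ act l 5 ∧ act k (repTab i) ≠ act l 16 ∧
      act k (repTab i) ≠ 21 ∧ act k (repTab i) ≠ 0 ∧ act l 5 ≠ 21 ∧ act l 16 ≠ 21 := by decide +kernel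
  have ho : ∀ v, S.o v = maskO m v := by
    intro v
    rw [Bool.eq_iff_iff]
    constructor
    · intro h
      rcases orb_cover v with rfl | rfl | ⟨i, k, rfl⟩ | ⟨k, rfl | rfl⟩
      · rw [S.o_zero] at h; cases h
      · simp [maskO]
      · rw [S.o_act] at h
        simp only [maskO, Bool.or_eq_true, List.any_eq_true, Bool.and_eq_true, decide_eq_true_eq]
        exact Or.inr ⟨i, List.mem_finRange _, (hbit i).trans h, k, List.mem_finRange _, rfl⟩
      · rw [S.o_five] at h; cases h
      · rw [S.o_sixteen] at h; cases h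
    · intro h
      simp only [maskO, Bool.or_eq_true, List.any_eq_true, Bool.and_eq_true, decide_eq_true_eq] at h
      rcases h with rfl | ⟨i, -, hi, k, -, rfl⟩
      · exact S.o_alpha
      · rw [S.o_act]; exact (hbit i).symm.trans hi
  refine ⟨⟨m, hlt⟩, balanced_cases ⟨m, hlt⟩ ?_, ho⟩
  have hs : (fun v : Fin 64 => (setOf m).testBit v.val) = S.o := funext fun v => by
    rw [setOf_spec ⟨m, hlt⟩ v, ho v]
  simp only [balanced, hs, Bool.and_eq_true, List.all_eq_true, List.mem_filter, decide_eq_true_eq]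
  exact ⟨fun v hv => (S.c1_const hv.2).1, fun v hv => (S.c1_const hv.2).2⟩

theorem twisted_o (v : Fin 64) : S.twisted.o v = S.o (twA v) := by
  rw [Bool.eq_iff_iff, o_iff, o_iff, S.twisted_el, S.twisted_alpha]

/-- The three possibilities. -/
theorem trichotomy : (∀ v, S.o v = true → v = 21) ∨
    (∃ S' : Setting G, S'.α = S.α ∧ ∀ v, S'.o v = oSp v) ∨
    (∃ S' : Setting G, S'.α = S.α ∧ ∀ v, S'.o v = oAlt v) := by
  obtain ⟨m, hm, ho⟩ := S.o_cases
  rcases hm with h | h | h | h | h <;> rw [h] at ho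
  · exact Or.inl fun v hv => maskO_zero v (by rw [← ho]; exact hv)
  · exact Or.inr (Or.inl ⟨S, rfl, fun v => (ho v).trans (oSp_iff v).1.symm⟩)
  · refine Or.inr (Or.inl ⟨S.twisted, S.twisted_alpha, fun v => ?_⟩)
    rw [S.twisted_o, ho, ← (oSp_iff (twA v)).2, twA_twA]
  · refine Or.inr (Or.inr ⟨S.twisted, S.twisted_alpha, fun v => ?_⟩)
    rw [S.twisted_o, ho, ← (oAlt_iff (twA v)).2, twA_twA]
  · exact Or.inr (Or.inr ⟨S, rfl, fun v => (ho v).trans (oAlt_iff v).1.symm⟩)

end Setting

end Cfsg.Lib.AltTwelveType
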