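import Cfsg.Agent.AltTwelveType.Model

/-!
Finite facts on the model: its elementary subgroup of order 64, the classes of involutions and the
possible orbits of the central involution on that subgroup.
-/

set_option autoImplicit false
set_option maxRecDepth 100000
set_option maxHeartbeats 1000000

namespace Cfsg.Lib.AltTwelveType

open Equiv

/-- a letter of the complement of the Sylow subgroup -/
def e8 (k : Fin 8) : Fin 24 := ⟨k.val, Nat.lt_trans k.isLt (by decide)⟩

/-- the product of two transpositions exchanging two pairs -/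
def swapPair (i j : Fin 6) : Equiv.Perm (Fin 12) :=
  Equiv.swap (⟨2 * i.val, by omega⟩ : Fin 12) ⟨2 * j.val, by omega⟩ *
    Equiv.swap (⟨2 * i.val + 1, by omega⟩ : Fin 12) ⟨2 * j.val + 1, by omega⟩

theorem swapPair_sign : ∀ i j : Fin 6, Equiv.Perm.sign (swapPair i j) = 1 := by decide +kernel
theorem swapPair_comm : ∀ i j : Fin 6, ∀ x : Fin 12, swapPair i j (αp x) = αp (swapPair i j x) := by decide +kernel

/-- the exchange of two pairs, in the model -/
def sw (i j : Fin 6) : Mh := ⟨swapPair i j, mem_of (swapPair_sign i j) (swapPair_comm i j)⟩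

/-- the six conjugators -/
def conjs : List (Fin 6 × Fin 6) := [(1, 2), (1, 3), (3, 4), (3, 5), (1, 4), (1, 5)]

/-- the coordinates read off a permutation -/
def code (f : Fin 12 → Fin 12) : Fin 64 :=
  ⟨((f 0).val % 4 + 4 * ((f 4).val % 4) + 16 * ((f 8).val % 4)) % 64, Nat.mod_lt _ (by norm_num)⟩

/-- a conjugated element of the Sylow subgroup, as a map -/
def conjFun (c : Fin 6 × Fin 6) (a : Fin 64) (k : Fin 24) (x : Fin 12) : Fin 12 :=
  swapPair c.1 c.2 (aFun a (kFun k (swapPair c.1 c.2 x)))

theorem swapPair_invol : ∀ i j : Fin 6, ∀ x : Fin 12, swapPair i j (swapPair i j x) = x := by decide +kernel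

theorem invol_table : ∀ a : Fin 64, ∀ k : Fin 8, k ≠ 0 → (∀ x, aFun a (kFun (e8 k) (aFun a (kFun (e8 k) x))) = x) →
    conjs.any (fun c => decide (∀ x, conjFun c a (e8 k) x = aFun (code (conjFun c a (e8 k))) x)) = true := by
  decide +kernel

/-- Every involution of the Sylow subgroup is conjugate in the model into the elementary subgroup. -/
theorem into_A {g : Mh} (hg : g ∈ Sm) (h2 : g * g = 1) : ∃ m : Mh, ∃ b : Fin 64, m * g * m⁻¹ = pa b := by
  obtain ⟨a, k, hk, rfl⟩ := hg
  by_cases hk0 : k = 0
  · exact ⟨1, a, by rw [hk0, pk_zero, one_mul, inv_one, mul_one, mul_one]⟩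
  have he : e8 ⟨k.val, hk⟩ = k := rfl
  obtain ⟨c, -, hd⟩ := List.any_eq_true.1 (invol_table a ⟨k.val, hk⟩
    (fun h => hk0 (Fin.ext (by simpa using congrArg Fin.val h)))
    (fun x => Equiv.congr_fun (congrArg Subtype.val h2) x))
  have hc := of_decide_eq_true hd
  refine ⟨sw c.1 c.2, code (conjFun c a (e8 ⟨k.val, hk⟩)), ?_⟩
  have hs : (sw c.1 c.2)⁻¹ = sw c.1 c.2 :=
    inv_eq_of_mul_eq_one_right (Subtype.ext (Equiv.ext (swapPair_invol c.1 c.2)))
  rw [hs]
  exact Subtype.ext (Equiv.ext hc)

/-- the fixed coordinates of a set of letters -/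
def fixList (m : ℕ) : List (Fin 64) :=
  (List.finRange 64).filter fun a => (List.finRange 8).all fun k => !m.testBit k.val || decide (act (e8 k) a = a)

/-- closed elementary sets of letters -/
def elemSet (m : ℕ) : Bool :=
  m.testBit 0 && (List.finRange 8).all fun k => !m.testBit k.val || (decide (kmul (e8 k) (e8 k) = 0) &&
    (List.finRange 8).all fun l => !m.testBit l.val ||
      (decide (kmul (e8 k) (e8 l) = kmul (e8 l) (e8 k)) && m.testBit (kmul (e8 k) (e8 l)).val))

theorem elem_small : ∀ m : Fin 256, elemSet m.val = true → m.val ≠ 1 →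
    ((List.finRange 8).filter fun k => m.val.testBit k.val).length * (fixList m.val).length < 64 := by decide +kernel

/-- a characteristic set of letters as a number -/
def maskOf (P : Fin 8 → Bool) : ℕ :=
  ((List.finRange 8).map fun k => if P k then 2 ^ k.val else 0).sum

theorem maskOf_spec : ∀ P : Fin 8 → Bool, maskOf P < 256 ∧ ∀ k : Fin 8, (maskOf P).testBit k.val = P k := by
  decide +kernel

theorem roots : pa 1 * pk 4 * (pa 1 * pk 4) = pa 5 ∧ pa 32 * pk 2 * (pa 32 * pk 2) = pa 16 := by
  constructor <;> exact Subtype.ext (Equiv.ext (by decide +kernel))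

theorem not_square : ∀ a : Fin 64, ∀ k : Fin 8, ¬ ∀ x, aFun a (kFun (e8 k) (aFun a (kFun (e8 k) x))) = αp x := by
  decide +kernel

/-- the central involution of the model is not a square in the Sylow subgroup -/
theorem αm_not_square {g : Mh} (hg : g ∈ Sm) : g * g ≠ αm := by
  obtain ⟨a, k, hk, rfl⟩ := hg
  intro h
  refine not_square a ⟨k.val, hk⟩ fun x => ?_
  have := Equiv.congr_fun ((congrArg Subtype.val h).trans αm_val) x
  exact this

theorem central_five : ∀ k : Fin 8, act (e8 k) 5 = 5 ∧ act (e8 k) 16 = 16 ∧ act (e8 k) 21 = 21 := by decide +kernel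

theorem act_alpha : ∀ k : Fin 24, act k 21 = 21 := by decide +kernel

/-- the seven undecided orbits -/
def repTab (i : Fin 7) : Fin 64 := [2, 6, 10, 22, 26, 42, 43].getD i.val 0

/-- the sets allowed by a choice of orbits -/
def maskO (m : ℕ) (v : Fin 64) : Bool :=
  decide (v = 21) || (List.finRange 7).any fun i => m.testBit i.val && (List.finRange 24).any fun k => decide (act k (repTab i) = v)


theorem orb_cover : ∀ v : Fin 64, v = 0 ∨ v = 21 ∨ (∃ i : Fin 7, ∃ k : Fin 24, act k (repTab i) = v) ∨
    (∃ k : Fin 24, act k 5 = v ∨ act k 16 = v) := by decide +kernel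

/-- the number of pairs of members with a given sum -/
def c1 (o : Fin 64 → Bool) (v : Fin 64) : ℕ :=
  ((List.finRange 64).filter fun w => o w && o (axor v w)).length
/-- the number of triples of members with a given sum -/
def c3 (o : Fin 64 → Bool) (v : Fin 64) : ℕ :=
  (((List.finRange 64).filter o).map fun u => c1 o (axor v u)).sum

/-- the membership number of a choice -/
def setOf (m : ℕ) : ℕ := ((List.finRange 64).map fun v => if maskO m v then 2 ^ v.val else 0).sum

theorem setOf_spec : ∀ m : Fin 128, ∀ v : Fin 64, (setOf m.val).testBit v.val = maskO m.val v := by decide +kernel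

/-- the seven points of the symplectic case -/
def oSp (v : Fin 64) : Bool := Nat.testBit 281479273779468 v.val
/-- the twenty-seven points of the alternating case -/
def oAlt (v : Fin 64) : Bool := Nat.testBit 17213020425657778176 v.val
/-- the outer twist on coordinates -/
def twA (v : Fin 64) : Fin 64 :=
  if (v.val >>> 1 + v.val >>> 3 + v.val >>> 5) % 2 = 1 then axor v 21 else v

theorem oSp_iff : ∀ v : Fin 64, oSp v = maskO 1 v ∧ oSp (twA v) = maskO 8 v := by decide +kernel
theorem oAlt_iff : ∀ v : Fin 64, oAlt v = maskO 120 v ∧ oAlt (twA v) = maskO 113 v := by decide +kernel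

/-- the balance test, on a number -/
def balanced (s : ℕ) : Bool :=
  let o : Fin 64 → Bool := fun v => s.testBit v.val
  let l := (List.finRange 64).filter o
  let n := c1 o 21
  (l.all fun v => decide (c1 o v = n)) && (let q := c3 o 21; l.all fun v => decide (c3 o v = q))

theorem balanced_cases : ∀ m : Fin 128, balanced (setOf m.val) = true →
    m.val = 0 ∨ m.val = 1 ∨ m.val = 8 ∨ m.val = 113 ∨ m.val = 120 := by decide +kernel

end Cfsg.Lib.AltTwelveType
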