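import Mathlib

/-!
The centraliser of a fixed point free involution in the alternating group of degree twelve, with its
elementary subgroup of order 64 in coordinates: three Klein groups on three blocks of four points,
and the complement of order 24 fixing the involution.
-/

set_option autoImplicit false
set_option maxRecDepth 100000
set_option maxHeartbeats 1000000

namespace Cfsg.Lib.AltTwelveType

open Equiv

/-- the involution, written as in the statement -/
def αp : Equiv.Perm (Fin 12) :=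
  Equiv.swap (0 : Fin 12) 1 * Equiv.swap (2 : Fin 12) 3 * Equiv.swap (4 : Fin 12) 5 * Equiv.swap (6 : Fin 12) 7 *
    Equiv.swap (8 : Fin 12) 9 * Equiv.swap (10 : Fin 12) 11

/-- its centraliser in the alternating group -/
abbrev Mh : Type := ↥(alternatingGroup (Fin 12) ⊓ Subgroup.centralizer ({αp} : Set (Equiv.Perm (Fin 12))))

/-- the point map of an element of the elementary subgroup -/
def aFun (a : Fin 64) (x : Fin 12) : Fin 12 :=
  ⟨(4 * (x.val / 4) + ((x.val % 4) ^^^ (a.val >>> (2 * (x.val / 4))) % 4)) % 12, Nat.mod_lt _ (by norm_num)⟩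

/-- the six orders of the three blocks -/
def piTab : List (List ℕ) := [[0, 1, 2], [1, 0, 2], [0, 2, 1], [2, 1, 0], [1, 2, 0], [2, 0, 1]]
/-- the four even flip vectors -/
def flTab : List (List Bool) :=
  [[false, false, false], [true, true, false], [true, false, true], [false, true, true]]

/-- the image of a block -/
def piK (k : Fin 24) (b : ℕ) : ℕ := (piTab.getD (k.val / 4) []).getD b 0
/-- whether a block is flipped -/
def flK (k : Fin 24) (b : ℕ) : Bool := (flTab.getD (k.val % 4) []).getD b false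

/-- the point map of an element of the complement -/
def kFun (k : Fin 24) (x : Fin 12) : Fin 12 :=
  ⟨(4 * piK k (x.val / 4) + if flK k (piK k (x.val / 4)) && decide (2 ≤ x.val % 4) then 5 - x.val % 4 else x.val % 4) % 12,
    Nat.mod_lt _ (by norm_num)⟩

/-- product of the complement -/
def kmul (k l : Fin 24) : Fin 24 :=
  ⟨((0x9423310023310a7731af5212bb52b79c61218402394867b58e5a50abd69684a7100861218e5639ed42969a5af58ce5008c4029cc46bdcc4ad48aded408803ada974a90b298876b98f8ca1300c22a5eb642d2a21ca663dae84e3218041bd2d55a149390c57b1cd9c25110460b56f452568314e4735ec946705250b3148710403b5697946137358f5a12a390a618022bd2b69c2327b1ae42d4921cc500c41a5ed584e5163dcd4a968298e408860adaf48ca706b9ec218a7639af84a3300823a5ab74292b29c866bd8e8ce1208c02ade964ad0a310e5731ed9427110061b52f552169394c47b5cc9c65018440bd6d45a5486b1cf4a14bad2d78c25308043290c7635ee4256aa56f68467200462214e67b98d5a909bda959ca11188013988573dac52d28b5eb494e3010c2031ca4a56d784653635cf4254b214c700443ad2f68c2726b1ee4a16a290e608062b5e9594e1173d8d52d0931c8510c01bdab49ca307b9ac5a928398a418820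 : ℕ) >>> (5 * (24 * k.val + l.val))) % 32 % 24, Nat.mod_lt _ (by norm_num)⟩
/-- inverse of the complement -/
def kinv (k : Fin 24) : Fin 24 :=
  ⟨((0x94670aded46b9ec5a54831ca418820 : ℕ) >>> (5 * k.val)) % 32 % 24, Nat.mod_lt _ (by norm_num)⟩

/-- flip of one pair of coordinates -/
def flipC (b : Bool) (c : ℕ) : ℕ := if b then c ^^^ (c / 2) else c

/-- the action of the complement on the elementary subgroup -/
def act (k : Fin 24) (a : Fin 64) : Fin 64 :=
  ⟨(([0, 1, 2].map fun b => flipC (flK k (piK k b)) ((a.val >>> (2 * b)) % 4) <<< (2 * piK k b)).sum) % 64,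
    Nat.mod_lt _ (by norm_num)⟩

/-- addition of coordinates -/
def axor (a b : Fin 64) : Fin 64 := ⟨(a.val ^^^ b.val) % 64, Nat.mod_lt _ (by norm_num)⟩

theorem aFun_invol : ∀ a : Fin 64, ∀ x : Fin 12, aFun a (aFun a x) = x := by decide +kernel
theorem aFun_add : ∀ a b : Fin 64, ∀ x : Fin 12, aFun (axor a b) x = aFun a (aFun b x) := by decide +kernel
theorem kFun_inv : ∀ k : Fin 24, ∀ x : Fin 12, kFun k (kFun (kinv k) x) = x ∧ kFun (kinv k) (kFun k x) = x := by
  decide +kernel
theorem kFun_mul : ∀ k l : Fin 24, ∀ x : Fin 12, kFun (kmul k l) x = kFun k (kFun l x) := by decide +kernel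
theorem kFun_act : ∀ k : Fin 24, ∀ a : Fin 64, ∀ x : Fin 12, kFun k (aFun a x) = aFun (act k a) (kFun k x) := by
  decide +kernel

/-- an element of the elementary subgroup, as a permutation -/
def aPerm (a : Fin 64) : Equiv.Perm (Fin 12) := ⟨aFun a, aFun a, aFun_invol a, aFun_invol a⟩
/-- an element of the complement, as a permutation -/
def kPerm (k : Fin 24) : Equiv.Perm (Fin 12) :=
  ⟨kFun k, kFun (kinv k), fun x => (kFun_inv k x).2, fun x => (kFun_inv k x).1⟩

theorem aPerm_21 : aPerm 21 = αp := by decide +kernel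
theorem aPerm_sign : ∀ a : Fin 64, Equiv.Perm.sign (aPerm a) = 1 := by decide +kernel
theorem kPerm_sign : ∀ k : Fin 24, Equiv.Perm.sign (kPerm k) = 1 := by decide +kernel
theorem aPerm_comm : ∀ a : Fin 64, ∀ x : Fin 12, aFun a (αp x) = αp (aFun a x) := by decide +kernel
theorem kPerm_comm : ∀ k : Fin 24, ∀ x : Fin 12, kFun k (αp x) = αp (kFun k x) := by decide +kernel

theorem mem_of {p : Equiv.Perm (Fin 12)} (h1 : Equiv.Perm.sign p = 1) (h2 : ∀ x, p (αp x) = αp (p x)) :
    p ∈ alternatingGroup (Fin 12) ⊓ Subgroup.centralizer ({αp} : Set (Equiv.Perm (Fin 12))) :=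
  ⟨Equiv.Perm.mem_alternatingGroup.2 h1, Subgroup.mem_centralizer_singleton_iff.2 (Equiv.ext h2)⟩

/-- an element of the elementary subgroup -/
def pa (a : Fin 64) : Mh := ⟨aPerm a, mem_of (aPerm_sign a) (aPerm_comm a)⟩
/-- an element of the complement -/
def pk (k : Fin 24) : Mh := ⟨kPerm k, mem_of (kPerm_sign k) (kPerm_comm k)⟩
/-- the involution in the model -/
def αm : Mh := pa 21

theorem pa_mul (a b : Fin 64) : pa a * pa b = pa (axor a b) :=
  Subtype.ext (Equiv.ext fun x => (aFun_add a b x).symm)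
theorem pk_mul (k l : Fin 24) : pk k * pk l = pk (kmul k l) :=
  Subtype.ext (Equiv.ext fun x => (kFun_mul k l x).symm)
theorem pk_pa (k : Fin 24) (a : Fin 64) : pk k * pa a = pa (act k a) * pk k :=
  Subtype.ext (Equiv.ext fun x => kFun_act k a x)

theorem aFun_zero : ∀ x : Fin 12, aFun 0 x = x := by decide +kernel
theorem kFun_zero : ∀ x : Fin 12, kFun 0 x = x := by decide +kernel
theorem pa_zero : pa 0 = 1 := Subtype.ext (Equiv.ext aFun_zero)
theorem pk_zero : pk 0 = 1 := Subtype.ext (Equiv.ext kFun_zero)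

theorem pa_sq (a : Fin 64) : pa a * pa a = 1 := Subtype.ext (Equiv.ext fun x => aFun_invol a x)
theorem pa_inv (a : Fin 64) : (pa a)⁻¹ = pa a := inv_eq_of_mul_eq_one_right (pa_sq a)

theorem pa_pk_eq : ∀ a : Fin 64, ∀ k : Fin 24, (∀ x, aFun a (kFun k x) = x) → a = 0 ∧ k = 0 := by decide +kernel

theorem pk_inv (k : Fin 24) : (pk k)⁻¹ = pk (kinv k) :=
  inv_eq_of_mul_eq_one_right (Subtype.ext (Equiv.ext fun x => (kFun_inv k x).1))

theorem pa_inj {a b : Fin 64} (h : pa a = pa b) : a = b := by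
  have h' : pa (axor a b) = 1 := by rw [← pa_mul, h, pa_sq]
  have := (pa_pk_eq (axor a b) 0 fun x => by
    rw [kFun_zero]; exact Equiv.congr_fun (congrArg Subtype.val h') x).1
  have hx : ∀ a b : Fin 64, axor a b = 0 → a = b := by decide +kernel
  exact hx a b this

theorem αm_val : (αm : Equiv.Perm (Fin 12)) = αp := aPerm_21

theorem αm_central (m : Mh) : αm * m = m * αm :=
  Subtype.ext (by
    show (αm : Equiv.Perm (Fin 12)) * m.1 = m.1 * (αm : Equiv.Perm (Fin 12))
    rw [αm_val]; exact (Subgroup.mem_centralizer_singleton_iff.1 m.2.2).symm)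

theorem αm_ne : αm ≠ 1 := fun h => absurd (pa_inj (h.trans pa_zero.symm)) (by decide)

/-- the Sylow subgroup -/
def Sm : Subgroup Mh where
  carrier := {m | ∃ a : Fin 64, ∃ k : Fin 24, k.val < 8 ∧ m = pa a * pk k}
  one_mem' := ⟨0, 0, by decide, by rw [pa_zero, pk_zero, one_mul]⟩
  mul_mem' := by
    rintro _ _ ⟨a, k, hk, rfl⟩ ⟨b, l, hl, rfl⟩
    have h8 : ∀ k l : Fin 24, k.val < 8 → l.val < 8 → (kmul k l).val < 8 := by decide +kernel
    refine ⟨axor a (act k b), kmul k l, h8 k l hk hl, ?_⟩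
    rw [← pa_mul, ← pk_mul]
    calc pa a * pk k * (pa b * pk l) = pa a * (pk k * pa b) * pk l := by group
      _ = _ := by rw [pk_pa]; group
  inv_mem' := by
    rintro _ ⟨a, k, hk, rfl⟩
    have h8 : ∀ k : Fin 24, k.val < 8 → (kinv k).val < 8 := by decide +kernel
    refine ⟨act (kinv k) a, kinv k, h8 k hk, ?_⟩
    rw [mul_inv_rev, pa_inv, pk_inv, pk_pa]

theorem pa_mem_Sm (a : Fin 64) : pa a ∈ Sm := ⟨a, 0, by decide, by rw [pk_zero, mul_one]⟩
theorem pk_mem_Sm {k : Fin 24} (h : k.val < 8) : pk k ∈ Sm := ⟨0, k, h, by rw [pa_zero, one_mul]⟩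

theorem pair_inj {a b : Fin 64} {k l : Fin 24} (h : pa a * pk k = pa b * pk l) : a = b ∧ k = l := by
  have hk : ∀ k l : Fin 24, kmul k (kinv l) = 0 → k = l := by decide +kernel
  have hx : ∀ a b : Fin 64, axor b a = 0 → a = b := by decide +kernel
  have h2 : pa (axor b a) * pk (kmul k (kinv l)) = 1 := by
    rw [← pa_mul, ← pk_mul, ← pk_inv, show pa b * pa a * (pk k * (pk l)⁻¹) = pa b * (pa a * pk k) * (pk l)⁻¹ by group, h]
    rw [show pa b * (pa b * pk l) * (pk l)⁻¹ = pa b * pa b by group, pa_sq]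
  obtain ⟨e1, e2⟩ := pa_pk_eq _ _ fun x => Equiv.congr_fun (congrArg Subtype.val h2) x
  exact ⟨hx a b e1, hk k l e2⟩

theorem card_Sm : Nat.card Sm = 512 := by
  let f : Fin 64 × Fin 8 → Sm := fun p => ⟨pa p.1 * pk ⟨p.2.val, by omega⟩, p.1, _, p.2.2, rfl⟩
  have hf : Function.Bijective f := by
    constructor
    · rintro ⟨a, k⟩ ⟨b, l⟩ e
      obtain ⟨e1, e2⟩ := pair_inj (congrArg Subtype.val e)
      exact Prod.ext e1 (Fin.ext (Fin.mk.inj e2))
    · rintro ⟨_, a, k, hk, rfl⟩
      exact ⟨(a, ⟨k.val, hk⟩), rfl⟩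
  rw [← Nat.card_congr (Equiv.ofBijective f hf), Nat.card_prod, Nat.card_fin, Nat.card_fin]

theorem alt_cent_index :
    2 * Nat.card Mh = Nat.card ↥(Subgroup.centralizer ({αp} : Set (Equiv.Perm (Fin 12)))) := by
  set C := Subgroup.centralizer ({αp} : Set (Equiv.Perm (Fin 12)))
  let s : ↥C →* ℤˣ := Equiv.Perm.sign.comp C.subtype
  have hs : Function.Surjective s := by
    have hodd : Equiv.swap (0 : Fin 12) 1 ∈ C := Subgroup.mem_centralizer_singleton_iff.2 (by decide +kernel)
    intro u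
    rcases Int.units_eq_one_or u with rfl | rfl
    · exact ⟨1, map_one s⟩
    · exact ⟨⟨_, hodd⟩, Equiv.Perm.sign_swap (x := (0 : Fin 12)) (y := 1) (by decide)⟩
  have hk : Nat.card s.ker = Nat.card Mh := Nat.card_congr
    { toFun := fun x => ⟨x.1.1, Equiv.Perm.mem_alternatingGroup.2 x.2, x.1.2⟩
      invFun := fun x => ⟨⟨x.1, x.2.2⟩, Equiv.Perm.mem_alternatingGroup.1 x.2.1⟩
      left_inv := fun _ => rfl
      right_inv := fun _ => rfl }
  have := s.ker.card_mul_index
  rw [Subgroup.index_ker, MonoidHom.range_eq_top.2 hs, hk, Subgroup.card_top, Nat.card_eq_fintype_card (α := ℤˣ),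
    Fintype.card_units_int] at this
  omega

theorem card_Mh : Nat.card Mh = 23040 := by
  have h := alt_cent_index
  rw [Equiv.Perm.nat_card_centralizer] at h
  have hc : αp.cycleType = Multiset.replicate 6 2 := by decide +kernel
  rw [hc] at h
  simp at h
  norm_num [Nat.factorial] at h
  omega

end Cfsg.Lib.AltTwelveType
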