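import Cfsg.Agent.AltTwelveType.SpLocal
import Cfsg.Agent.LocalThree.SpCentre.SixCox

/-!
The symplectic case: seven involutions with the relations of type `E₇`, and the symplectic subgroup.
-/

set_option autoImplicit false
set_option linter.unusedSectionVars false
set_option linter.style.haveILetI false
set_option maxRecDepth 10000
set_option maxHeartbeats 1000000

namespace Cfsg.Lib.AltTwelveType

open Subgroup Cfsg.Lib.SpCentre

/-- the line through the second point and the fourth -/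
def lineA' : List (Fin 64) := [2, 8, 32]

universe u

variable {G : Type u} [Group G] [Finite G]

/-- three commuting transvections off the seven points, one for each line of a triangle -/
structure Frame3 (S : Setting G) where
  /-- centralising the third line -/
  u3 : G
  /-- centralising the second line -/
  u2 : G
  /-- centralising the first line -/
  u1 : G
  h3 : S.Tv lineC u3
  h2 : S.Tv lineB u2
  h1 : S.Tv lineA u1
  c32 : u3 * u2 = u2 * u3
  c31 : u3 * u1 = u1 * u3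
  c21 : u2 * u1 = u1 * u2

namespace Setting

variable {S : Setting G}

theorem mem_map_iff {θ : Fin 64 → Fin 64} {l l' : List (Fin 64)} (e : l.map θ = l') {x : G} {n : G}
    (hn : ∀ v, n * S.el v * n⁻¹ = S.el (θ v)) (hs : Function.Surjective θ) (h : S.Tv l x) :
    S.Tv l' (n * x * n⁻¹) := e ▸ Tv.map hn hs h

theorem exists_frame3 (hS : ∀ v, S.o v = oSp v) (hw : S.Ind wA) : Nonempty (Frame3 S) := by
  obtain ⟨n, hn⟩ := hw.comp S (S.ind_act 4)
  have hn' : ∀ v, n * S.el v * n⁻¹ = S.el (sigma v) := hn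
  obtain ⟨sB, sC, sBB, sCC, s42, s3⟩ := sigma_facts
  have hsur : Function.Surjective sigma := fun v => ⟨sigma (sigma v), s3 v⟩
  have hinv : ∀ v, n⁻¹ * S.el v * n⁻¹⁻¹ = S.el (sigma (sigma v)) := fun v => by
    have := hn' (sigma (sigma v))
    rw [s3] at this
    rw [← this]; group
  have hsur2 : Function.Surjective fun v => sigma (sigma v) := fun v => ⟨sigma v, s3 v⟩
  -- the third line, then the first, then the second
  obtain ⟨u3, h3⟩ := first_exists hS
  have hv : S.Tv lineB (n⁻¹ * u3 * n⁻¹⁻¹) := by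
    refine (Tv.map hinv hsur2 h3).congr ?_
    decide +kernel
  obtain ⟨w, hw, hwc⟩ := loc_pair_prev hS hv
  have h1 : S.Tv lineA (n * w * n⁻¹) := by
    refine (Tv.map hn' hsur hw).congr ?_
    decide +kernel
  set u1 := n * w * n⁻¹ with hu1
  have c31 : u3 * u1 = u1 * u3 := by
    rw [hu1]
    calc u3 * (n * w * n⁻¹) = n * ((n⁻¹ * u3 * n⁻¹⁻¹) * w) * n⁻¹ := by group
      _ = n * (w * (n⁻¹ * u3 * n⁻¹⁻¹)) * n⁻¹ := by rw [hwc]
      _ = _ := by group
  obtain ⟨u2, h2, c32⟩ := loc_pair_next hS h3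
  by_cases c21 : u2 * u1 = u1 * u2
  · exact ⟨⟨u3, u2, u1, h3, h2, h1, c32, c31, c21⟩⟩
  -- adjust the first by an element of the elementary subgroup
  have hx : S.Tv lineC (n * u2 * n⁻¹) := by
    refine (Tv.map hn' hsur h2).congr ?_
    decide +kernel
  have hy : S.Tv lineB (n * u1 * n⁻¹) := by
    refine (Tv.map hn' hsur h1).congr ?_
    decide +kernel
  have hne : n * u2 * n⁻¹ * (n * u1 * n⁻¹) ≠ n * u1 * n⁻¹ * (n * u2 * n⁻¹) := fun e => c21 (by
    have := congrArg (fun t => n⁻¹ * t * n) e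
    simpa [mul_assoc] using this)
  have hadj := loc_adjust hS hx hy hne
  have ea : n * S.el 20 * n⁻¹ = S.el 42 := by
    rw [hn', ← s42, s3]
  have e : ∀ t, n * (S.el 20 * t * (S.el 20)⁻¹) * n⁻¹ = S.el 42 * (n * t * n⁻¹) * (S.el 42)⁻¹ := fun t => by
    rw [← ea]; group
  refine ⟨⟨u3, u2, S.el 20 * u1 * (S.el 20)⁻¹, h3, h2, h1.conj_el 20, c32, ?_, ?_⟩⟩
  · have h20 : u3 * S.el 20 = S.el 20 * u3 := by
      have e20 : S.el 20 = S.el 21 * S.el 2 * S.el 3 := by rw [S.el_mul, S.el_mul]; congr 1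
      have c : ∀ d ∈ lineC, Commute u3 (S.el d) := fun d hd => h3.2.2 d hd
      rw [e20]
      exact (((c 21 (by simp [lineC])).mul_right (c 2 (by simp [lineC]))).mul_right (c 3 (by simp [lineC]))).eq
    exact ((show Commute u3 (S.el 20) from h20).mul_right (show Commute u3 u1 from c31) |>.mul_right
      (show Commute u3 (S.el 20) from h20).inv_right).eq
  · have h' : n * u2 * n⁻¹ * (n * (S.el 20 * u1 * (S.el 20)⁻¹) * n⁻¹) =
        n * (S.el 20 * u1 * (S.el 20)⁻¹) * n⁻¹ * (n * u2 * n⁻¹) := by rw [e]; exact hadj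
    exact mul_left_cancel (a := n) (mul_right_cancel (b := n⁻¹) (by
      calc n * (u2 * (S.el 20 * u1 * (S.el 20)⁻¹)) * n⁻¹ = n * u2 * n⁻¹ * (n * (S.el 20 * u1 * (S.el 20)⁻¹) * n⁻¹) := by
            group
        _ = n * (S.el 20 * u1 * (S.el 20)⁻¹) * n⁻¹ * (n * u2 * n⁻¹) := h'
        _ = n * (S.el 20 * u1 * (S.el 20)⁻¹ * u2) * n⁻¹ := by group))

end Setting

namespace Frame3

variable {S : Setting G} (F : Frame3 S)

/-- the seven generators -/
def vv : Fin 7 → G := ![F.u3, S.el 21, S.el 12, F.u1, S.el 3, F.u2, S.el 2]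

theorem vv_sq (i : Fin 7) : F.vv i * F.vv i = 1 := by
  fin_cases i
  exacts [F.h3.sq, S.el_sq _, S.el_sq _, F.h1.sq, S.el_sq _, F.h2.sq, S.el_sq _]

variable (hS : ∀ v, S.o v = oSp v) (hw : S.Ind wA)

include hS hw

theorem cubes : (F.u3 * S.el 12) ^ 3 = 1 ∧ (S.el 21 * F.u1) ^ 3 = 1 ∧ (S.el 12 * F.u1) ^ 3 = 1 ∧
    (F.u1 * S.el 3) ^ 3 = 1 ∧ (S.el 3 * F.u2) ^ 3 = 1 ∧ (F.u2 * S.el 2) ^ 3 = 1 := by
  obtain ⟨n, hn⟩ := hw.comp S (S.ind_act 4)
  have hn' : ∀ v, n * S.el v * n⁻¹ = S.el (sigma v) := hn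
  obtain ⟨-, -, -, -, -, s3⟩ := sigma_facts
  have hsur : Function.Surjective sigma := fun v => ⟨sigma (sigma v), s3 v⟩
  have hinv : ∀ v, n⁻¹ * S.el v * n⁻¹⁻¹ = S.el (sigma (sigma v)) := fun v => by
    have := hn' (sigma (sigma v))
    rw [s3] at this
    rw [← this]; group
  have hsur2 : Function.Surjective fun v => sigma (sigma v) := fun v => ⟨sigma v, s3 v⟩
  have hsym : ∀ {a b : G}, a * a = 1 → b * b = 1 → (a * b) ^ 3 = 1 → (b * a) ^ 3 = 1 := by
    intro a b ha hb h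
    rw [show b * a = (a * b)⁻¹ by rw [mul_inv_rev, inv_eq_of_mul_eq_one_right ha, inv_eq_of_mul_eq_one_right hb],
      inv_pow, h, inv_one]
  have k1 : ∀ d : Fin 64, sigma (sigma d) ∈ [(8 : Fin 64), 12, 32, 48] → (F.u1 * S.el d) ^ 3 = 1 := fun d hd => by
    have ht : S.Tv lineC (n⁻¹ * F.u1 * n⁻¹⁻¹) := by
      refine (Setting.Tv.map hinv hsur2 F.h1).congr ?_
      decide +kernel
    have h := Setting.loc_cube hS ht hd
    rw [← hinv, show n⁻¹ * F.u1 * n⁻¹⁻¹ * (n⁻¹ * S.el d * n⁻¹⁻¹) = n⁻¹ * (F.u1 * S.el d) * n⁻¹⁻¹ by group, conj_pow] at h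
    exact conj_eq_one_iff.1 h
  have k2 : ∀ d : Fin 64, sigma d ∈ [(8 : Fin 64), 12, 32, 48] → (F.u2 * S.el d) ^ 3 = 1 := fun d hd => by
    have ht : S.Tv lineC (n * F.u2 * n⁻¹) := by
      refine (Setting.Tv.map hn' hsur F.h2).congr ?_
      decide +kernel
    have h := Setting.loc_cube hS ht hd
    rw [← hn', show n * F.u2 * n⁻¹ * (n * S.el d * n⁻¹) = n * (F.u2 * S.el d) * n⁻¹ by group, conj_pow] at h
    exact conj_eq_one_iff.1 h
  exact ⟨Setting.loc_cube hS F.h3 (by decide), hsym F.h1.sq (S.el_sq _) (k1 21 (by decide +kernel)),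
    hsym F.h1.sq (S.el_sq _) (k1 12 (by decide +kernel)), k1 3 (by decide +kernel),
    hsym F.h2.sq (S.el_sq _) (k2 3 (by decide +kernel)), k2 2 (by decide +kernel)⟩

theorem vv_rel : ∀ i j, (F.vv i * F.vv j) ^ CoxeterMatrix.E₇ i j = 1 := by
  have hsym : ∀ {a b : G}, a * a = 1 → b * b = 1 → ∀ {n : ℕ}, (a * b) ^ n = 1 → (b * a) ^ n = 1 := by
    intro a b ha hb n h
    rw [show b * a = (a * b)⁻¹ by rw [mul_inv_rev, inv_eq_of_mul_eq_one_right ha, inv_eq_of_mul_eq_one_right hb],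
      inv_pow, h, inv_one]
  have c2 : ∀ {a b : G}, a * a = 1 → b * b = 1 → a * b = b * a → (a * b) ^ 2 = 1 := fun {a b} ha hb h => by
    rw [(show Commute a b from h).mul_pow, pow_two, pow_two, ha, hb, one_mul]
  obtain ⟨k02, k13, k23, k34, k45, k56⟩ := F.cubes hS hw
  have sq := F.vv_sq
  have a3 : ∀ d ∈ lineC, F.u3 * S.el d = S.el d * F.u3 := F.h3.2.2
  have a2 : ∀ d ∈ lineB, F.u2 * S.el d = S.el d * F.u2 := F.h2.2.2
  have a1 : ∀ d ∈ lineA, F.u1 * S.el d = S.el d * F.u1 := F.h1.2.2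
  have key : ∀ i j : Fin 7, i < j → (F.vv i * F.vv j) ^ CoxeterMatrix.E₇ i j = 1 := by
    intro i j hij
    fin_cases i <;> fin_cases j <;> (try exact absurd hij (by decide))
    · exact c2 (sq 0) (sq 1) (a3 21 (by decide))
    · exact k02
    · exact c2 (sq 0) (sq 3) F.c31
    · exact c2 (sq 0) (sq 4) (a3 3 (by decide))
    · exact c2 (sq 0) (sq 5) F.c32
    · exact c2 (sq 0) (sq 6) (a3 2 (by decide))
    · exact c2 (sq 1) (sq 2) (S.el_comm _ _)
    · exact k13
    · exact c2 (sq 1) (sq 4) (S.el_comm _ _)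
    · exact c2 (sq 1) (sq 5) (a2 21 (by decide)).symm
    · exact c2 (sq 1) (sq 6) (S.el_comm _ _)
    · exact k23
    · exact c2 (sq 2) (sq 4) (S.el_comm _ _)
    · exact c2 (sq 2) (sq 5) (a2 12 (by decide)).symm
    · exact c2 (sq 2) (sq 6) (S.el_comm _ _)
    · exact k34
    · exact c2 (sq 3) (sq 5) F.c21.symm
    · exact c2 (sq 3) (sq 6) (a1 2 (by decide))
    · exact k45
    · exact c2 (sq 4) (sq 6) (S.el_comm _ _)
    · exact k56
  intro i j
  rcases lt_trichotomy i j with h | rfl | h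
  · exact key i j h
  · rw [CoxeterMatrix.diagonal, pow_one]; exact sq i
  · rw [CoxeterMatrix.symmetric]; exact hsym (sq j) (sq i) (key j i h)

/-- An element commuting with the seven generators is trivial. -/
theorem cent_vv {y : G} (h : ∀ i, y * F.vv i = F.vv i * y) (hA : ∀ v, y * S.el v = S.el v * y) : y = 1 := by
  obtain ⟨v, rfl⟩ := S.cent_AG hA
  obtain ⟨n, hn⟩ := hw.comp S (S.ind_act 4)
  have hn' : ∀ v, n * S.el v * n⁻¹ = S.el (sigma v) := hn
  obtain ⟨-, -, -, -, -, s3⟩ := sigma_facts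
  have hsur : Function.Surjective sigma := fun v => ⟨sigma (sigma v), s3 v⟩
  have hinv : ∀ v, n⁻¹ * S.el v * n⁻¹⁻¹ = S.el (sigma (sigma v)) := fun v => by
    have := hn' (sigma (sigma v))
    rw [s3] at this
    rw [← this]; group
  have hsur2 : Function.Surjective fun v => sigma (sigma v) := fun v => ⟨sigma v, s3 v⟩
  have p3 : inSpan v = true := Setting.loc_comm_span hS F.h3 (h 0).symm
  have p2 : inSpan (sigma v) = true := by
    refine Setting.loc_comm_span hS (x := n * F.u2 * n⁻¹) ((Setting.Tv.map hn' hsur F.h2).congr ?_) ?_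
    · decide +kernel
    · rw [← hn', show n * F.u2 * n⁻¹ * (n * S.el v * n⁻¹) = n * (F.u2 * S.el v) * n⁻¹ by group,
        show F.u2 * S.el v = S.el v * F.u2 from (h 5).symm]
      group
  have p1 : inSpan (sigma (sigma v)) = true := by
    refine Setting.loc_comm_span hS (x := n⁻¹ * F.u1 * n⁻¹⁻¹) ((Setting.Tv.map hinv hsur2 F.h1).congr ?_) ?_
    · decide +kernel
    · rw [← hinv, show n⁻¹ * F.u1 * n⁻¹⁻¹ * (n⁻¹ * S.el v * n⁻¹⁻¹) = n⁻¹ * (F.u1 * S.el v) * n⁻¹⁻¹ by group,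
        show F.u1 * S.el v = S.el v * F.u1 from (h 3).symm]
      group
  rw [span_meet v p3 p2 p1, S.el_zero]

end Frame3

end Cfsg.Lib.AltTwelveType
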