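import Cfsg.Agent.AltTwelveType.SpLocal

/-!
The elements of the centraliser commuting with five of the generators.
-/

set_option autoImplicit false
set_option linter.unusedSectionVars false
set_option linter.style.haveILetI false
set_option maxRecDepth 100000
set_option maxHeartbeats 1000000

namespace Cfsg.Lib.AltTwelveType

open Subgroup

/-- the flips of a set of pairs -/
def flE (e : Fin 64) : Equiv.Perm (Fin 12) :=
  ((List.finRange 6).map fun i => if e.val.testBit i.val then Equiv.swap (ptOf i) (αp (ptOf i)) else 1).prod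

theorem flE_apply : ∀ e : Fin 64, ∀ x : Fin 12,
    flE e x = if e.val.testBit (pairOf x).val then αp x else x := by decide +kernel

theorem flE_sign : ∀ e : Fin 64, (Equiv.Perm.sign (flE e) = 1 ↔
    ((List.finRange 6).filter fun i => e.val.testBit i.val).length % 2 = 0) := by decide +kernel

theorem bits_code : ∀ P : Fin 6 → Bool, ∃ e : Fin 64, ∀ i : Fin 6, e.val.testBit i.val = P i := by decide +kernel

/-- membership of a pair in an edge -/
def inEdge (i : Fin 6) (p q : Fin 12) : Bool := decide (i = pairOf p) || decide (i = pairOf q)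

/-- the separation of the pairs by four edges -/
def atomsTest (x y z w : Fin 12) : Bool :=
  (List.finRange 6).all fun i => (List.finRange 6).all fun j => !(inEdge i 0 2 == inEdge j 0 2) ||
    !(inEdge i 4 6 == inEdge j 4 6) || !(inEdge i x y == inEdge j x y) || !(inEdge i z w == inEdge j z w) ||
      decide (i = j)

/-- the flips constant on four edges -/
def flipsTest (x y z w : Fin 12) : Bool :=
  (List.finRange 64).all fun e => !(e.val.testBit 0 == e.val.testBit 1) || !(e.val.testBit 2 == e.val.testBit 3) ||
    !(e.val.testBit (pairOf x).val == e.val.testBit (pairOf y).val) ||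
    !(e.val.testBit (pairOf z).val == e.val.testBit (pairOf w).val) ||
    !(((List.finRange 6).filter fun i => e.val.testBit i.val).length % 2 == 0) ||
    decide (e = 0) || decide (e = 63)

theorem atoms_test : ∀ x y : Fin 12, okT lineC x y = true → ∀ z w : Fin 12, okT lineB z w = true →
    (∀ t, trFun x y (trFun z w t) = trFun z w (trFun x y t)) →
    atomsTest x y z w = true ∧ flipsTest x y z w = true := by
  decide +kernel

theorem atoms (x y : Fin 12) (h1 : okT lineC x y = true) (z w : Fin 12) (h2 : okT lineB z w = true)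
    (hc : ∀ t, trFun x y (trFun z w t) = trFun z w (trFun x y t)) :
    (∀ i j : Fin 6, inEdge i 0 2 = inEdge j 0 2 → inEdge i 4 6 = inEdge j 4 6 → inEdge i x y = inEdge j x y →
      inEdge i z w = inEdge j z w → i = j) ∧
    ∀ e : Fin 64, e.val.testBit 0 = e.val.testBit 1 → e.val.testBit 2 = e.val.testBit 3 →
      e.val.testBit (pairOf x).val = e.val.testBit (pairOf y).val →
      e.val.testBit (pairOf z).val = e.val.testBit (pairOf w).val →
      ((List.finRange 6).filter fun i => e.val.testBit i.val).length % 2 = 0 → e = 0 ∨ e = 63 := by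
  obtain ⟨ha, hf⟩ := atoms_test x y h1 z w h2 hc
  simp only [atomsTest, flipsTest, List.all_eq_true, List.mem_finRange, forall_const, Bool.or_eq_true,
    Bool.not_eq_true', beq_eq_false_iff_ne, decide_eq_true_eq, ne_eq] at ha hf
  constructor
  · intro i j p q r t
    rcases ha i j with (((h | h) | h) | h) | h
    exacts [absurd p h, absurd q h, absurd r h, absurd t h, h]
  · intro e p q r t u
    rcases hf e with (((((h | h) | h) | h) | h) | h) | h
    exacts [absurd p h, absurd q h, absurd r h, absurd t h, absurd u h, Or.inl h, Or.inr h]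

theorem edge_eq : ∀ p q p' q' : Fin 12, pairOf p ≠ pairOf q → pairOf p' ≠ pairOf q' →
    (∀ t, trFun p q t = trFun p' q' t) → ∀ i : Fin 6, inEdge i p q = inEdge i p' q' := by decide +kernel

theorem fl_ends : (∀ x : Fin 12, flE 0 x = x) ∧ (∀ x : Fin 12, flE 63 x = αp x) ∧
    (∀ x : Fin 12, αp x ≠ x) ∧ (∀ p q : Fin 12, pairOf p ≠ pairOf q → trFun p q p = q ∧ trFun p q (αp p) = αp q) := by
  decide +kernel

theorem pa_edges : (∀ z, aFun 2 z = trFun 0 2 z) ∧ (∀ z, aFun 12 z = trFun 4 7 z) := by decide +kernel

theorem edge_of_comm {m : Mh} {p q : Fin 12} (h : pairOf p ≠ pairOf q) (hc : m * tr p q = tr p q * m) (i : Fin 6) :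
    inEdge i p q = inEdge (pairHom m i) p q := by
  obtain ⟨h', e⟩ := tr_conj m h
  rw [hc, mul_assoc, mul_inv_cancel, mul_one] at e
  have hset := edge_eq p q _ _ h h' fun t => by rw [← tr_apply h, ← tr_apply h', ← e]
  rw [hset (pairHom m i)]
  unfold inEdge
  have hm : ∀ x, pairOf (m.1 x) = pairHom m (pairOf x) := fun x => (pair_map m x).symm
  rw [hm, hm]
  simp only [(pairHom m).injective.eq_iff]

/-- An element of the model commuting with two edges and the two transvections is central. -/
theorem small_cent {m : Mh} {x y z w : Fin 12} (h1 : okT lineC x y = true) (h2 : okT lineB z w = true)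
    (hcc : tr x y * tr z w = tr z w * tr x y) (ha : m * pa 2 = pa 2 * m) (hb : m * pa 12 = pa 12 * m)
    (hc : m * tr x y = tr x y * m) (hd : m * tr z w = tr z w * m) : m = 1 ∨ m = αm := by
  have n1 : pairOf x ≠ pairOf y := by simp [okT] at h1; exact h1.1.1
  have n2 : pairOf z ≠ pairOf w := by simp [okT] at h2; exact h2.1.1
  obtain ⟨hat, hbits⟩ := atoms x y h1 z w h2 fun t => by
    simpa only [tr_apply n1, tr_apply n2] using fun_of_comm hcc t
  have e2 : pa 2 = tr 0 2 := Subtype.ext (Equiv.ext fun t => (pa_edges.1 t).trans (tr_apply (by decide) t).symm)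
  have e12 : pa 12 = tr 4 7 := Subtype.ext (Equiv.ext fun t => (pa_edges.2 t).trans (tr_apply (by decide) t).symm)
  rw [e2] at ha
  rw [e12] at hb
  have hker : pairHom m = 1 := by
    refine Equiv.ext fun i => (hat i (pairHom m i) (edge_of_comm (by decide) ha i) ?_ (edge_of_comm n1 hc i)
      (edge_of_comm n2 hd i)).symm
    have := edge_of_comm (p := 4) (q := 7) (by decide) hb i
    have k : ∀ i : Fin 6, inEdge i 4 7 = inEdge i 4 6 := by decide +kernel
    rwa [k, k] at this
  obtain ⟨e, he⟩ := bits_code fun i => decide (m.1 (ptOf i) = αp (ptOf i))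
  have hc0 : ∀ t, m.1 (αp t) = αp (m.1 t) := fun t =>
    Equiv.congr_fun (Subgroup.mem_centralizer_singleton_iff.1 m.2.2) t
  have hval : ∀ t, m.1 t = flE e t := fun t => by
    rw [flE_apply, he]
    rcases ker_pair hker (ptOf (pairOf t)) with h | h <;> rcases pair_facts.1 t with ht | ht
    · rw [decide_eq_false (fun q => fl_ends.2.2.1 _ (q.symm.trans h)), if_neg (by simp)]; rw [← ht] at h; exact h
    · rw [decide_eq_false (fun q => fl_ends.2.2.1 _ (q.symm.trans h)), if_neg (by simp)]
      calc m.1 t = αp (m.1 (ptOf (pairOf t))) := by rw [← hc0, ← ht]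
        _ = t := by rw [h, ← ht]
    · rw [decide_eq_true h, if_pos rfl]; rw [← ht] at h; exact h
    · rw [decide_eq_true h, if_pos rfl]
      calc m.1 t = αp (m.1 (ptOf (pairOf t))) := by rw [← hc0, ← ht]
        _ = αp t := by rw [h, ← ht]
  have hedge : ∀ {p q : Fin 12}, pairOf p ≠ pairOf q → m * tr p q = tr p q * m →
      e.val.testBit (pairOf p).val = e.val.testBit (pairOf q).val := by
    intro p q hpq hcm
    have h := fun_of_comm hcm p
    rw [tr_apply hpq, tr_apply hpq, (fl_ends.2.2.2 p q hpq).1, hval, hval, flE_apply, flE_apply] at h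
    cases hp : e.val.testBit (pairOf p).val <;> cases hq : e.val.testBit (pairOf q).val <;>
      simp only [hp, hq, Bool.false_eq_true, if_false, if_true, (fl_ends.2.2.2 p q hpq).1,
        (fl_ends.2.2.2 p q hpq).2] at h ⊢
    · exact (fl_ends.2.2.1 q h).elim
    · exact (fl_ends.2.2.1 q h.symm).elim
  have heq : (m : Equiv.Perm (Fin 12)) = flE e := Equiv.ext hval
  rcases hbits e (hedge (p := 0) (q := 2) (by decide) ha) (hedge (p := 4) (q := 7) (by decide) hb)
    (hedge n1 hc) (hedge n2 hd) ((flE_sign e).1 (heq ▸ Equiv.Perm.mem_alternatingGroup.1 m.2.1)) with rfl | rfl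
  · exact Or.inl (Subtype.ext (Equiv.ext fun t => (hval t).trans (fl_ends.1 t)))
  · exact Or.inr (Subtype.ext (Equiv.ext fun t =>
      ((hval t).trans (fl_ends.2.1 t)).trans (Equiv.congr_fun αm_val t).symm))

end Cfsg.Lib.AltTwelveType
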