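import Cfsg.Agent.AltTwelveType.SpOrbit

/-!
The symplectic case: the conjugates of the central involution in its centraliser, and three further
transvections centralising three lines of the seven points.
-/

set_option autoImplicit false
set_option linter.unusedSectionVars false
set_option linter.style.haveILetI false
set_option maxRecDepth 100000
set_option maxHeartbeats 1000000

namespace Cfsg.Lib.AltTwelveType

open Subgroup

/-- the flip of two pairs -/
def flPerm (i j : Fin 6) : Equiv.Perm (Fin 12) :=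
  Equiv.swap (ptOf i) (αp (ptOf i)) * Equiv.swap (ptOf j) (αp (ptOf j))

theorem flPerm_sign : ∀ i j : Fin 6, Equiv.Perm.sign (flPerm i j) = 1 := by decide +kernel
theorem flPerm_comm : ∀ i j : Fin 6, ∀ x : Fin 12, flPerm i j (αp x) = αp (flPerm i j x) := by decide +kernel
theorem flPerm_invol : ∀ i j : Fin 6, ∀ x : Fin 12, flPerm i j (flPerm i j x) = x := by decide +kernel

/-- the flip of two pairs, in the model -/
def flm (i j : Fin 6) : Mh := ⟨flPerm i j, mem_of (flPerm_sign i j) (flPerm_comm i j)⟩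

/-- the point map of the product of two transpositions exchanging the pairs of two points -/
def trFun (x y : Fin 12) (z : Fin 12) : Fin 12 :=
  if z = x then y else if z = y then x else if z = αp x then αp y else if z = αp y then αp x else z

theorem tr_facts : ∀ x y : Fin 12, pairOf x ≠ pairOf y →
    Equiv.Perm.sign (Equiv.swap x y * Equiv.swap (αp x) (αp y)) = 1 ∧
      (∀ z, (Equiv.swap x y * Equiv.swap (αp x) (αp y)) (αp z) = αp ((Equiv.swap x y * Equiv.swap (αp x) (αp y)) z)) ∧
      ∀ z, (Equiv.swap x y * Equiv.swap (αp x) (αp y)) z = trFun x y z := by decide +kernel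

/-- the product of two transpositions exchanging the pairs of two points -/
def tr (x y : Fin 12) : Mh :=
  if h : pairOf x ≠ pairOf y then
    ⟨Equiv.swap x y * Equiv.swap (αp x) (αp y), mem_of (tr_facts x y h).1 (tr_facts x y h).2.1⟩
  else 1

theorem tr_apply {x y : Fin 12} (h : pairOf x ≠ pairOf y) (z : Fin 12) : (tr x y).1 z = trFun x y z := by
  rw [tr, dif_pos h]; exact (tr_facts x y h).2.2 z

theorem tr_conj (c : Mh) {x y : Fin 12} (h : pairOf x ≠ pairOf y) :
    pairOf (c.1 x) ≠ pairOf (c.1 y) ∧ c * tr x y * c⁻¹ = tr (c.1 x) (c.1 y) := by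
  have hc : ∀ z, c.1 (αp z) = αp (c.1 z) := fun z =>
    Equiv.congr_fun (Subgroup.mem_centralizer_singleton_iff.1 c.2.2) z
  have key : ∀ x y : Fin 12, pairOf x = pairOf y → y = x ∨ y = αp x := by decide +kernel
  have h' : pairOf (c.1 x) ≠ pairOf (c.1 y) := fun e => by
    rcases key _ _ e with e | e
    · exact h (by rw [c.1.injective e])
    · rw [← hc] at e; exact h (by rw [c.1.injective e, pair_facts.2.1])
  refine ⟨h', Subtype.ext (Equiv.ext fun z => ?_)⟩
  show c.1 ((tr x y).1 (c.1.symm z)) = (tr (c.1 x) (c.1 y)).1 z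
  rw [tr_apply h, tr_apply h']
  obtain ⟨w, rfl⟩ := c.1.surjective z
  rw [Equiv.symm_apply_apply]
  simp only [trFun, ← hc, c.1.injective.eq_iff]
  split_ifs <;> rfl

theorem oSp_tr : ∀ b : Fin 64, oSp b = true → b ≠ 21 → ∃ x y : Fin 12, pairOf x ≠ pairOf y ∧
    ∀ z, aFun b z = trFun x y z := by decide +kernel

/-- whether a point pair gives a transvection off the elementary subgroup centralising given points -/
def okT (l : List (Fin 64)) (x y : Fin 12) : Bool :=
  decide (pairOf x ≠ pairOf y) && !decide (∀ z, trFun x y z = aFun (code (trFun x y)) z) &&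
    l.all fun d => decide (∀ z, trFun x y (aFun d z) = aFun d (trFun x y z))

/-- the line through the first point and the second -/
def lineC : List (Fin 64) := [21, 2, 3]
/-- the line through the first point and the fourth -/
def lineB : List (Fin 64) := [21, 8, 12]
/-- the line off the first point -/
def lineA : List (Fin 64) := [2, 8, 32]

theorem loc_braid : ∀ x y : Fin 12, okT lineC x y = true → ∀ d ∈ [8, 12, 32, 48], ∀ z,
    trFun x y (aFun d (trFun x y (aFun d (trFun x y (aFun d z))))) = z := by decide +kernel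

theorem loc_some : okT lineC 4 8 = true := by decide +kernel

theorem loc_next : ∀ x y : Fin 12, okT lineC x y = true → ∃ p q : Fin 12, okT lineB p q = true ∧
    ∀ z, trFun x y (trFun p q z) = trFun p q (trFun x y z) := by decide +kernel

theorem loc_prev : ∀ p q : Fin 12, okT lineB p q = true → ∃ x y : Fin 12, okT lineC x y = true ∧
    ∀ z, trFun x y (trFun p q z) = trFun p q (trFun x y z) := by decide +kernel

theorem loc_fix : ∀ x y : Fin 12, okT lineC x y = true → ∀ p q : Fin 12, okT lineB p q = true →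
    (∀ z, trFun x y (trFun p q z) = trFun p q (trFun x y z)) ∨
    (∀ z, trFun x y (aFun 42 (trFun p q (aFun 42 z))) = aFun 42 (trFun p q (aFun 42 (trFun x y z)))) := by
  decide +kernel

/-- the coordinates commuting with a transvection of the first line -/
def inSpan (v : Fin 64) : Bool := [0, 21, 2, 3, 23, 22, 1, 20].elem v

theorem loc_span : ∀ x y : Fin 12, okT lineC x y = true → ∀ v : Fin 64,
    (∀ z, trFun x y (aFun v z) = aFun v (trFun x y z)) → inSpan v = true := by decide +kernel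

/-- the cycle of the three axes -/
def sigma (v : Fin 64) : Fin 64 := wA (act 4 v)

theorem sigma_facts : lineB.map sigma = [2, 21, 3] ∧ lineC.map sigma = [2, 8, 32] ∧
    (lineB.map sigma).map sigma = [8, 2, 32] ∧ (lineC.map sigma).map sigma = [8, 21, 12] ∧
    sigma (sigma 42) = 20 ∧ (∀ v, sigma (sigma (sigma v)) = v) := by decide +kernel

theorem span_meet : ∀ v : Fin 64, inSpan v = true → inSpan (sigma v) = true → inSpan (sigma (sigma v)) = true →
    v = 0 := by decide +kernel

theorem comm_of_fun {m n : Mh} (h : ∀ z, m.1 (n.1 z) = n.1 (m.1 z)) : m * n = n * m := Subtype.ext (Equiv.ext h)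

theorem fun_of_comm {m n : Mh} (h : m * n = n * m) (z : Fin 12) : m.1 (n.1 z) = n.1 (m.1 z) :=
  Equiv.congr_fun (congrArg Subtype.val h) z

namespace Setting

variable {G : Type*} [Group G] [Finite G] (S : Setting G)

/-- a conjugate of the central involution off the elementary subgroup centralising given points -/
def Tv (l : List (Fin 64)) (x : G) : Prop :=
  IsConj S.α x ∧ x ∉ S.AG ∧ ∀ d ∈ l, x * S.el d = S.el d * x

variable {S}

theorem Tv.sq {l : List (Fin 64)} {x : G} (h : S.Tv l x) : x * x = 1 := by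
  obtain ⟨g, rfl⟩ := isConj_iff.1 h.1
  calc g * S.α * g⁻¹ * (g * S.α * g⁻¹) = g * (S.α * S.α) * g⁻¹ := by group
    _ = 1 := by rw [← S.el_alpha, S.el_sq]; group

theorem Tv.congr {l l' : List (Fin 64)} {x : G} (h : S.Tv l x) (e : ∀ d, d ∈ l' → d ∈ l) : S.Tv l' x :=
  ⟨h.1, h.2.1, fun d hd => h.2.2 d (e d hd)⟩

theorem Tv.map {θ : Fin 64 → Fin 64} {n : G} (hn : ∀ v, n * S.el v * n⁻¹ = S.el (θ v)) (hθ : Function.Surjective θ)
    {l : List (Fin 64)} {x : G} (h : S.Tv l x) : S.Tv (l.map θ) (n * x * n⁻¹) := by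
  refine ⟨h.1.trans (isConj_iff.2 ⟨n, rfl⟩), fun hA => h.2.1 ?_, fun d hd => ?_⟩
  · obtain ⟨v, hv⟩ := hA
    obtain ⟨w, rfl⟩ := hθ v
    rw [← hn] at hv
    exact ⟨w, mul_left_cancel (mul_right_cancel hv)⟩
  · obtain ⟨d', hd', rfl⟩ := List.mem_map.1 hd
    rw [← hn]
    calc n * x * n⁻¹ * (n * S.el d' * n⁻¹) = n * (x * S.el d') * n⁻¹ := by group
      _ = n * (S.el d' * x) * n⁻¹ := by rw [h.2.2 d' hd']
      _ = _ := by group

theorem Tv.conj_el {l : List (Fin 64)} {x : G} (h : S.Tv l x) (a : Fin 64) : S.Tv l (S.el a * x * (S.el a)⁻¹) := by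
  refine ⟨h.1.trans (isConj_iff.2 ⟨_, rfl⟩), fun hA => h.2.1 ?_, fun d hd => ?_⟩
  · have := S.AG.mul_mem (S.AG.mul_mem (S.AG.inv_mem (S.el_mem a)) hA) (S.el_mem a)
    rwa [show (S.el a)⁻¹ * (S.el a * x * (S.el a)⁻¹) * S.el a = x by group] at this
  · calc S.el a * x * (S.el a)⁻¹ * S.el d = S.el a * x * ((S.el a)⁻¹ * S.el d * S.el a) * (S.el a)⁻¹ := by group
      _ = S.el a * (x * S.el d) * (S.el a)⁻¹ := by rw [mul_assoc (S.el a)⁻¹, S.el_comm d a]; group
      _ = S.el a * S.el d * x * (S.el a)⁻¹ := by rw [h.2.2 d hd]; group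
      _ = S.el d * (S.el a * x * (S.el a)⁻¹) := by rw [S.el_comm a d]; group

variable (hS : ∀ v, S.o v = oSp v)

include hS

/-- A conjugate commuting with the central involution is that involution or a product of two transpositions. -/
theorem classify {x : G} (hx : IsConj S.α x) (hc : x * S.α = S.α * x) :
    x = S.α ∨ ∃ p q, pairOf p ≠ pairOf q ∧ x = S.φ (tr p q) := by
  obtain ⟨g, hg⟩ := isConj_iff.1 hx
  have hx2 : x * x = 1 := by
    rw [← hg, show g * S.α * g⁻¹ * (g * S.α * g⁻¹) = g * (S.α * S.α) * g⁻¹ by group, ← S.el_alpha, S.el_sq]; group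
  obtain ⟨c, b, hb⟩ := S.cent_into_A hx2 hc
  have ho : oSp b = true := by
    rw [← hS, S.o_iff]
    exact hx.trans (isConj_iff.2 ⟨S.φ c, hb⟩)
  have e : x = S.φ (c⁻¹ * pa b * c) := by
    rw [map_mul, map_mul, map_inv, show S.φ (pa b) = S.el b from rfl, ← hb]; group
  by_cases h21 : b = 21
  · left
    rw [e, h21, show pa 21 = αm from rfl, mul_assoc, αm_central, ← mul_assoc, inv_mul_cancel, one_mul]; rfl
  · right
    obtain ⟨p, q, hpq, hz⟩ := oSp_tr b ho h21
    have hb' : pa b = tr p q := Subtype.ext (Equiv.ext fun z => (hz z).trans (tr_apply hpq z).symm)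
    obtain ⟨h1, h2⟩ := tr_conj c⁻¹ hpq
    exact ⟨_, _, h1, by rw [e, hb', ← h2, inv_inv]⟩

theorem Tv.form {l : List (Fin 64)} {x : G} (h : S.Tv l x) (h21 : (21 : Fin 64) ∈ l) :
    ∃ p q, okT l p q = true ∧ x = S.φ (tr p q) := by
  rcases classify hS h.1 (by rw [← S.el_alpha]; exact h.2.2 21 h21) with e | ⟨p, q, hpq, e⟩
  · exact absurd (e ▸ S.el_mem 21) h.2.1
  refine ⟨p, q, ?_, e⟩
  simp only [okT, Bool.and_eq_true, decide_eq_true_eq, Bool.not_eq_true', decide_eq_false_iff_not,
    List.all_eq_true]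
  refine ⟨⟨hpq, fun hA => h.2.1 ?_⟩, fun d hd z => ?_⟩
  · rw [e, show tr p q = pa (code (trFun p q)) from Subtype.ext (Equiv.ext fun z => (tr_apply hpq z).trans (hA z))]
    exact S.el_mem _
  · have h1 := fun_of_comm (m := tr p q) (n := pa d) (S.inj (by
      rw [map_mul, map_mul]; rw [e] at h; exact h.2.2 d hd)) z
    rw [tr_apply hpq, tr_apply hpq] at h1
    exact h1

theorem Tv.make {l : List (Fin 64)} {p q : Fin 12} (h : okT l p q = true)
    (hc : IsConj (S.el 2) (S.φ (tr p q))) : S.Tv l (S.φ (tr p q)) := by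
  simp only [okT, Bool.and_eq_true, decide_eq_true_eq, Bool.not_eq_true', decide_eq_false_iff_not,
    List.all_eq_true] at h
  obtain ⟨⟨hpq, hA⟩, hl⟩ := h
  refine ⟨(S.o_iff.1 (by rw [hS]; decide +kernel)).trans hc, ?_, fun d hd => ?_⟩
  · rintro ⟨v, hv⟩
    have e := S.inj hv
    have key : ∀ v : Fin 64, code (aFun v) = v := by decide +kernel
    have hf : trFun p q = aFun v := funext fun z => by rw [← tr_apply hpq, ← e]; rfl
    exact hA fun z => by rw [hf, key]
  · rw [el, ← map_mul, ← map_mul]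
    congr 1
    exact comm_of_fun fun z => by rw [tr_apply hpq, tr_apply hpq]; exact hl d hd z

theorem conj_tr {p q : Fin 12} (h : pairOf p ≠ pairOf q) (c : Mh) (e1 : c.1 0 = p) (e2 : c.1 2 = q) :
    IsConj (S.el 2) (S.φ (tr p q)) := by
  have h02 : pairOf (0 : Fin 12) ≠ pairOf 2 := by decide
  have hz : ∀ z, aFun 2 z = trFun 0 2 z := by decide +kernel
  refine isConj_iff.2 ⟨S.φ c, ?_⟩
  rw [el, show pa 2 = tr 0 2 from Subtype.ext (Equiv.ext fun z => (hz z).trans (tr_apply h02 z).symm), ← map_inv,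
    ← map_mul, ← map_mul, (tr_conj c h02).2, e1, e2]

theorem first_exists : ∃ x, S.Tv lineC x := by
  refine ⟨_, Tv.make hS loc_some (conj_tr hS (by decide) (sw 0 2 * sw 1 4) (by decide +kernel) (by decide +kernel))⟩

theorem pairs_conj : ∀ {p q : Fin 12}, pairOf p ≠ pairOf q → IsConj (S.el 2) (S.φ (tr p q)) := by
  intro p q h
  have pts : ∀ p q : Fin 12, pairOf p ≠ pairOf q →
      ∃ i j : Fin 6, flPerm i j p = ptOf (pairOf p) ∧ flPerm i j q = ptOf (pairOf q) := by decide +kernel
  obtain ⟨a, b, hc1, hc2⟩ := pts p q h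
  have mv : ∀ i j : Fin 6, i ≠ j → ∃ k : Fin 6,
      swapPair 0 i (swapPair 1 k 0) = ptOf i ∧ swapPair 0 i (swapPair 1 k 2) = ptOf j := by decide +kernel
  obtain ⟨k, h1, h2⟩ := mv _ _ h
  refine conj_tr hS h (flm a b * (sw 0 (pairOf p) * sw 1 k)) ?_ ?_
  · show flPerm a b (swapPair 0 (pairOf p) (swapPair 1 k 0)) = p
    rw [h1, ← hc1, flPerm_invol]
  · show flPerm a b (swapPair 0 (pairOf p) (swapPair 1 k 2)) = q
    rw [h2, ← hc2, flPerm_invol]

theorem loc_pair_next {x : G} (h : S.Tv lineC x) : ∃ y, S.Tv lineB y ∧ x * y = y * x := by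
  obtain ⟨p, q, hok, rfl⟩ := Tv.form hS h List.mem_cons_self
  obtain ⟨p', q', hok', hc⟩ := loc_next p q hok
  have n1 : pairOf p ≠ pairOf q := by simp [okT] at hok; exact hok.1.1
  have n2 : pairOf p' ≠ pairOf q' := by simp [okT] at hok'; exact hok'.1.1
  refine ⟨_, Tv.make hS hok' (pairs_conj hS n2), ?_⟩
  rw [← map_mul, ← map_mul]
  congr 1
  exact comm_of_fun fun z => by simp only [tr_apply n1, tr_apply n2]; exact hc z

theorem loc_pair_prev {y : G} (h : S.Tv lineB y) : ∃ x, S.Tv lineC x ∧ x * y = y * x := by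
  obtain ⟨p', q', hok', rfl⟩ := Tv.form hS h List.mem_cons_self
  obtain ⟨p, q, hok, hc⟩ := loc_prev p' q' hok'
  have n1 : pairOf p ≠ pairOf q := by simp [okT] at hok; exact hok.1.1
  have n2 : pairOf p' ≠ pairOf q' := by simp [okT] at hok'; exact hok'.1.1
  refine ⟨_, Tv.make hS hok (pairs_conj hS n1), ?_⟩
  rw [← map_mul, ← map_mul]
  congr 1
  exact comm_of_fun fun z => by simp only [tr_apply n1, tr_apply n2]; exact hc z

theorem loc_adjust {x y : G} (hx : S.Tv lineC x) (hy : S.Tv lineB y) (hne : x * y ≠ y * x) :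
    x * (S.el 42 * y * (S.el 42)⁻¹) = S.el 42 * y * (S.el 42)⁻¹ * x := by
  obtain ⟨p, q, hok, rfl⟩ := Tv.form hS hx List.mem_cons_self
  obtain ⟨p', q', hok', rfl⟩ := Tv.form hS hy List.mem_cons_self
  have n1 : pairOf p ≠ pairOf q := by simp [okT] at hok; exact hok.1.1
  have n2 : pairOf p' ≠ pairOf q' := by simp [okT] at hok'; exact hok'.1.1
  rcases loc_fix p q hok p' q' hok' with hc | hc
  · refine absurd ?_ hne
    rw [← map_mul, ← map_mul]
    congr 1
    exact comm_of_fun fun z => by simp only [tr_apply n1, tr_apply n2]; exact hc z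
  · rw [el, ← map_inv, pa_inv, ← map_mul, ← map_mul, ← map_mul, ← map_mul]
    congr 1
    exact comm_of_fun fun z => by
      show (tr p q).1 (aFun 42 ((tr p' q').1 (aFun 42 z))) = aFun 42 ((tr p' q').1 (aFun 42 ((tr p q).1 z)))
      simp only [tr_apply n1, tr_apply n2]
      exact hc z

theorem loc_cube {x : G} (h : S.Tv lineC x) {d : Fin 64} (hd : d ∈ [8, 12, 32, 48]) : (x * S.el d) ^ 3 = 1 := by
  obtain ⟨p, q, hok, rfl⟩ := Tv.form hS h List.mem_cons_self
  have n1 : pairOf p ≠ pairOf q := by simp [okT] at hok; exact hok.1.1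
  rw [el, ← map_mul, ← map_pow, ← map_one S.φ]
  congr 1
  refine Subtype.ext (Equiv.ext fun z => ?_)
  rw [pow_three]
  show (tr p q).1 (aFun d ((tr p q).1 (aFun d ((tr p q).1 (aFun d z))))) = z
  simp only [tr_apply n1]
  exact loc_braid p q hok d hd z

theorem loc_comm_span {x : G} (h : S.Tv lineC x) {v : Fin 64} (hv : x * S.el v = S.el v * x) : inSpan v = true := by
  obtain ⟨p, q, hok, rfl⟩ := Tv.form hS h List.mem_cons_self
  have n1 : pairOf p ≠ pairOf q := by simp [okT] at hok; exact hok.1.1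
  refine loc_span p q hok v fun z => ?_
  have h1 := fun_of_comm (m := tr p q) (n := pa v) (S.inj (by rw [map_mul, map_mul]; exact hv)) z
  rw [tr_apply n1, tr_apply n1] at h1
  exact h1

end Setting

end Cfsg.Lib.AltTwelveType
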