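import Cfsg.Agent.AltTwelveType.Core

/-!
The symplectic case: an odd subgroup normalised by the elementary subgroup is trivial.
-/

set_option autoImplicit false
set_option linter.unusedSectionVars false
set_option linter.style.haveILetI false
set_option maxRecDepth 10000

namespace Cfsg.Lib.AltTwelveType

open Subgroup

theorem sev_o : ∀ d ∈ [(21 : Fin 64), 2, 3, 8, 12, 32, 48], oSp d = true := by decide +kernel

theorem sev_sum : axor 21 (axor 2 (axor 3 (axor 8 (axor 12 (axor 32 48))))) = 0 := by decide +kernel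

namespace Setting

variable {G : Type*} [Group G] [Finite G] {S : Setting G}

theorem odd_normalised (hS : ∀ v, S.o v = oSp v) {P : Subgroup G} (hodd : Odd (Nat.card P))
    (hn : ∀ w, ∀ p ∈ P, S.el w * p * (S.el w)⁻¹ ∈ P) : P = ⊥ := by
  have hinv : ∀ d ∈ [(21 : Fin 64), 2, 3, 8, 12, 32, 48], ∀ p ∈ P, S.el d * p * (S.el d)⁻¹ = p⁻¹ := by
    intro d hd p hp
    have hbot := S.odd_local (v := d) (by rw [hS]; exact sev_o d hd) (P := P ⊓ centralizer ({S.el d} : Set G))
      (hodd.of_dvd_nat (card_dvd_of_le inf_le_left)) (fun q hq => mem_centralizer_singleton_iff.1 hq.2)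
      (fun w q hq => by
        refine ⟨hn w q hq.1, mem_centralizer_singleton_iff.2 ?_⟩
        calc S.el w * q * (S.el w)⁻¹ * S.el d = S.el w * q * ((S.el w)⁻¹ * S.el d * S.el w) * (S.el w)⁻¹ := by group
          _ = S.el w * (q * S.el d) * (S.el w)⁻¹ := by rw [mul_assoc (S.el w)⁻¹, S.el_comm d w]; group
          _ = S.el w * S.el d * q * (S.el w)⁻¹ := by rw [mem_centralizer_singleton_iff.1 hq.2]; group
          _ = S.el d * (S.el w * q * (S.el w)⁻¹) := by rw [S.el_comm w d]; group)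
    let f : P →* P := MonoidHom.mk' (fun q => ⟨S.el d * q * (S.el d)⁻¹, hn d q q.2⟩) fun a b => Subtype.ext (by
      show S.el d * ((a : G) * b) * (S.el d)⁻¹ = S.el d * a * (S.el d)⁻¹ * (S.el d * b * (S.el d)⁻¹)
      group)
    have hfree : MonoidHom.FixedPointFree f := fun q hq => Subtype.ext (by
      have h1 : S.el d * q * (S.el d)⁻¹ = q := congrArg Subtype.val hq
      exact (eq_bot_iff.1 hbot) ⟨q.2, mem_centralizer_singleton_iff.2 (by
        calc (q : G) * S.el d = S.el d * q * (S.el d)⁻¹ * S.el d := by rw [h1]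
          _ = S.el d * q := by group)⟩)
    have hi : Function.Involutive f := fun q => Subtype.ext (by
      show S.el d * (S.el d * q * (S.el d)⁻¹) * (S.el d)⁻¹ = (q : G)
      calc S.el d * (S.el d * (q : G) * (S.el d)⁻¹) * (S.el d)⁻¹ = S.el d * S.el d * q * (S.el d * S.el d)⁻¹ := by
            group
        _ = q := by rw [S.el_sq]; group)
    exact congrArg Subtype.val (congrFun (hfree.coe_eq_inv_of_involutive hi) ⟨p, hp⟩)
  have hinv2 : ∀ d ∈ [(21 : Fin 64), 2, 3, 8, 12, 32, 48], ∀ p ∈ P, S.el d * p⁻¹ * (S.el d)⁻¹ = p := fun d hd p hp => by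
    rw [hinv d hd _ (P.inv_mem hp), inv_inv]
  rw [eq_bot_iff]
  intro p hp
  rw [mem_bot]
  refine Cfsg.Lib.AltEightType.eq_one_of_odd_two hodd hp ?_
  have e : S.el 21 * (S.el 2 * (S.el 3 * (S.el 8 * (S.el 12 * (S.el 32 * S.el 48))))) = 1 := by
    rw [S.el_mul, S.el_mul, S.el_mul, S.el_mul, S.el_mul, S.el_mul, sev_sum, S.el_zero]
  have h7 : S.el 21 * (S.el 2 * (S.el 3 * (S.el 8 * (S.el 12 * (S.el 32 * (S.el 48 * p * (S.el 48)⁻¹) *
      (S.el 32)⁻¹) * (S.el 12)⁻¹) * (S.el 8)⁻¹) * (S.el 3)⁻¹) * (S.el 2)⁻¹) * (S.el 21)⁻¹ = p⁻¹ := by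
    rw [hinv 48 (by simp) p hp, hinv2 32 (by simp) p hp, hinv 12 (by simp) p hp, hinv2 8 (by simp) p hp,
      hinv 3 (by simp) p hp, hinv2 2 (by simp) p hp, hinv 21 (by simp) p hp]
  have : p = p⁻¹ := by
    rw [← h7]
    calc p = S.el 21 * (S.el 2 * (S.el 3 * (S.el 8 * (S.el 12 * (S.el 32 * S.el 48))))) * p *
          (S.el 21 * (S.el 2 * (S.el 3 * (S.el 8 * (S.el 12 * (S.el 32 * S.el 48))))))⁻¹ := by rw [e]; group
      _ = _ := by group
  calc p * p = p * p⁻¹ := by rw [← this]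
    _ = 1 := mul_inv_cancel p

end Setting

end Cfsg.Lib.AltTwelveType
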