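import Cfsg.Agent.AltTwelveType.SpSub
import Cfsg.Agent.AltTwelveType.SpOdd
import Cfsg.Agent.AltTwelveType.Crit
import Cfsg.Agent.LocalThree.SpCentre.SixModel
import Cfsg.Agent.FiOuter.SpSix
import Mathlib.GroupTheory.SchurZassenhaus

/-!
The symplectic case: the centraliser of a product of two commuting transvections, and the isomorphism.
-/

set_option autoImplicit false
set_option linter.unusedSectionVars false
set_option linter.style.haveILetI false
set_option maxRecDepth 100000
set_option maxHeartbeats 1000000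

namespace Cfsg.Lib.AltTwelveType

open Subgroup Cfsg.Lib.SpCentre

universe u

theorem pair_table : ∀ p q : Fin 12, pairOf p ≠ pairOf q →
    (∀ z, trFun p q (aFun 23 z) = aFun 23 (trFun p q z)) →
    ((∀ z, trFun p q (aFun 23 z) = αp z) ∨
      ∃ r s : Fin 12, pairOf r ≠ pairOf s ∧ ∀ z, trFun p q (aFun 23 z) = trFun r s z) →
    ∀ z, trFun p q z = aFun 2 z := by decide +kernel

theorem act_pair : ∀ k : Fin 24, axor 21 (act k 2) = act k 23 := by decide +kernel

/-- no transvection exchanges the first two -/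
theorem swap_code : ∀ v : Fin 64, Code.mul (Code.mul (Code.tvC v.val) (Code.tvC 1)) (Code.tvC v.val) ≠ Code.tvC 2 := by
  decide +kernel

theorem no_swap {v : ℕ} (hv : v < 64) : Code.τ v * Code.τ 1 * Code.τ v ≠ Code.τ 2 := fun h => by
  have h' := congrArg Code.rep h
  rw [Code.rep_mul, Code.rep_mul, Code.rep_τ hv, Code.rep_τ (by norm_num), Code.rep_τ (by norm_num)] at h'
  exact swap_code ⟨v, hv⟩ h'

variable {G : Type u} [Group G] [Finite G]

namespace SpSubgroup

variable {S : Setting G} (D : SpSubgroup S)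

/-- The centraliser of the product of the first two transvections. -/
theorem cent_pair (hS : ∀ v, S.o v = oSp v) : centralizer ({S.el 23} : Set G) ≤ D.θ.range := by
  classical
  set X := centralizer ({S.el 23} : Set G) with hX
  have hxX : S.el 23 ∈ X := mem_centralizer_singleton_iff.2 rfl
  have hαX : S.α ∈ X := mem_centralizer_singleton_iff.2 (S.el_comm 21 23)
  have hmem : ∀ {g : G}, g ∈ X → g * S.el 23 = S.el 23 * g := fun hg => mem_centralizer_singleton_iff.1 hg
  let x : X := ⟨S.el 23, hxX⟩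
  let a : X := ⟨S.α, hαX⟩
  have hxc : ∀ y : X, y * x = x * y := fun y => Subtype.ext (hmem y.2)
  set N := zpowers x with hN
  haveI : N.Normal := ⟨fun n hn y => by
    obtain ⟨i, rfl⟩ := mem_zpowers_iff.1 hn
    rw [((show Commute y x from hxc y).zpow_right i).eq, mul_inv_cancel_right]
    exact zpow_mem (mem_zpowers x) i⟩
  have hx2 : x * x = 1 := Subtype.ext (S.el_sq 23)
  have hx1 : x ≠ 1 := fun h => absurd (S.el_inj ((congrArg Subtype.val h).trans S.el_zero.symm)) (by decide)
  have hNmem : ∀ {y : X}, y ∈ N → y = 1 ∨ y = x := by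
    intro y hy
    obtain ⟨i, rfl⟩ := mem_zpowers_iff.1 hy
    rcases Int.even_or_odd i with ⟨j, rfl⟩ | ⟨j, rfl⟩
    · left; rw [← two_mul, zpow_mul, show x ^ (2 : ℤ) = 1 by rw [zpow_two, hx2], one_zpow]
    · right; rw [zpow_add, zpow_mul, show x ^ (2 : ℤ) = 1 by rw [zpow_two, hx2], one_zpow, one_mul, zpow_one]
  let π := QuotientGroup.mk' N
  have hπ : ∀ {p q : X}, π p = π q → q = p ∨ q = p * x := by
    intro p q h
    have h1 : p⁻¹ * q ∈ N := QuotientGroup.eq.1 h
    rcases hNmem h1 with e | e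
    · exact Or.inl (by calc q = p * (p⁻¹ * q) := by group
        _ = p := by rw [e, mul_one])
    · exact Or.inr (by calc q = p * (p⁻¹ * q) := by group
        _ = p * x := by rw [e])
  have haxA : S.α * S.el 23 = S.el 2 := by rw [← S.el_alpha, S.el_mul]; congr 1
  have ha2 : a * a = 1 := Subtype.ext (by show S.α * S.α = 1; rw [← S.el_alpha, S.el_sq])
  have hā : orderOf (π a) = 2 := by
    refine Cfsg.Lib.InvolCalc.order_two_of_mul_self (by rw [← map_mul, ha2, map_one]) fun h => ?_
    rcases hNmem ((QuotientGroup.eq_one_iff a).1 h) with e | e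
    · exact S.α_ne (congrArg Subtype.val e)
    · exact absurd (S.el_inj (show S.el 21 = S.el 23 from congrArg Subtype.val e)) (by decide)
  have hiso : Cfsg.IsIsolatedInvolution (π a) := by
    refine ⟨hā, fun q hq => ?_⟩
    obtain ⟨g, rfl⟩ := QuotientGroup.mk'_surjective N q
    set b : X := g * a * g⁻¹ with hb
    have eb : π g * π a * (π g)⁻¹ = π b := by rw [hb, map_mul, map_mul, map_inv]
    rw [eb] at hq ⊢
    have hbG : (b : G) = (g : G) * S.α * (g : G)⁻¹ := rfl
    have hbconj : IsConj S.α (b : G) := isConj_iff.2 ⟨(g : G), hbG.symm⟩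
    have hb2 : (b : G) * b = 1 := by
      rw [hbG, show (g : G) * S.α * (g : G)⁻¹ * ((g : G) * S.α * (g : G)⁻¹) = (g : G) * (S.α * S.α) * (g : G)⁻¹ by group,
        ← S.el_alpha, S.el_sq]
      group
    rcases hπ (show π (a * b) = π (b * a) by rw [map_mul, map_mul]; exact hq) with h | h
    · -- commuting
      have hcomm : (b : G) * S.α = S.α * b := congrArg Subtype.val h
      rcases Setting.classify hS hbconj hcomm with e | ⟨p, r, hpr, e⟩
      · rw [show b = a from Subtype.ext e]
      have hu : IsConj S.α ((b : G) * S.el 23) := by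
        refine (S.o_iff.1 (by rw [hS]; decide +kernel : S.o 2 = true)).trans (isConj_iff.2 ⟨(g : G), ?_⟩)
        rw [← haxA, hbG]
        calc (g : G) * (S.α * S.el 23) * (g : G)⁻¹ = (g : G) * S.α * (g : G)⁻¹ * ((g : G) * S.el 23 * (g : G)⁻¹) := by group
          _ = _ := by rw [hmem g.2, mul_inv_cancel_right]
      have hc2 : (b : G) * S.el 23 * S.α = S.α * ((b : G) * S.el 23) := by
        rw [mul_assoc, show S.el 23 * S.α = S.α * S.el 23 from S.el_comm 23 21, ← mul_assoc, hcomm, mul_assoc]
      have hx23 : ∀ z, trFun p r (aFun 23 z) = aFun 23 (trFun p r z) := fun z => by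
        have h1 := fun_of_comm (m := tr p r) (n := pa 23) (S.inj (by
          rw [map_mul, map_mul, ← e]; exact hmem b.2)) z
        rw [tr_apply hpr, tr_apply hpr] at h1
        exact h1
      have hval : tr p r = pa 2 := by
        refine Subtype.ext (Equiv.ext fun z => (tr_apply hpr z).trans (pair_table p r hpr hx23 ?_ z))
        rcases Setting.classify hS hu hc2 with e' | ⟨r', s, hrs, e'⟩
        · left
          intro z
          have h1 := Equiv.congr_fun (congrArg Subtype.val (S.inj (show S.φ (tr p r * pa 23) = S.φ αm by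
            rw [map_mul, ← e]; exact e'))) z
          rw [αm_val] at h1
          rw [← tr_apply hpr]; exact h1
        · right
          refine ⟨r', s, hrs, fun z => ?_⟩
          have h1 := Equiv.congr_fun (congrArg Subtype.val (S.inj (show S.φ (tr p r * pa 23) = S.φ (tr r' s) by
            rw [map_mul, ← e]; exact e'))) z
          rw [← tr_apply hpr, ← tr_apply hrs]; exact h1
      have hbu : b = a * x := Subtype.ext (by
        show (b : G) = S.α * S.el 23
        rw [haxA, e, hval]; rfl)
      rw [hbu, map_mul, show π x = 1 from (QuotientGroup.eq_one_iff x).2 (mem_zpowers x), mul_one]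
    · -- exchanging
      exfalso
      have hswap : (b : G) * S.α * (b : G)⁻¹ = S.el 2 := by
        have h' : (b : G) * S.α = S.α * b * S.el 23 := congrArg Subtype.val h
        rw [h', ← haxA, mul_assoc S.α, hmem b.2]
        group
      obtain ⟨h₂, hh₂, e₂⟩ := D.conj_all hS (v := 2) (by rw [hS]; decide +kernel)
      obtain ⟨m, hm⟩ : ∃ m, S.φ m = h₂⁻¹ * b := by
        refine S.mem_cent.1 ?_
        calc h₂⁻¹ * (b : G) * S.α = h₂⁻¹ * ((b : G) * S.α * (b : G)⁻¹) * b := by group
          _ = h₂⁻¹ * (h₂ * S.α * h₂⁻¹) * b := by rw [hswap, e₂]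
          _ = _ := by group
      have hbH : (b : G) ∈ D.θ.range := by
        rw [show (b : G) = h₂ * S.φ m by rw [hm]; group]
        exact mul_mem hh₂ (D.cent_le ⟨m, rfl⟩)
      have hgH : (g : G) ∈ D.θ.range := S.back_in D.cent_le (fun v hv => D.conj_all hS hv) (hbG ▸ hbH)
      obtain ⟨k, hk⟩ := hgH
      have hv : ∃ v < 64, (b : G) = D.θ (Code.τ v) := by
        refine ⟨Cfsg.Lib.SpSixTwo.actV k 1, Cfsg.Lib.SpSixTwo.actV_lt k 1, ?_⟩
        rw [hbG, ← hk, ← D.gen1, ← map_inv, ← map_mul, ← map_mul, ← Code.τ_conj]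
        rfl
      obtain ⟨v, hv64, hv⟩ := hv
      refine no_swap hv64 (D.inj ?_)
      rw [map_mul, map_mul, ← hv, show D.θ (Code.τ 1) = S.α from D.gen1, show D.θ (Code.τ 2) = S.el 2 from D.gen6,
        ← hswap, inv_eq_of_mul_eq_one_right hb2]
  -- the odd core of the quotient
  have hcore : Cfsg.oddCore (X ⧸ N) = ⊥ := by
    set P := (Cfsg.oddCore (X ⧸ N)).comap π with hP
    have hxP : N ≤ P := fun y hy => by
      show π y ∈ Cfsg.oddCore (X ⧸ N)
      rw [show π y = 1 from (QuotientGroup.eq_one_iff y).2 hy]; exact one_mem _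
    let ρ : P →* Cfsg.oddCore (X ⧸ N) := π.subgroupComap _
    have hρs : Function.Surjective ρ := fun q => by
      obtain ⟨y, hy⟩ := QuotientGroup.mk'_surjective N q.1
      exact ⟨⟨y, show π y ∈ _ by rw [show π y = q.1 from hy]; exact q.2⟩, Subtype.ext hy⟩
    have hker : ρ.ker = N.subgroupOf P := by
      ext y
      rw [MonoidHom.mem_ker, mem_subgroupOf]
      exact ⟨fun h => (QuotientGroup.eq_one_iff _).1 (congrArg Subtype.val h),
        fun h => Subtype.ext ((QuotientGroup.eq_one_iff _).2 h)⟩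
    haveI : (N.subgroupOf P).Normal := hker ▸ MonoidHom.normal_ker ρ
    have hidx : (N.subgroupOf P).index = Nat.card (Cfsg.oddCore (X ⧸ N)) := by
      rw [← hker, index_ker, MonoidHom.range_eq_top.2 hρs, card_top]
    have hNc : Nat.card (N.subgroupOf P) = 2 := by
      rw [Nat.card_congr (subgroupOfEquivOfLe hxP).toEquiv, hN, Nat.card_zpowers]
      exact Cfsg.Lib.InvolCalc.order_two_of_mul_self hx2 hx1
    have hO := Cfsg.Lib.AltEightType.odd_oddCore (X ⧸ N)
    obtain ⟨K, hK⟩ := exists_right_complement'_of_coprime (N := N.subgroupOf P) (by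
      rw [hidx, hNc]; exact Nat.coprime_two_left.2 hO)
    have hKodd : Odd (Nat.card K) := by
      rw [← hK.symm.index_eq_card, hidx]; exact hO
    set m := Nat.card K with hm
    have hKmem : ∀ p : P, p ^ m = 1 → p ∈ K := by
      intro p hp
      obtain ⟨⟨n, k⟩, hnk⟩ := hK.2 p
      have hnk' : (n : P) * k = p := hnk
      rcases hNmem (show ((n : P) : X) ∈ N from n.2) with e | e
      · rw [← hnk', show (n : P) = 1 from Subtype.ext e, one_mul]; exact k.2
      · exfalso
        have hcn : Commute (n : P) (k : P) := Subtype.ext (by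
          show ((n : P) : X) * ((k : P) : X) = ((k : P) : X) * ((n : P) : X)
          rw [e, hxc])
        have hkm : (k : P) ^ m = 1 := by
          have := pow_card_eq_one' (x := k)
          exact congrArg Subtype.val this
        rw [← hnk', hcn.mul_pow, hkm, mul_one] at hp
        obtain ⟨j, hj⟩ := hKodd
        rw [hj, pow_succ, pow_mul, pow_two, show (n : P) * n = 1 from Subtype.ext (by
          show ((n : P) : X) * ((n : P) : X) = 1
          rw [e, hx2]), one_pow, one_mul] at hp
        exact hx1 (e.symm.trans (congrArg Subtype.val hp))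
    let O : Subgroup G := (K.map P.subtype).map X.subtype
    have hOodd : Odd (Nat.card O) := by
      rw [card_map_of_injective X.subtype_injective, card_map_of_injective P.subtype_injective]; exact hKodd
    have hOn : ∀ w, ∀ p ∈ O, S.el w * p * (S.el w)⁻¹ ∈ O := by
      rintro w _ ⟨_, ⟨k, hk, rfl⟩, rfl⟩
      let y : X := ⟨S.el w, mem_centralizer_singleton_iff.2 (S.el_comm w 23)⟩
      have hy : y * (k : X) * y⁻¹ ∈ P :=
        (Normal.comap (inferInstance : (Cfsg.oddCore (X ⧸ N)).Normal) π).conj_mem _ k.2 y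
      refine ⟨y * (k : X) * y⁻¹, ⟨⟨_, hy⟩, hKmem _ (Subtype.ext ?_), rfl⟩, rfl⟩
      show (y * (k : X) * y⁻¹) ^ m = 1
      have hkm : (k : P) ^ m = 1 := congrArg Subtype.val (pow_card_eq_one' (x := (⟨k, hk⟩ : K)))
      rw [conj_pow, show (k : X) ^ m = 1 from congrArg Subtype.val hkm]
      group
    have hO1 := Setting.odd_normalised hS hOodd hOn
    have hK1 : Nat.card K = 1 := by
      rw [← card_map_of_injective P.subtype_injective, ← card_map_of_injective X.subtype_injective]
      show Nat.card O = 1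
      rw [hO1, card_bot]
    exact Subgroup.eq_bot_of_card_eq _ (by rw [← hidx, hK.symm.index_eq_card]; exact hK1)
  intro g hg
  obtain ⟨k, hk, hkg⟩ := Cfsg.Lib.AltEightType.isolated_of_commuting (C := ⊤) (mem_top _) hiso.1
    (fun q _ => hiso.2 q) (mem_top (π ⟨g, hg⟩))
  have hk1 : k = 1 := by
    haveI : (Cfsg.Lib.AltEightType.core (⊤ : Subgroup (X ⧸ N))).Normal :=
      ⟨fun y hy z => (mem_normalizer_iff.1 (Cfsg.Lib.AltEightType.core_normalized (mem_top z)) y).1 hy⟩
    have h := Cfsg.Lib.AltEightType.le_oddCore (Cfsg.Lib.AltEightType.odd_core (⊤ : Subgroup (X ⧸ N))) hk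
    rw [hcore] at h
    exact h
  rw [hk1, inv_one, one_mul, mem_centralizer_singleton_iff] at hkg
  have h' : π (⟨g, hg⟩ * a * ⟨g, hg⟩⁻¹) = π a := by
    rw [map_mul, map_mul, map_inv, hkg]; group
  refine S.back_in D.cent_le (fun v hv => D.conj_all hS hv) ?_
  rcases hπ h'.symm with e | e
  · rw [show g * S.α * g⁻¹ = S.α from congrArg Subtype.val e]
    exact D.cent_le ⟨αm, rfl⟩
  · rw [show g * S.α * g⁻¹ = S.α * S.el 23 from congrArg Subtype.val e, haxA]
    exact D.cent_le ⟨pa 2, rfl⟩

theorem top (hS : ∀ v, S.o v = oSp v) : D.θ.range = ⊤ := by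
  refine S.top_of_criterion D.simple D.cent_le (fun v hv => D.conj_all hS hv)
    (fun N hN hodd => Setting.odd_normalised hS hodd fun w p hp => hN.conj_mem p hp _) fun w hw hne => ?_
  obtain ⟨k, rfl⟩ := act_six w (by rw [← hS]; exact hw) hne
  intro g hg
  have hkH : S.φ (pk k) ∈ D.θ.range := D.cent_le ⟨pk k, rfl⟩
  have e : S.el (axor 21 (act k 2)) = S.φ (pk k) * S.el 23 * (S.φ (pk k))⁻¹ := by
    rw [S.φ_el]
    congr 1
    exact act_pair k
  have hg' : (S.φ (pk k))⁻¹ * g * S.φ (pk k) ∈ D.θ.range := D.cent_pair hS (mem_centralizer_singleton_iff.2 (by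
    have h := mem_centralizer_singleton_iff.1 hg
    rw [e] at h
    calc (S.φ (pk k))⁻¹ * g * S.φ (pk k) * S.el 23
        = (S.φ (pk k))⁻¹ * (g * (S.φ (pk k) * S.el 23 * (S.φ (pk k))⁻¹)) * S.φ (pk k) := by group
      _ = (S.φ (pk k))⁻¹ * (S.φ (pk k) * S.el 23 * (S.φ (pk k))⁻¹ * g) * S.φ (pk k) := by rw [h]
      _ = S.el 23 * ((S.φ (pk k))⁻¹ * g * S.φ (pk k)) := by group))
  have := mul_mem (mul_mem hkH hg') (inv_mem hkH)
  rwa [show S.φ (pk k) * ((S.φ (pk k))⁻¹ * g * S.φ (pk k)) * (S.φ (pk k))⁻¹ = g by group] at this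

end SpSubgroup

namespace Setting

variable {S : Setting G}

/-- The symplectic case. -/
theorem symplectic_case (hS : ∀ v, S.o v = oSp v) :
    ∃ (F : Type) (_ : Field F) (_ : Fintype F), Fintype.card F = 2 ∧ Nonempty (G ≃* Cfsg.PSp 3 F) := by
  obtain ⟨S', -, hS', hw⟩ := exists_normal hS
  obtain ⟨D⟩ := exists_sub hS' hw
  haveI : Fact (Nat.Prime 2) := ⟨Nat.prime_two⟩
  refine ⟨ZMod 2, inferInstance, inferInstance, ZMod.card 2, ⟨?_⟩⟩
  have e1 : Sp6 ≃* G := ((MonoidHom.ofInjective D.inj).trans (MulEquiv.subgroupCongr (D.top hS'))).trans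
    Subgroup.topEquiv
  obtain ⟨-, hc⟩ := Cfsg.Lib.FiOuter.card_sp
  exact e1.symm.trans ((QuotientGroup.quotientMulEquivOfEq hc).trans QuotientGroup.quotientBot).symm

end Setting

end Cfsg.Lib.AltTwelveType
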