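import Cfsg.Agent.AltTwelveType.AltOrbit
import Cfsg.Agent.AltTwelveType.Flip

/-!
The symplectic case: after a normalisation an involution of the linear group in three dimensions is induced.
-/

set_option autoImplicit false
set_option linter.unusedSectionVars false
set_option linter.style.haveILetI false
set_option maxRecDepth 100000
set_option maxHeartbeats 1000000

namespace Cfsg.Lib.AltTwelveType

open Subgroup

/-- the seven points -/
def sevT : List (Fin 64) := [21, 2, 3, 8, 12, 32, 48]
/-- a point -/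
def sev (i : ℕ) : Fin 64 := sevT.getD i 0
/-- the first involution, as images of the unit vectors -/
def wA : Fin 64 → Fin 64 := linA [22, 21, 40, 8, 60, 12]
/-- the second involution -/
def wB : Fin 64 → Fin 64 := linA [22, 21, 56, 8, 44, 32]

/-- the place of a point -/
def sevPos (v : Fin 64) : ℕ := sevT.idxOf v

/-- the action of the complement on the seven places -/
def kp (k : Fin 24) (i : ℕ) : ℕ := sevPos (act k (sev i))

/-- the contradiction words -/
def badWords : List (Fin 24 × Option (Fin 24)) :=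
  [(0, some 3), (4, some 6), (0, some 5), (4, some 1), (0, some 12), (0, some 14), (12, some 2), (0, some 4),
    (0, none), (4, some 12), (4, some 5), (4, some 14)]

/-- a word in a map of the places -/
def wordP (p : ℕ → ℕ) : Fin 24 × Option (Fin 24) → ℕ → ℕ
  | (k, none), i => p (kp k (p i))
  | (k, some l), i => p (kp k (p (kp l (p i))))

/-- a word in a map of the coordinates -/
def wordV (θ : Fin 64 → Fin 64) : Fin 24 × Option (Fin 24) → Fin 64 → Fin 64
  | (k, none) => θ ∘ act k ∘ θ
  | (k, some l) => θ ∘ act k ∘ θ ∘ act l ∘ θ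

/-- orderings -/
def arrange : ℕ → List ℕ → List (List ℕ)
  | 0, _ => [[]]
  | n + 1, l => l.flatMap fun x => (arrange n (l.filter (· != x))).map (List.cons x)

theorem mem_arrange : ∀ (n : ℕ) (q l : List ℕ), q.length = n → q.Nodup → (∀ x ∈ q, x ∈ l) → q ∈ arrange n l := by
  intro n
  induction n with
  | zero => intro q l hq _ _; simp [arrange, List.eq_nil_of_length_eq_zero hq]
  | succ n ih =>
    intro q l hq hn hl
    match q, hq, hn, hl with
    | x :: q', hq, hn, hl =>
      rw [List.nodup_cons] at hn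
      simp only [arrange, List.mem_flatMap, List.mem_map]
      refine ⟨x, hl x List.mem_cons_self, q', ih q' _ (by simpa using hq) hn.2 fun y hy => ?_, rfl⟩
      simp only [List.mem_filter, bne_iff_ne, ne_eq]
      exact ⟨hl y (List.mem_cons_of_mem _ hy), fun e => hn.1 (e ▸ hy)⟩

/-- the test of one candidate -/
def sevTest (q : List ℕ) : Bool :=
  let p : ℕ → ℕ := fun i => (1 :: q).getD i 7
  ((List.finRange 24).any fun k =>
      ((List.range 7).all fun i => p (kp k i) == [1, 0, 2, 3, 5, 4, 6].getD i 7) ||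
        ((List.range 7).all fun i => p (kp k i) == [1, 0, 2, 3, 6, 5, 4].getD i 7)) ||
    badWords.any fun w => (wordP p w 0 == 0) &&
      (List.finRange 24).all fun k => (List.range 7).any fun i => !(wordP p w i == kp k i)

theorem sev_cases : (arrange 6 [0, 2, 3, 4, 5, 6]).all sevTest = true := by decide +kernel

theorem sev_facts : (∀ i < 7, oSp (sev i) = true ∧ sevPos (sev i) = i) ∧
    (∀ v : Fin 64, oSp v = true → sev (sevPos v) = v ∧ sevPos v < 7) ∧
    (∀ k : Fin 24, ∀ i < 7, act k (sev i) = sev (kp k i) ∧ kp k i < 7) := by decide +kernel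

theorem sev_units : axor (sev 1) (sev 2) = 1 ∧ sev 1 = 2 ∧ axor (sev 3) (sev 4) = 4 ∧ sev 3 = 8 ∧
    axor (sev 5) (sev 6) = 16 ∧ sev 5 = 32 := by decide +kernel

theorem wA_sev : ∀ i < 7, wA (sev i) = sev ([1, 0, 2, 3, 5, 4, 6].getD i 7) := by decide +kernel
theorem wB_sev : ∀ i < 7, wB (sev i) = sev ([1, 0, 2, 3, 6, 5, 4].getD i 7) := by decide +kernel
theorem wA_add : ∀ v w : Fin 64, wA (axor v w) = axor (wA v) (wA w) := by decide +kernel
theorem wB_add : ∀ v w : Fin 64, wB (axor v w) = axor (wB v) (wB w) := by decide +kernel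
theorem wB_flip : ∀ v, fA (wB (fA v)) = wA v := by decide +kernel

/-- Linear maps agreeing on the seven points are equal. -/
theorem eq_on_sev {θ η : Fin 64 → Fin 64} (hθ : ∀ v w, θ (axor v w) = axor (θ v) (θ w))
    (hη : ∀ v w, η (axor v w) = axor (η v) (η w)) (h : ∀ i < 7, θ (sev i) = η (sev i)) : θ = η := by
  obtain ⟨e1, e2, e4, e8, e16, e32⟩ := sev_units
  funext v
  rw [lin_eval θ hθ v, lin_eval η hη v, ← e1, ← e2, ← e4, ← e8, ← e16, ← e32]
  simp only [hθ, hη, h 1 (by norm_num), h 2 (by norm_num), h 3 (by norm_num), h 4 (by norm_num),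
    h 5 (by norm_num), h 6 (by norm_num)]

namespace Setting

variable {G : Type*} [Group G] [Finite G] {S : Setting G}

theorem ind_w (hS : ∀ v, S.o v = oSp v) : S.Ind wA ∨ S.Ind wB := by
  obtain ⟨θ, hθ, h21⟩ := S.ind_theta (v := 2) (by rw [hS]; decide +kernel)
  have ho : ∀ i < 7, oSp (θ (sev i)) = true := fun i hi => by
    rw [← hS, hθ.o_eq S, hS]; exact (sev_facts.1 i hi).1
  let p : ℕ → ℕ := fun i => if i < 7 then sevPos (θ (sev i)) else 7
  have hpv : ∀ i < 7, θ (sev i) = sev (p i) ∧ p i < 7 := fun i hi => by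
    simp only [p, if_pos hi]
    exact ⟨(sev_facts.2.1 _ (ho i hi)).1.symm, (sev_facts.2.1 _ (ho i hi)).2⟩
  have hp0 : p 0 = 1 := by
    simp only [p, if_pos (by norm_num : 0 < 7), show sev 0 = 21 from rfl, h21]; rfl
  have hpinj : ∀ i < 7, ∀ j < 7, p i = p j → i = j := fun i hi j hj e => by
    have h := hθ.injective S ((hpv i hi).1.trans (by rw [e, ← (hpv j hj).1]))
    rw [← (sev_facts.1 i hi).2, h, (sev_facts.1 j hj).2]
  let q : List ℕ := [p 1, p 2, p 3, p 4, p 5, p 6]
  have hmem : q ∈ arrange 6 [0, 2, 3, 4, 5, 6] := by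
    refine mem_arrange 6 q _ rfl ?_ fun x hx => ?_
    · show ([1, 2, 3, 4, 5, 6].map p).Nodup
      refine List.Nodup.map_on (fun i hi j hj => hpinj i ?_ j ?_) (by decide)
      · simp at hi; omega
      · simp at hj; omega
    · obtain ⟨i, hi, rfl⟩ : ∃ i, (1 ≤ i ∧ i < 7) ∧ p i = x := by
        simp only [q, List.mem_cons, List.not_mem_nil, or_false] at hx
        rcases hx with h | h | h | h | h | h <;> exact ⟨_, by norm_num, h.symm⟩
      have h7 := (hpv i hi.2).2
      have h1 : p i ≠ 1 := fun e => absurd (hpinj i hi.2 0 (by norm_num) (e.trans hp0.symm)) (by omega)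
      simp only [List.mem_cons, List.not_mem_nil, or_false]
      omega
  have hpq : ∀ i, i < 7 → (1 :: q).getD i 7 = p i := fun i hi => by
    interval_cases i <;> first | exact hp0.symm | rfl
  have htest := List.all_eq_true.1 sev_cases q hmem
  simp only [sevTest, Bool.or_eq_true, List.any_eq_true, List.all_eq_true, beq_iff_eq, Bool.and_eq_true,
    List.mem_range, Bool.not_eq_true', beq_eq_false_iff_ne, ne_eq] at htest
  rcases htest with ⟨k, -, hk⟩ | ⟨w, -, hw0, hw⟩
  · have hh := hθ.comp S (S.ind_act k)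
    have hval : ∀ i < 7, (θ ∘ act k) (sev i) = sev (p (kp k i)) := fun i hi => by
      show θ (act k (sev i)) = _
      rw [(sev_facts.2.2 k i hi).1, (hpv _ (sev_facts.2.2 k i hi).2).1]
    rcases hk with hk | hk
    · left
      rw [← eq_on_sev (hh.add S) wA_add fun i hi => by
        rw [hval i hi, wA_sev i hi, ← hk i hi, hpq _ (sev_facts.2.2 k i hi).2]]
      exact hh
    · right
      rw [← eq_on_sev (hh.add S) wB_add fun i hi => by
        rw [hval i hi, wB_sev i hi, ← hk i hi, hpq _ (sev_facts.2.2 k i hi).2]]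
      exact hh
  · exfalso
    have hind : S.Ind (wordV θ w) := by
      obtain ⟨k, _ | l⟩ := w
      · exact hθ.comp S ((S.ind_act k).comp S hθ)
      · exact hθ.comp S ((S.ind_act k).comp S (hθ.comp S ((S.ind_act l).comp S hθ)))
    have hval : ∀ i < 7, wordV θ w (sev i) = sev (wordP (fun i => (1 :: q).getD i 7) w i) ∧
        wordP (fun i => (1 :: q).getD i 7) w i < 7 := by
      intro i hi
      obtain ⟨k, _ | l⟩ := w
      · have h1 := hpv i hi
        have h2 := sev_facts.2.2 k _ h1.2
        have h3 := hpv _ h2.2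
        simp only [wordV, wordP, Function.comp_apply]
        rw [h1.1, h2.1, h3.1, hpq i hi, hpq _ h2.2]
        exact ⟨rfl, h3.2⟩
      · have h1 := hpv i hi
        have h2 := sev_facts.2.2 l _ h1.2
        have h3 := hpv _ h2.2
        have h4 := sev_facts.2.2 k _ h3.2
        have h5 := hpv _ h4.2
        simp only [wordV, wordP, Function.comp_apply]
        rw [h1.1, h2.1, h3.1, h4.1, h5.1, hpq i hi, hpq _ h2.2, hpq _ h4.2]
        exact ⟨rfl, h5.2⟩
    obtain ⟨k, hk⟩ := hind.stab S (by
      rw [show (21 : Fin 64) = sev 0 from rfl, (hval 0 (by norm_num)).1, hw0])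
    obtain ⟨i, hi, hne⟩ := hw k (List.mem_finRange k)
    apply hne
    have h := (hval i hi).1
    rw [hk, (sev_facts.2.2 k i hi).1] at h
    rw [← (sev_facts.1 _ (hval i hi).2).2, ← h, (sev_facts.1 _ (sev_facts.2.2 k i hi).2).2]

/-- After a normalisation the first involution is induced. -/
theorem exists_normal (hS : ∀ v, S.o v = oSp v) :
    ∃ S' : Setting G, S'.α = S.α ∧ (∀ v, S'.o v = oSp v) ∧ S'.Ind wA := by
  rcases ind_w hS with h | h
  · exact ⟨S, rfl, hS, h⟩
  · refine ⟨S.flipped, S.flipped_alpha, fun v => by rw [S.flipped_o, hS, fA_facts.2.2], ?_⟩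
    rw [← show fA ∘ wB ∘ fA = wA from funext wB_flip]
    exact S.flipped_ind h

end Setting

end Cfsg.Lib.AltTwelveType
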