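import Cfsg.Agent.AltTwelveType.SpGen
import Cfsg.Agent.AltTwelveType.SpKer

/-!
The symplectic case: the symplectic subgroup contains the centraliser of the central involution.
-/

set_option autoImplicit false
set_option linter.unusedSectionVars false
set_option linter.style.haveILetI false
set_option maxRecDepth 10000
set_option maxHeartbeats 1000000

namespace Cfsg.Lib.AltTwelveType

open Subgroup Cfsg.Lib.SpCentre

universe u

variable {G : Type u} [Group G] [Finite G]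

theorem act_six : ∀ d : Fin 64, oSp d = true → d ≠ 21 → ∃ k : Fin 24, act k 2 = d := by decide +kernel

theorem gen_vecs : spGen 1 = Cfsg.Lib.SpTwo.tv (Cfsg.Lib.SpSixTwo.vec 1) ∧
    spGen 6 = Cfsg.Lib.SpTwo.tv (Cfsg.Lib.SpSixTwo.vec 2) := ⟨rfl, rfl⟩

/-- The centraliser of a transvection is large. -/
theorem card_stab : 23040 ≤ Nat.card {g : Sp6 // g * spGen 1 * g⁻¹ = spGen 1} := by
  classical
  let pt : Sp6 → {a : Fin 64 // a ≠ 0} := fun g =>
    ⟨⟨Cfsg.Lib.SpSixTwo.actV g 1, Cfsg.Lib.SpSixTwo.actV_lt g 1⟩, fun e => by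
      have h0 : Cfsg.Lib.SpSixTwo.actV g 1 = 0 := congrArg Fin.val e
      have h1 := Cfsg.Lib.SpSixTwo.actV_mul g⁻¹ g 1
      rw [inv_mul_cancel, Cfsg.Lib.SpSixTwo.actV_one (by norm_num), h0] at h1
      have hz : Cfsg.Lib.SpSixTwo.actV g⁻¹ 0 = 0 := by
        rw [Cfsg.Lib.SpSixTwo.actV, show Cfsg.Lib.SpSixTwo.vec 0 = 0 by decide +kernel, Matrix.mulVec_zero]
        decide +kernel
      omega⟩
  let sec : {a : Fin 64 // a ≠ 0} → Sp6 := fun a => if h : ∃ g, pt g = a then h.choose else 1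
  have hsec : ∀ g, pt (sec (pt g)) = pt g := fun g => by
    have h : ∃ g', pt g' = pt g := ⟨g, rfl⟩
    simp only [sec, dif_pos h]
    exact h.choose_spec
  have hmem : ∀ g, (sec (pt g))⁻¹ * g * spGen 1 * ((sec (pt g))⁻¹ * g)⁻¹ = spGen 1 := fun g => by
    have e : Cfsg.Lib.SpSixTwo.actV (sec (pt g)) 1 = Cfsg.Lib.SpSixTwo.actV g 1 :=
      congrArg (fun a => a.1.val) (hsec g)
    have conj : ∀ k : Sp6, k * spGen 1 * k⁻¹ =
        Cfsg.Lib.SpTwo.tv (Cfsg.Lib.SpSixTwo.vec (Cfsg.Lib.SpSixTwo.actV k 1)) := fun k => by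
      rw [gen_vecs.1, Cfsg.Lib.SpTwo.tv_conj, Cfsg.Lib.SpSixTwo.actV, Cfsg.Lib.SpSixTwo.vec_code]
    rw [show (sec (pt g))⁻¹ * g * spGen 1 * ((sec (pt g))⁻¹ * g)⁻¹ =
      (sec (pt g))⁻¹ * (g * spGen 1 * g⁻¹) * sec (pt g) by group, conj g, ← e, ← conj (sec (pt g))]
    group
  let f : Sp6 → {a : Fin 64 // a ≠ 0} × {g : Sp6 // g * spGen 1 * g⁻¹ = spGen 1} :=
    fun g => (pt g, ⟨_, hmem g⟩)
  have hf : Function.Injective f := fun a b e => by
    have e1 : pt a = pt b := congrArg Prod.fst e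
    have e2 : (sec (pt a))⁻¹ * a = (sec (pt b))⁻¹ * b := congrArg (fun q => q.2.1) e
    rw [e1] at e2
    exact mul_left_cancel e2
  have h := Nat.card_le_card_of_injective f hf
  rw [Nat.card_prod, Cfsg.Lib.SpSixTwo.card_Sp, Nat.card_eq_fintype_card (α := {a : Fin 64 // a ≠ 0}),
    Fintype.card_subtype_compl, Fintype.card_fin, Fintype.card_subtype_eq] at h
  omega

/-- The symplectic subgroup. -/
theorem Frame3.exists_hom {S : Setting G} (F : Frame3 S) (hS : ∀ v, S.o v = oSp v) (hw : S.Ind wA) :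
    ∃ θ : Sp6 →* G, Function.Injective θ ∧ ∀ i, θ (spGen i) = F.vv i := by
  classical
  haveI : Finite CoxeterMatrix.E₇.Group := Nat.finite_of_card_ne_zero (by
    rw [Cfsg.Lib.Chev.E7.natCard_coxeter]; norm_num)
  let toG : CoxeterMatrix.E₇.Group →* G := csE7.lift ⟨F.vv, F.vv_rel hS hw⟩
  have toG_simple : ∀ i, toG (csE7.simple i) = F.vv i := fun i => csE7.lift_apply_simple (F.vv_rel hS hw) i
  have hk : toSp.ker ≤ toG.ker := by
    intro z hz
    have hcard : Nat.card toSp.ker = 2 := by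
      have h := Subgroup.card_eq_card_quotient_mul_card_subgroup toSp.ker
      rw [Nat.card_congr (QuotientGroup.quotientKerEquivOfSurjective toSp toSp_surjective).toEquiv,
        Cfsg.Lib.SpSixTwo.card_Sp, Cfsg.Lib.Chev.E7.natCard_coxeter] at h
      omega
    by_cases hz1 : z = 1
    · rw [hz1]; exact one_mem _
    have hc : ∀ w, w * z = z * w := by
      intro w
      have hm : w * z * w⁻¹ ∈ toSp.ker := (MonoidHom.normal_ker toSp).conj_mem z hz w
      obtain ⟨a, ha, huniq⟩ := Nat.card_eq_two_iff' (1 : toSp.ker) |>.1 hcard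
      have : (⟨_, hm⟩ : toSp.ker) = ⟨z, hz⟩ := by
        rw [huniq ⟨_, hm⟩ (fun e => hz1 (conj_eq_one_iff.1 (congrArg Subtype.val e))),
          huniq ⟨z, hz⟩ (fun e => hz1 (congrArg Subtype.val e))]
      exact mul_inv_eq_iff_eq_mul.1 (congrArg Subtype.val this)
    set y := toG z
    have hy : ∀ i, y * F.vv i = F.vv i * y := fun i => by
      rw [← toG_simple, ← map_mul, ← map_mul, hc]
    obtain ⟨m, hm⟩ := S.mem_cent.1 (show y * S.α = S.α * y from hy 1)
    obtain ⟨p, q, hok, e3⟩ := Setting.Tv.form hS F.h3 List.mem_cons_self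
    obtain ⟨p', q', hok', e2⟩ := Setting.Tv.form hS F.h2 List.mem_cons_self
    have hmm : ∀ {n : Mh} {i : Fin 7}, F.vv i = S.φ n → m * n = n * m := fun {n i} e => S.inj (by
      rw [map_mul, map_mul, hm, ← e]; exact hy i)
    rcases small_cent hok hok' (S.inj (by rw [map_mul, map_mul, ← e3, ← e2]; exact F.c32))
      (hmm (i := 6) rfl) (hmm (i := 2) rfl) (hmm (i := 0) e3) (hmm (i := 5) e2) with rfl | rfl
    · exact MonoidHom.mem_ker.2 (hm.symm.trans (map_one _))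
    · exfalso
      have h3 := hy 3
      rw [← hm] at h3
      have hcube : (S.el 21 * F.u1) ^ 3 = 1 := (F.cubes hS hw).2.1
      rw [(show Commute (S.el 21) F.u1 from h3).mul_pow, pow_three, pow_three, S.el_sq, F.h1.sq, mul_one, mul_one] at hcube
      refine F.h1.2.1 ?_
      have : F.u1 = S.el 21 := by
        calc F.u1 = S.el 21 * S.el 21 * F.u1 := by rw [S.el_sq, one_mul]
          _ = S.el 21 * (S.el 21 * F.u1) := mul_assoc _ _ _
          _ = S.el 21 := by rw [hcube, mul_one]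
      rw [this]; exact S.el_mem 21
  obtain ⟨θ, hθ⟩ : ∃ θ : Sp6 →* G, ∀ w, θ (toSp w) = toG w :=
    ⟨MonoidHom.liftOfSurjective toSp toSp_surjective ⟨toG, hk⟩,
      fun w => MonoidHom.liftOfRightInverse_comp_apply _ _ _ _ w⟩
  have hgen : ∀ i, θ (spGen i) = F.vv i := fun i => by rw [← toSp_simple, hθ, toG_simple]
  refine ⟨θ, ?_, hgen⟩
  haveI := sp6_simple
  rcases θ.normal_ker.eq_bot_or_eq_top with h | h
  · exact (MonoidHom.ker_eq_bot_iff θ).1 h
  · exfalso
    have h1 : θ (spGen 1) = 1 := MonoidHom.mem_ker.1 (h ▸ mem_top _)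
    rw [hgen] at h1
    exact S.α_ne h1

/-- what the recognition uses of the symplectic subgroup -/
structure SpSubgroup (S : Setting G) where
  /-- the embedding -/
  θ : Sp6 →* G
  inj : Function.Injective θ
  gen1 : θ (spGen 1) = S.α
  gen6 : θ (spGen 6) = S.el 2
  cent_le : S.φ.range ≤ θ.range

namespace Setting

variable {S : Setting G}

theorem exists_sub (hS : ∀ v, S.o v = oSp v) (hw : S.Ind wA) : Nonempty (SpSubgroup S) := by
  obtain ⟨F⟩ := exists_frame3 hS hw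
  obtain ⟨θ, hinj, hgen⟩ := F.exists_hom hS hw
  refine ⟨⟨θ, hinj, hgen 1, hgen 6, ?_⟩⟩
  let f : {g : Sp6 // g * spGen 1 * g⁻¹ = spGen 1} → S.φ.range := fun g => ⟨θ g.1, by
    refine MonoidHom.mem_range.2 (S.mem_cent.1 ?_)
    have h := congrArg θ g.2
    rw [map_mul, map_mul, map_inv, hgen] at h
    exact mul_inv_eq_iff_eq_mul.1 h⟩
  have hf : Function.Injective f := fun a b e => Subtype.ext (hinj (congrArg Subtype.val e))
  have hsurj : Function.Surjective f := by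
    have hc : Nat.card S.φ.range = 23040 := by
      rw [← Nat.card_congr (MonoidHom.ofInjective S.inj).toEquiv, card_Mh]
    have hle := Nat.card_le_card_of_injective f hf
    exact (hf.bijective_of_nat_card_le (by rw [hc]; exact card_stab)).2
  intro x hx
  obtain ⟨g, hg⟩ := hsurj ⟨x, hx⟩
  exact ⟨g.1, congrArg Subtype.val hg⟩

end Setting

namespace SpSubgroup

variable {S : Setting G} (D : SpSubgroup S)

theorem simple : IsSimpleGroup D.θ.range := by
  haveI := sp6_simple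
  exact MulEquiv.isSimpleGroup (MonoidHom.ofInjective D.inj).symm

theorem conj_two : ∃ h ∈ D.θ.range, h * S.α * h⁻¹ = S.el 2 := by
  obtain ⟨g, hg⟩ : ∃ g : Sp6, g * spGen 1 * g⁻¹ = spGen 6 := by
    obtain ⟨k1, e1⟩ : ∃ k : Sp6, k * spGen 1 * k⁻¹ = spGen 3 := ⟨spGen 1 * spGen 3,
      braid_conj (Cfsg.Lib.SpTwo.tv_sq _) (Cfsg.Lib.SpTwo.tv_sq _) (spGen_rel 1 3)⟩
    obtain ⟨k2, e2⟩ : ∃ k : Sp6, k * spGen 3 * k⁻¹ = spGen 4 := ⟨spGen 3 * spGen 4,
      braid_conj (Cfsg.Lib.SpTwo.tv_sq _) (Cfsg.Lib.SpTwo.tv_sq _) (spGen_rel 3 4)⟩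
    obtain ⟨k3, e3⟩ : ∃ k : Sp6, k * spGen 4 * k⁻¹ = spGen 5 := ⟨spGen 4 * spGen 5,
      braid_conj (Cfsg.Lib.SpTwo.tv_sq _) (Cfsg.Lib.SpTwo.tv_sq _) (spGen_rel 4 5)⟩
    obtain ⟨k4, e4⟩ : ∃ k : Sp6, k * spGen 5 * k⁻¹ = spGen 6 := ⟨spGen 5 * spGen 6,
      braid_conj (Cfsg.Lib.SpTwo.tv_sq _) (Cfsg.Lib.SpTwo.tv_sq _) (spGen_rel 5 6)⟩
    exact ⟨k4 * k3 * k2 * k1, by rw [← e4, ← e3, ← e2, ← e1]; group⟩
  refine ⟨D.θ g, ⟨g, rfl⟩, ?_⟩
  rw [← D.gen1, ← D.gen6, ← hg, map_mul, map_mul, map_inv]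
where
  braid_conj {a b : Sp6} (ha : a * a = 1) (hb : b * b = 1) (h : (a * b) ^ 3 = 1) :
      a * b * a * (a * b)⁻¹ = b := by
    have h' : a * b * a = b * a * b := by
      have e : a * b * (a * b) * (a * b) = 1 := by rw [← h, pow_three, mul_assoc]
      calc a * b * a = a * b * (a * b) * (a * b) * (b⁻¹ * a⁻¹ * b⁻¹) := by group
        _ = b * a * b := by rw [e, one_mul, inv_eq_of_mul_eq_one_right ha, inv_eq_of_mul_eq_one_right hb]
    rw [h', mul_inv_rev, inv_eq_of_mul_eq_one_right ha, inv_eq_of_mul_eq_one_right hb]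
    calc b * a * b * (b * a) = b * a * (b * b) * a := by group
      _ = b * (a * a) := by rw [hb, mul_one, mul_assoc]
      _ = b := by rw [ha, mul_one]

theorem conj_all (hS : ∀ v, S.o v = oSp v) {v : Fin 64} (hv : S.o v = true) :
    ∃ h ∈ D.θ.range, h * S.α * h⁻¹ = S.el v := by
  by_cases h21 : v = 21
  · exact ⟨1, one_mem _, by rw [h21, S.el_alpha]; group⟩
  obtain ⟨k, rfl⟩ := act_six v (by rw [← hS]; exact hv) h21
  obtain ⟨h, hh, e⟩ := D.conj_two
  refine ⟨S.φ (pk k) * h, mul_mem (D.cent_le ⟨pk k, rfl⟩) hh, ?_⟩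
  rw [← S.φ_el, ← e]; group

end SpSubgroup

end Cfsg.Lib.AltTwelveType
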